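import Mathlib
import Cfsg.Agent.Lib.Basic.MinNormal
import Cfsg.Agent.Lib.Basic.Core
import Cfsg.Agent.Lib.Basic.Solv1
import Cfsg.Agent.Lib.Char.PBlock
import Cfsg.Agent.Lib.OddLocal.UniqueP2
import Cfsg.Agent.Lib.Struct.PLen
import Cfsg.Agent.Lib.Coprime.PSolvable

/-!
# Finite soluble groups in which abelian subgroups of equal order are conjugate

The property passes to quotients.
-/

set_option autoImplicit false
set_option linter.unusedSectionVars false
set_option linter.style.haveILetI false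
set_option linter.unusedVariables false

namespace Cfsg.Agent.Lib.Coprime.BP

open Subgroup Cfsg
open Cfsg.Agent.Lib.OddLocal (UniqueP)
open scoped Pointwise

universe u

variable {G : Type*} [Group G]

/-- Abelian subgroups of equal order are conjugate. -/
def BProp (G : Type*) [Group G] : Prop :=
  ∀ A B : Subgroup G, IsMulCommutative ↥A → IsMulCommutative ↥B → Nat.card ↥A = Nat.card ↥B →
    ∃ g : G, B = A.map (MulAut.conj g).toMonoidHom

theorem map_conj_map {H : Type*} [Group H] (f : G →* H) (A : Subgroup G) (g : G) :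
    (A.map (MulAut.conj g).toMonoidHom).map f = (A.map f).map (MulAut.conj (f g)).toMonoidHom := by
  ext x
  simp only [Subgroup.mem_map, MulEquiv.coe_toMonoidHom, MulAut.conj_apply]
  constructor
  · rintro ⟨_, ⟨a, ha, rfl⟩, rfl⟩
    exact ⟨f a, ⟨a, ha, rfl⟩, by simp⟩
  · rintro ⟨_, ⟨a, ha, rfl⟩, rfl⟩
    exact ⟨g * a * g⁻¹, ⟨a, ha, rfl⟩, by simp⟩

theorem isMulCommutative_map {H : Type*} [Group H] (f : G →* H) (A : Subgroup G)
    (hA : ∀ a ∈ A, ∀ b ∈ A, a * b = b * a) : ∀ a ∈ A.map f, ∀ b ∈ A.map f, a * b = b * a := by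
  rintro _ ⟨a, ha, rfl⟩ _ ⟨b, hb, rfl⟩
  rw [← map_mul, ← map_mul, hA a ha b hb]

theorem mulComm_of_forall {A : Subgroup G} (hA : ∀ a ∈ A, ∀ b ∈ A, a * b = b * a) :
    IsMulCommutative ↥A :=
  ⟨⟨fun a b => Subtype.ext (hA _ a.2 _ b.2)⟩⟩

theorem forall_of_mulComm {A : Subgroup G} (hA : IsMulCommutative ↥A) :
    ∀ a ∈ A, ∀ b ∈ A, a * b = b * a := fun a ha b hb =>
  congrArg Subtype.val (hA.is_comm.comm ⟨a, ha⟩ ⟨b, hb⟩)

theorem BProp.of_equiv {H : Type*} [Group H] (e : G ≃* H) (h : BProp G) : BProp H := by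
  intro A B hA hB hc
  have hcard : ∀ X : Subgroup H, Nat.card (X.map e.symm.toMonoidHom) = Nat.card X := fun X =>
    (Nat.card_congr (Subgroup.equivMapOfInjective X e.symm.toMonoidHom e.symm.injective).toEquiv).symm
  obtain ⟨g, hg⟩ := h (A.map e.symm.toMonoidHom) (B.map e.symm.toMonoidHom)
    (mulComm_of_forall (isMulCommutative_map _ _ (forall_of_mulComm hA)))
    (mulComm_of_forall (isMulCommutative_map _ _ (forall_of_mulComm hB)))
    (by rw [hcard, hcard, hc])
  refine ⟨e g, ?_⟩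
  have h1 : ∀ X : Subgroup H, (X.map e.symm.toMonoidHom).map e.toMonoidHom = X := by
    intro X
    ext x
    simp only [Subgroup.mem_map, MulEquiv.coe_toMonoidHom]
    constructor
    · rintro ⟨_, ⟨a, ha, rfl⟩, rfl⟩
      simpa using ha
    · intro hx
      exact ⟨e.symm x, ⟨x, hx, rfl⟩, by simp⟩
  have h2 := congrArg (Subgroup.map e.toMonoidHom) hg
  rw [h1, map_conj_map, h1] at h2
  exact h2

/-! ### Products of commuting subgroups -/

theorem exists_mul_of_mem_sup (U V : Subgroup G) (hc : ∀ u ∈ U, ∀ v ∈ V, u * v = v * u) {x : G}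
    (hx : x ∈ U ⊔ V) : ∃ u ∈ U, ∃ v ∈ V, x = u * v := by
  let S : Subgroup G :=
    { carrier := {x | ∃ u ∈ U, ∃ v ∈ V, x = u * v}
      mul_mem' := by
        rintro _ _ ⟨u₁, hu₁, v₁, hv₁, rfl⟩ ⟨u₂, hu₂, v₂, hv₂, rfl⟩
        refine ⟨u₁ * u₂, U.mul_mem hu₁ hu₂, v₁ * v₂, V.mul_mem hv₁ hv₂, ?_⟩
        have := hc u₂ hu₂ v₁ hv₁
        calc u₁ * v₁ * (u₂ * v₂) = u₁ * (v₁ * u₂) * v₂ := by group
          _ = u₁ * (u₂ * v₁) * v₂ := by rw [this]
          _ = u₁ * u₂ * (v₁ * v₂) := by group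
      one_mem' := ⟨1, U.one_mem, 1, V.one_mem, by simp⟩
      inv_mem' := by
        rintro _ ⟨u, hu, v, hv, rfl⟩
        refine ⟨u⁻¹, U.inv_mem hu, v⁻¹, V.inv_mem hv, ?_⟩
        have h1 := hc u hu v hv
        rw [mul_inv_rev]
        have h2 : Commute u v := h1
        exact (h2.inv_inv).eq.symm }
  have hle : U ⊔ V ≤ S := by
    refine sup_le (fun u hu => ⟨u, hu, 1, V.one_mem, by simp⟩) (fun v hv => ⟨1, U.one_mem, v, hv, by simp⟩)
  exact hle hx

theorem card_sup_of_comm [Finite G] (U V : Subgroup G) (hc : ∀ u ∈ U, ∀ v ∈ V, u * v = v * u)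
    (hd : U ⊓ V = ⊥) : Nat.card ↥(U ⊔ V) = Nat.card U * Nat.card V := by
  let f : ↥U × ↥V → ↥(U ⊔ V) := fun p =>
    ⟨(p.1 : G) * (p.2 : G), (U ⊔ V).mul_mem (Subgroup.mem_sup_left p.1.2) (Subgroup.mem_sup_right p.2.2)⟩
  have hf : Function.Bijective f := by
    constructor
    · rintro ⟨⟨u₁, hu₁⟩, ⟨v₁, hv₁⟩⟩ ⟨⟨u₂, hu₂⟩, ⟨v₂, hv₂⟩⟩ h
      have h1 : u₁ * v₁ = u₂ * v₂ := congrArg Subtype.val h
      have h2 : u₂⁻¹ * u₁ = v₂ * v₁⁻¹ := by
        calc u₂⁻¹ * u₁ = u₂⁻¹ * (u₁ * v₁) * v₁⁻¹ := by group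
          _ = u₂⁻¹ * (u₂ * v₂) * v₁⁻¹ := by rw [h1]
          _ = v₂ * v₁⁻¹ := by group
      have h3 : u₂⁻¹ * u₁ ∈ U ⊓ V := Subgroup.mem_inf.mpr ⟨U.mul_mem (U.inv_mem hu₂) hu₁, by rw [h2]; exact V.mul_mem hv₂ (V.inv_mem hv₁)⟩
      rw [hd, Subgroup.mem_bot] at h3
      have h4 : u₁ = u₂ := by
        have h5 : u₂⁻¹ * u₁ = 1 := h3
        exact (inv_mul_eq_one.1 h5).symm
      subst h4
      have h5 : v₁ = v₂ := mul_left_cancel h1
      subst h5
      rfl
    · rintro ⟨x, hx⟩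
      obtain ⟨u, hu, v, hv, rfl⟩ := exists_mul_of_mem_sup U V hc hx
      exact ⟨(⟨u, hu⟩, ⟨v, hv⟩), rfl⟩
  rw [← Nat.card_congr (Equiv.ofBijective f hf), Nat.card_prod]

theorem comm_sup (U V : Subgroup G) (hc : ∀ u ∈ U, ∀ v ∈ V, u * v = v * u)
    (hU : ∀ a ∈ U, ∀ b ∈ U, a * b = b * a) (hV : ∀ a ∈ V, ∀ b ∈ V, a * b = b * a) :
    ∀ a ∈ U ⊔ V, ∀ b ∈ U ⊔ V, a * b = b * a := by
  intro a ha b hb
  obtain ⟨u₁, hu₁, v₁, hv₁, rfl⟩ := exists_mul_of_mem_sup U V hc ha
  obtain ⟨u₂, hu₂, v₂, hv₂, rfl⟩ := exists_mul_of_mem_sup U V hc hb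
  have h1 : Commute u₁ u₂ := hU _ hu₁ _ hu₂
  have h2 : Commute v₁ v₂ := hV _ hv₁ _ hv₂
  have h3 : Commute u₁ v₂ := hc _ hu₁ _ hv₂
  have h4 : Commute v₁ u₂ := (hc _ hu₂ _ hv₁).symm
  exact ((h1.mul_right h3).mul_left (h4.mul_right h2)).eq

theorem conj_inv_of_eq {A B : Subgroup G} {g : G} (h : B = A.map (MulAut.conj g).toMonoidHom) :
    A = B.map (MulAut.conj g⁻¹).toMonoidHom := by
  subst h
  ext x
  simp only [Subgroup.mem_map, MulEquiv.coe_toMonoidHom, MulAut.conj_apply]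
  constructor
  · intro hx
    exact ⟨g * x * g⁻¹, ⟨x, hx, rfl⟩, by group⟩
  · rintro ⟨_, ⟨a, ha, rfl⟩, rfl⟩
    convert ha using 1
    group

theorem mem_conj_iff {A : Subgroup G} {g x : G} :
    x ∈ A.map (MulAut.conj g).toMonoidHom ↔ ∃ a ∈ A, x = g * a * g⁻¹ := by
  simp only [Subgroup.mem_map, MulEquiv.coe_toMonoidHom, MulAut.conj_apply]
  constructor
  · rintro ⟨a, ha, rfl⟩
    exact ⟨a, ha, rfl⟩
  · rintro ⟨a, ha, rfl⟩
    exact ⟨a, ha, rfl⟩

theorem card_conj (A : Subgroup G) (g : G) :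
    Nat.card (A.map (MulAut.conj g).toMonoidHom) = Nat.card A :=
  (Nat.card_congr (Subgroup.equivMapOfInjective A (MulAut.conj g).toMonoidHom
    (MulAut.conj g).injective).toEquiv).symm

/-- Two Sylow subgroups contained in a subgroup `C` are conjugate under `C`. -/
theorem sylow_conj_in [Finite G] {p : ℕ} [Fact p.Prime] (C : Subgroup G) (S₁ S₂ : Sylow p G)
    (h₁ : (S₁ : Subgroup G) ≤ C) (h₂ : (S₂ : Subgroup G) ≤ C) :
    ∃ h ∈ C, (S₂ : Subgroup G) = (S₁ : Subgroup G).map (MulAut.conj h).toMonoidHom := by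
  obtain ⟨h, hh⟩ := MulAction.exists_smul_eq ↥C (S₁.subtype h₁) (S₂.subtype h₂)
  refine ⟨h, h.2, ?_⟩
  symm
  apply Subgroup.eq_of_le_of_card_ge
  · intro x hx
    obtain ⟨a, ha, rfl⟩ := mem_conj_iff.1 hx
    have h3 : (⟨a, h₁ ha⟩ : ↥C) ∈ ((S₁.subtype h₁ : Sylow p ↥C) : Subgroup ↥C) := by
      rw [Sylow.coe_subtype]
      exact ha
    have h4 : (MulAut.conj h) (⟨a, h₁ ha⟩ : ↥C) ∈ MulAut.conj h • ((S₁.subtype h₁ : Sylow p ↥C) : Subgroup ↥C) :=
      Subgroup.smul_mem_pointwise_smul _ _ _ h3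
    rw [← Sylow.coe_subgroup_smul, hh, Sylow.coe_subtype] at h4
    exact h4
  · rw [card_conj, Sylow.card_eq_multiplicity, Sylow.card_eq_multiplicity]

/-! ### Lifting elements -/

section core

variable [Finite G] {M : Subgroup G} [hMn : M.Normal] {r : ℕ} [hr : Fact r.Prime]

theorem le_comap_mk (A : Subgroup (G ⧸ M)) : M ≤ A.comap (QuotientGroup.mk' M) := by
  intro x hx
  rw [Subgroup.mem_comap, QuotientGroup.mk'_apply, (QuotientGroup.eq_one_iff x).2 hx]
  exact A.one_mem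

theorem map_comap_mk (A : Subgroup (G ⧸ M)) : (A.comap (QuotientGroup.mk' M)).map (QuotientGroup.mk' M) = A :=
  Subgroup.map_comap_eq_self_of_surjective (QuotientGroup.mk'_surjective M) A

theorem card_comap_mk (A : Subgroup (G ⧸ M)) :
    Nat.card (A.comap (QuotientGroup.mk' M)) = Nat.card M * Nat.card A := by
  have h1 := (A.comap (QuotientGroup.mk' M)).card_mul_index
  rw [Subgroup.index_comap_of_surjective _ (QuotientGroup.mk'_surjective M)] at h1
  have h2 := A.card_mul_index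
  have h3 := Subgroup.card_eq_card_quotient_mul_card_subgroup M
  have h4 : Nat.card A * A.index * Nat.card M = Nat.card (A.comap (QuotientGroup.mk' M)) * A.index := by
    rw [h1, h3, h2]
  have h5 : 0 < A.index := Nat.pos_of_ne_zero (Subgroup.index_ne_zero_of_finite)
  apply Nat.eq_of_mul_eq_mul_right h5
  rw [← h4]
  ring

theorem relIndex_comap_mk (A : Subgroup (G ⧸ M)) :
    M.relIndex (A.comap (QuotientGroup.mk' M)) = Nat.card A := by
  have h1 := (M.subgroupOf (A.comap (QuotientGroup.mk' M))).card_mul_index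
  rw [Nat.card_congr (Subgroup.subgroupOfEquivOfLe (le_comap_mk A)).toEquiv, card_comap_mk] at h1
  exact Nat.eq_of_mul_eq_mul_left Nat.card_pos h1

/-- The coprime case: lift by Schur-Zassenhaus. -/
theorem coprime_case (hB : BProp G) (A B : Subgroup (G ⧸ M)) (hA : IsMulCommutative ↥A)
    (hB' : IsMulCommutative ↥B) (hAB : Nat.card ↥A = Nat.card ↥B) (hcop : (Nat.card M).Coprime (Nat.card A)) :
    ∃ g : G ⧸ M, B = A.map (MulAut.conj g).toMonoidHom := by
  have key : ∀ X : Subgroup (G ⧸ M), IsMulCommutative ↥X → (Nat.card M).Coprime (Nat.card X) →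
      ∃ X₀ : Subgroup G, X₀.map (QuotientGroup.mk' M) = X ∧ Nat.card X₀ = Nat.card X ∧ IsMulCommutative ↥X₀ := by
    intro X hX hXc
    have hle := le_comap_mk X
    have hnorm : X.comap (QuotientGroup.mk' M) ≤ normalizer (M : Set G) := by
      intro x _
      rw [Subgroup.normalizer_eq_top_iff.2 hMn]
      exact Subgroup.mem_top x
    obtain ⟨H, hHL, hsup, hinf, hcard⟩ := Cfsg.Agent.Lib.Coprime.exists_complement_of_coprime hle hnorm
      (by rw [relIndex_comap_mk]; exact hXc)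
    have hmap : H.map (QuotientGroup.mk' M) = X := by
      have h1 := congrArg (Subgroup.map (QuotientGroup.mk' M)) hsup
      rw [Subgroup.map_sup, map_comap_mk] at h1
      have h2 : M.map (QuotientGroup.mk' M) = ⊥ := by
        exact QuotientGroup.map_mk'_self M
      rw [h2, bot_sup_eq] at h1
      exact h1
    refine ⟨H, hmap, by rw [hcard, relIndex_comap_mk], mulComm_of_forall ?_⟩
    intro a ha b hb
    have h1 : a * b * (b * a)⁻¹ ∈ M ⊓ H := by
      refine Subgroup.mem_inf.mpr ⟨?_, H.mul_mem (H.mul_mem ha hb) (H.inv_mem (H.mul_mem hb ha))⟩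
      rw [← QuotientGroup.eq_one_iff]
      have hma : (a : G ⧸ M) ∈ X := by rw [← hmap]; exact ⟨a, ha, rfl⟩
      have hmb : (b : G ⧸ M) ∈ X := by rw [← hmap]; exact ⟨b, hb, rfl⟩
      have := forall_of_mulComm hX _ hma _ hmb
      simp only [QuotientGroup.mk_mul, QuotientGroup.mk_inv, this]
      group
    rw [hinf, Subgroup.mem_bot] at h1
    exact mul_inv_eq_one.1 h1
  obtain ⟨A₀, hA₀, hcA, hcommA⟩ := key A hA hcop
  obtain ⟨B₀, hB₀, hcB, hcommB⟩ := key B hB' (by rw [← hAB]; exact hcop)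
  obtain ⟨g, hg⟩ := hB A₀ B₀ hcommA hcommB (by rw [hcA, hcB, hAB])
  refine ⟨QuotientGroup.mk' M g, ?_⟩
  rw [← hB₀, hg, map_conj_map, hA₀]


/-- An element whose order is the order of an abelian subgroup of `M` lies in `M`. -/
theorem mem_of_orderOf_eq (hB : BProp G) (D : Subgroup G) (hDM : D ≤ M)
    (hD : ∀ a ∈ D, ∀ b ∈ D, a * b = b * a) {y : G} (hy : orderOf y = Nat.card D) : y ∈ M := by
  obtain ⟨g, hg⟩ := hB D (zpowers y) (mulComm_of_forall hD)
    (mulComm_of_forall (fun a ha b hb => by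
      obtain ⟨i, rfl⟩ := Subgroup.mem_zpowers_iff.1 ha
      obtain ⟨j, rfl⟩ := Subgroup.mem_zpowers_iff.1 hb
      exact ((Commute.refl y).zpow_zpow i j).eq)) (by rw [Nat.card_zpowers, hy])
  have h1 : y ∈ D.map (MulAut.conj g).toMonoidHom := hg ▸ Subgroup.mem_zpowers y
  obtain ⟨a, ha, rfl⟩ := mem_conj_iff.1 h1
  exact hMn.conj_mem a (hDM ha) g

theorem exists_sub_card (hMc : ∀ a ∈ M, ∀ b ∈ M, a * b = b * a) {n : ℕ} (h : r ^ n ∣ Nat.card M) :
    ∃ D : Subgroup G, D ≤ M ∧ Nat.card D = r ^ n ∧ ∀ a ∈ D, ∀ b ∈ D, a * b = b * a := by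
  obtain ⟨K, hK⟩ := Sylow.exists_subgroup_card_pow_prime (G := M) r h
  refine ⟨K.map M.subtype, Subgroup.map_subtype_le K, ?_, ?_⟩
  · rw [← hK]
    exact (Nat.card_congr (Subgroup.equivMapOfInjective K _ M.subtype_injective).toEquiv).symm
  · intro a ha b hb
    exact hMc _ (Subgroup.map_subtype_le K ha) _ (Subgroup.map_subtype_le K hb)

/-- If `|M| ≥ r²` then all `r`-elements lie in `M`. -/
theorem mem_of_pow_eq_one (hB : BProp G) (hMc : ∀ a ∈ M, ∀ b ∈ M, a * b = b * a)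
    (hMe : ∀ a ∈ M, a ^ r = 1) (hr2 : r ^ 2 ∣ Nat.card M) {x : G} {a : ℕ} (hx : x ^ r ^ a = 1) : x ∈ M := by
  have hp := hr.out
  obtain ⟨j, hj, hjo⟩ := (Nat.dvd_prime_pow hp).1 (orderOf_dvd_of_pow_eq_one hx)
  rcases j with _ | _ | j
  · have : x = 1 := orderOf_eq_one_iff.1 (by simpa using hjo)
    rw [this]
    exact M.one_mem
  · obtain ⟨D, hDM, hDc, hD⟩ := exists_sub_card (r := r) hMc (n := 1) ((pow_dvd_pow r (by norm_num)).trans hr2)
    exact mem_of_orderOf_eq hB D hDM hD (by rw [hjo, hDc])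
  · exfalso
    obtain ⟨D, hDM, hDc, hD⟩ := exists_sub_card (r := r) hMc (n := 2) hr2
    have hdvd : r ^ 2 ∣ orderOf x := by
      rw [hjo]; exact pow_dvd_pow r (by omega)
    have hord : orderOf (x ^ (orderOf x / r ^ 2)) = r ^ 2 :=
      orderOf_pow_orderOf_div (by rw [hjo]; exact (pow_pos hp.pos _).ne') hdvd
    have hmem := mem_of_orderOf_eq hB D hDM hD (y := x ^ (orderOf x / r ^ 2)) (by rw [hord, hDc])
    have h1 := hMe _ hmem
    have h2 := orderOf_dvd_of_pow_eq_one h1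
    rw [hord] at h2
    have h3 := Nat.le_of_dvd hp.pos h2
    have h4 : r < r ^ 2 := by
      have := hp.two_le
      nlinarith
    omega

/-- If `|M| ≥ r²` then `r` does not divide the order of a subgroup of the quotient. -/
theorem not_dvd_of_sq (hB : BProp G) (hMc : ∀ a ∈ M, ∀ b ∈ M, a * b = b * a)
    (hMe : ∀ a ∈ M, a ^ r = 1) (hr2 : r ^ 2 ∣ Nat.card M) (A : Subgroup (G ⧸ M)) : ¬ r ∣ Nat.card A := by
  intro h
  have hp := hr.out
  obtain ⟨x, hx⟩ := exists_prime_orderOf_dvd_card' r h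
  obtain ⟨y, hy⟩ := QuotientGroup.mk'_surjective M (x : G ⧸ M)
  have hx1 : ((x : G ⧸ M)) ^ r = 1 := by
    have := pow_orderOf_eq_one x
    rw [hx] at this
    exact congrArg Subtype.val this
  have h1 : y ^ r ∈ M := by
    rw [← QuotientGroup.eq_one_iff]
    have : ((y ^ r : G) : G ⧸ M) = (x : G ⧸ M) ^ r := by
      rw [← hy]; rfl
    rw [this, hx1]
  have h2 : y ^ r ^ 2 = 1 := by
    rw [pow_two, pow_mul]
    exact hMe _ h1
  have h3 := mem_of_pow_eq_one hB hMc hMe hr2 h2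
  have h4 : (x : G ⧸ M) = 1 := by
    rw [← hy]
    exact (QuotientGroup.eq_one_iff y).2 h3
  have h5 : x = 1 := Subtype.ext h4
  rw [h5, orderOf_one] at hx
  exact hp.one_lt.ne hx

/-- If `|M| = r` then `M` contains all elements with `x ^ r = 1`. -/
theorem mem_of_pow_r (hB : BProp G) (hMc : ∀ a ∈ M, ∀ b ∈ M, a * b = b * a)
    (hMcard : Nat.card M = r) {x : G} (hx : x ^ r = 1) : x ∈ M := by
  have hp := hr.out
  by_cases h1 : x = 1
  · rw [h1]; exact M.one_mem
  exact mem_of_orderOf_eq hB M le_rfl hMc (by rw [hMcard]; exact orderOf_eq_prime hx h1)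

/-- Centralising when `|P| > r`. -/
theorem central_of_action {P : Subgroup G} (hMcard : Nat.card M = r) (hMP : M ≤ P)
    (hPcard : r < Nat.card P) (hPr : IsPGroup r P) (hun : ∀ x : G, x ^ r = 1 → x ∈ M) (a : G)
    (hcop : (orderOf a).Coprime r) (hnorm : ∀ u ∈ P, a * u * a⁻¹ * u⁻¹ ∈ M) :
    ∀ u ∈ P, a * u = u * a := by
  have hp := hr.out
  -- a fixed nontrivial element of `P`
  have h1 : ∃ w ∈ P, w ≠ 1 ∧ a * w = w * a := by
    by_contra hcon
    push Not at hcon
    let f : ↥P → ↥M := fun u => ⟨a * u * a⁻¹ * (u : G)⁻¹, hnorm u u.2⟩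
    have hf : Function.Injective f := by
      intro u v huv
      have h2 : a * (u : G) * a⁻¹ * (u : G)⁻¹ = a * v * a⁻¹ * (v : G)⁻¹ := congrArg Subtype.val huv
      by_contra hne
      have hne' : (u : G)⁻¹ * v ≠ 1 := by
        intro h3
        apply hne
        exact Subtype.ext (inv_mul_eq_one.1 h3)
      apply hcon _ (P.mul_mem (P.inv_mem u.2) v.2) hne'
      have h3 : a * (u : G) * a⁻¹ = (a * v * a⁻¹) * ((v : G)⁻¹ * u) := by
        calc a * (u : G) * a⁻¹ = (a * u * a⁻¹ * (u : G)⁻¹) * u := by group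
          _ = (a * v * a⁻¹ * (v : G)⁻¹) * u := by rw [h2]
          _ = (a * v * a⁻¹) * ((v : G)⁻¹ * u) := by group
      have h4 : a * ((u : G)⁻¹ * v) * a⁻¹ = (u : G)⁻¹ * v := by
        have h5 : (a * (u : G) * a⁻¹)⁻¹ * (a * v * a⁻¹) = a * ((u : G)⁻¹ * v) * a⁻¹ := by group
        rw [← h5, h3]
        group
      calc a * ((u : G)⁻¹ * v) = (a * ((u : G)⁻¹ * v) * a⁻¹) * a := by group
        _ = (u : G)⁻¹ * v * a := by rw [h4]
    have := Nat.card_le_card_of_injective f hf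
    rw [hMcard] at this
    omega
  obtain ⟨w, hwP, hw1, haw⟩ := h1
  -- a fixed nontrivial element of `M`
  have h2 : ∃ c ∈ M, c ≠ 1 ∧ a * c = c * a := by
    obtain ⟨k, hk⟩ := hPr ⟨w, hwP⟩
    have hk' : w ^ r ^ k = 1 := congrArg Subtype.val hk
    have hord := orderOf_dvd_of_pow_eq_one hk'
    obtain ⟨j, hj, hjo⟩ := (Nat.dvd_prime_pow hp).1 hord
    have hj0 : j ≠ 0 := by
      rintro rfl
      apply hw1
      exact orderOf_eq_one_iff.1 (by simpa using hjo)
    have hd : r ∣ orderOf w := by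
      rw [hjo]; exact dvd_pow_self r hj0
    have hord2 : orderOf (w ^ (orderOf w / r)) = r :=
      orderOf_pow_orderOf_div (by rw [hjo]; exact (pow_pos hp.pos _).ne') hd
    refine ⟨w ^ (orderOf w / r), hun _ (orderOf_dvd_iff_pow_eq_one.1 (by rw [hord2])), ?_, ?_⟩
    · intro h
      rw [h, orderOf_one] at hord2
      exact hp.one_lt.ne hord2
    · have : Commute a w := haw
      exact (this.pow_right _).eq
  obtain ⟨c, hcM, hc1, hac⟩ := h2
  -- `a` centralises `M`
  have h3 : ∀ d ∈ M, a * d = d * a := by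
    intro d hd
    have hcz : zpowers c = M := by
      apply Subgroup.eq_of_le_of_card_ge
      · exact (Subgroup.zpowers_le).2 hcM
      · rw [Nat.card_zpowers, hMcard]
        have h4 : orderOf c = r := by
          have h5 : c ^ r = 1 := by
            rw [← hMcard]
            have := pow_card_eq_one' (G := M) (x := ⟨c, hcM⟩)
            exact congrArg Subtype.val this
          exact orderOf_eq_prime h5 hc1
        rw [h4]
    rw [← hcz] at hd
    obtain ⟨i, rfl⟩ := Subgroup.mem_zpowers_iff.1 hd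
    have : Commute a c := hac
    exact (this.zpow_right i).eq
  intro u hu
  set d := a * u * a⁻¹ * u⁻¹ with hd
  have hdM : d ∈ M := hnorm u hu
  have hdc : Commute a d := h3 d hdM
  have h4 : ∀ n : ℕ, a ^ n * u * a⁻¹ ^ n = d ^ n * u := by
    intro n
    induction n with
    | zero => simp
    | succ n ih =>
      have h5 : a * u * a⁻¹ = d * u := by rw [hd]; group
      calc a ^ (n + 1) * u * a⁻¹ ^ (n + 1) = a * (a ^ n * u * a⁻¹ ^ n) * a⁻¹ := by
            rw [pow_succ' a n, pow_succ a⁻¹ n]; group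
        _ = a * (d ^ n * u) * a⁻¹ := by rw [ih]
        _ = d ^ n * (a * u * a⁻¹) := by
            have : a * d ^ n = d ^ n * a := (hdc.pow_right n).eq
            rw [← mul_assoc a, this]; group
        _ = d ^ (n + 1) * u := by rw [h5, pow_succ]; group
  have h5 := h4 (orderOf a)
  rw [inv_pow, pow_orderOf_eq_one, one_mul, inv_one, mul_one] at h5
  have h6 : d ^ orderOf a = 1 := by
    have : d ^ orderOf a * u = 1 * u := by rw [← h5, one_mul]
    exact mul_right_cancel this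
  have h7 : d ^ r = 1 := by
    have := pow_card_eq_one' (G := M) (x := ⟨d, hdM⟩)
    rw [hMcard] at this
    exact congrArg Subtype.val this
  have h8 : orderOf d = 1 := Nat.eq_one_of_dvd_coprimes hcop (orderOf_dvd_of_pow_eq_one h6) (orderOf_dvd_of_pow_eq_one h7)
  have h9 : d = 1 := orderOf_eq_one_iff.1 h8
  have h10 : a * u * a⁻¹ = u := by
    have : a * u * a⁻¹ = d * u := by rw [hd]; group
    rw [this, h9, one_mul]
  calc a * u = a * u * a⁻¹ * a := by group
    _ = u * a := by rw [h10]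

/-- Decomposition of a preimage. -/
theorem decomp (hMcard : Nat.card M = r) (hun : ∀ x : G, x ^ r = 1 → x ∈ M) (L : Subgroup G) (hML : M ≤ L)
    (hcomm : ∀ x ∈ L, ∀ y ∈ L, x * y * x⁻¹ * y⁻¹ ∈ M) (hdvd : r ∣ M.relIndex L) :
    ∃ P A₀ : Subgroup G, P ≤ L ∧ A₀ ≤ L ∧ M ≤ P ∧ IsPGroup r P ∧ (Nat.card A₀).Coprime r ∧ P ⊔ A₀ = L ∧
      P ⊓ A₀ = ⊥ ∧ (∀ a ∈ A₀, ∀ u ∈ P, a * u = u * a) ∧ (∀ a ∈ A₀, ∀ b ∈ A₀, a * b = b * a) ∧
      Nat.card P * Nat.card A₀ = Nat.card L := by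
  have hp := hr.out
  have hMr : IsPGroup r M := IsPGroup.of_card (n := 1) (by rw [hMcard, pow_one])
  have hM' : IsPGroup r (M.subgroupOf L) := hMr.comap_of_injective L.subtype L.subtype_injective
  obtain ⟨P₀, hP₀⟩ := hM'.exists_le_sylow
  set P : Subgroup G := (P₀ : Subgroup L).map L.subtype with hPdef
  have hPL : P ≤ L := Subgroup.map_subtype_le _
  have hMP : M ≤ P := fun x hx => ⟨⟨x, hML hx⟩, hP₀ hx, rfl⟩
  have hPr : IsPGroup r P := P₀.isPGroup'.map L.subtype
  have hconj : ∀ x ∈ L, ∀ u ∈ P, x * u * x⁻¹ ∈ P := by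
    intro x hx u hu
    have h1 : x * u * x⁻¹ = (x * u * x⁻¹ * u⁻¹) * u := by group
    rw [h1]
    exact P.mul_mem (hMP (hcomm x hx u (hPL hu))) hu
  have hnormal : L ≤ normalizer (P : Set G) := by
    intro x hx
    rw [Subgroup.mem_normalizer_iff]
    intro u
    refine ⟨hconj x hx u, fun h => ?_⟩
    have := hconj x⁻¹ (L.inv_mem hx) _ h
    convert this using 1
    group
  have hri : P.relIndex L = (P₀ : Subgroup L).index := by
    unfold Subgroup.relIndex Subgroup.subgroupOf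
    rw [hPdef, Subgroup.comap_map_eq_self_of_injective L.subtype_injective]
  have hcardP : Nat.card P = Nat.card (P₀ : Subgroup L) :=
    (Nat.card_congr (Subgroup.equivMapOfInjective _ L.subtype L.subtype_injective).toEquiv).symm
  obtain ⟨H, hHL, hsup, hinf, hcard⟩ := Cfsg.Agent.Lib.Coprime.exists_complement_of_coprime hPL hnormal
    (by rw [hri, hcardP]; exact P₀.card_coprime_index)
  have hnd : ¬ r ∣ (P₀ : Subgroup L).index := P₀.not_dvd_index
  have hHc : (Nat.card H).Coprime r := by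
    rw [hcard, hri]
    exact ((Nat.Prime.coprime_iff_not_dvd hp).2 hnd).symm
  have hcardL : Nat.card P * Nat.card H = Nat.card L := by
    rw [hcard, hri, hcardP]
    exact P₀.card_mul_index
  have hPcard : r < Nat.card P := by
    have h1 : r * M.relIndex L = Nat.card L := by
      have h2 := (M.subgroupOf L).card_mul_index
      rwa [Nat.card_congr (Subgroup.subgroupOfEquivOfLe hML).toEquiv, hMcard] at h2
    have h2 : r ^ 2 ∣ Nat.card P * Nat.card H := by
      rw [hcardL, ← h1, pow_two]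
      exact mul_dvd_mul_left r hdvd
    have h3 : (r ^ 2).Coprime (Nat.card H) := (Nat.Coprime.pow_left 2 hHc.symm)
    have h4 : r ^ 2 ∣ Nat.card P := h3.dvd_of_dvd_mul_right h2
    have h5 := Nat.le_of_dvd Nat.card_pos h4
    have h6 : r < r ^ 2 := by
      have := hp.two_le
      nlinarith
    omega
  have hcen : ∀ a ∈ H, ∀ u ∈ P, a * u = u * a := by
    intro a ha
    refine central_of_action hMcard hMP hPcard hPr hun a ?_ (fun u hu => hcomm a (hHL ha) u (hPL hu))
    exact Nat.Coprime.coprime_dvd_left (Subgroup.orderOf_dvd_natCard H ha) hHc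
  refine ⟨P, H, hPL, hHL, hMP, hPr, hHc, hsup, hinf, hcen, ?_, hcardL⟩
  intro a ha b hb
  have h1 : a * b * a⁻¹ * b⁻¹ ∈ P ⊓ H :=
    Subgroup.mem_inf.mpr ⟨hMP (hcomm a (hHL ha) b (hHL hb)), H.mul_mem (H.mul_mem (H.mul_mem ha hb) (H.inv_mem ha)) (H.inv_mem hb)⟩
  rw [hinf, Subgroup.mem_bot] at h1
  have h2 : a * b * a⁻¹ = b := mul_inv_eq_one.1 h1
  calc a * b = a * b * a⁻¹ * a := by group
    _ = b * a := by rw [h2]

end core

/-! ### The generalised quaternion case -/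

section quat

variable [Finite G]

open Cfsg.Agent.Lib.Basic in
theorem exists_order_four_pow {x : G} {a : ℕ} (hx : x ^ 2 ^ a = 1) (hx2 : x ^ 2 ≠ 1) :
    ∃ k : ℕ, orderOf (x ^ k) = 4 := by
  obtain ⟨j, hj, hjo⟩ := (Nat.dvd_prime_pow Nat.prime_two).1 (orderOf_dvd_of_pow_eq_one hx)
  have h2 : 2 ≤ j := by
    by_contra h
    push Not at h
    apply hx2
    have : orderOf x ∣ 2 := by
      rw [hjo]
      exact pow_dvd_pow 2 (by omega : j ≤ 1)
    exact orderOf_dvd_iff_pow_eq_one.1 this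
  refine ⟨orderOf x / 4, orderOf_pow_orderOf_div (by rw [hjo]; positivity) ?_⟩
  rw [hjo]
  exact (pow_dvd_pow 2 h2 : 2 ^ 2 ∣ 2 ^ j)

theorem central_of_sq (hun : UniqueP 2 G) {x : G} (hx : x ^ 2 = 1) (g : G) : g * x * g⁻¹ = x := by
  haveI : Fact (Nat.Prime 2) := ⟨Nat.prime_two⟩
  by_cases h1 : x = 1
  · rw [h1]; group
  have h2 : (g * x * g⁻¹) ^ 2 = 1 := by
    rw [conj_pow, hx]; group
  have h3 := hun.mem_zpowers hx h1 h2
  obtain ⟨k, hk⟩ := Subgroup.mem_zpowers_iff.1 h3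
  rcases Int.even_or_odd' k with ⟨m, rfl | rfl⟩
  · exfalso
    apply h1
    have h4 : x ^ ((2 : ℤ) * m) = 1 := by
      rw [zpow_mul, zpow_ofNat, hx, one_zpow]
    rw [h4] at hk
    have h5 : g * x * g⁻¹ = 1 := hk.symm
    have h6 : g * x = g := mul_inv_eq_one.1 h5
    exact mul_left_cancel (h6.trans (mul_one g).symm)
  · have h4 : x ^ ((2 : ℤ) * m + 1) = x := by
      rw [zpow_add, zpow_mul, zpow_ofNat, hx, one_zpow, one_mul, zpow_one]
    rw [h4] at hk
    exact hk.symm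

/-- All elements of order four lie in `O_{2',2}(G)`. -/
theorem four_mem (hsol : Group.IsSolvable G) (hun : UniqueP 2 G)
    (hc4 : ∀ x y : G, orderOf x = 4 → orderOf y = 4 → ∃ g : G, y ∈ (zpowers x).map (MulAut.conj g).toMonoidHom)
    [Fact (Nat.Prime 2)] (Q : Sylow 2 G)
    (hna : ¬ ∀ u ∈ (Q : Subgroup G), ∀ v ∈ (Q : Subgroup G), u * v = v * u) :
    ∀ x : G, orderOf x = 4 → x ∈ pPrimePCore 2 G := by
  classical
  set K := pPrimeCore 2 G with hK
  haveI hKn : K.Normal := Cfsg.Agent.Lib.Basic.pPrimeCore_normal 2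
  set f := QuotientGroup.mk' K with hf
  have hfs : Function.Surjective f := QuotientGroup.mk'_surjective K
  set T := pCore 2 (G ⧸ K) with hT
  have hlift : ∀ t ∈ T, ∃ x ∈ (Q : Subgroup G), f x = t := by
    intro t ht
    have h1 := Cfsg.Agent.Lib.Basic.pCore_le_sylow (Q.mapSurjective hfs) ht
    rw [Sylow.coe_mapSurjective] at h1
    exact h1
  haveI hNn : (pPrimePCore 2 G).Normal := Subgroup.Normal.comap (Cfsg.Agent.Lib.Basic.pCore_normal 2) f
  by_contra hcon
  push Not at hcon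
  obtain ⟨x₀, hx₀, hx₀N⟩ := hcon
  have hno : ∀ w ∈ pPrimePCore 2 G, orderOf w ≠ 4 := by
    intro w hw hw4
    apply hx₀N
    obtain ⟨g, hg⟩ := hc4 w x₀ hw4 hx₀
    obtain ⟨a, ha, rfl⟩ := mem_conj_iff.1 hg
    exact hNn.conj_mem a (((Subgroup.zpowers_le).2 hw) ha) g
  have hsq : ∀ x ∈ (Q : Subgroup G), x ∈ pPrimePCore 2 G → x ^ 2 = 1 := by
    intro x hxQ hxN
    by_contra h2
    obtain ⟨a, ha⟩ := Q.isPGroup' ⟨x, hxQ⟩
    obtain ⟨k, hk⟩ := exists_order_four_pow (congrArg Subtype.val ha) h2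
    exact hno _ (_root_.pow_mem hxN k) hk
  have hcT : centralizer (T : Set (G ⧸ K)) = ⊤ := by
    rw [eq_top_iff]
    intro y _
    rw [Subgroup.mem_centralizer_iff]
    intro t ht
    obtain ⟨x, hxQ, rfl⟩ := hlift t ht
    have hxN : x ∈ pPrimePCore 2 G := ht
    have h1 := hsq x hxQ hxN
    obtain ⟨g, rfl⟩ := hfs y
    have h2 := central_of_sq hun h1 g
    rw [← map_mul, ← map_mul]
    congr 1
    calc x * g = g * (g⁻¹ * x * g⁻¹⁻¹) := by group
      _ = g * x := by rw [central_of_sq hun h1 g⁻¹]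
  have hTtop : T = ⊤ := by
    have hps : IsPSolvable 2 (G ⧸ K) :=
      Cfsg.Agent.Lib.Struct.isPSolvable_of_isSolvable 2 _ (G ⧸ K) rfl inferInstance
    have h := Cfsg.Agent.Lib.Char.centralizer_pCore_le_of_isPSolvable hps
      (Cfsg.Agent.Lib.Basic.pPrimeCore_quotient_eq_bot 2)
    rw [hcT] at h
    exact top_le_iff.1 h
  apply hna
  have hall : ∀ x ∈ (Q : Subgroup G), x ^ 2 = 1 := fun x hx => hsq x hx (by
    show f x ∈ T
    rw [hTtop]
    exact Subgroup.mem_top _)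
  intro u hu v hv
  have h1 := hall (u * v) (Q.1.mul_mem hu hv)
  have h2 := hall u hu
  have h3 := hall v hv
  rw [pow_two] at h1 h2 h3
  have h4 : u * v * (u * v) = u * u * (v * v) := by rw [h1, h2, h3, one_mul]
  have h5 : v * u = u * v := by
    have h6 : u * (v * u) * v = u * (u * v) * v := by
      calc u * (v * u) * v = u * v * (u * v) := by group
        _ = u * u * (v * v) := h4
        _ = u * (u * v) * v := by group
    exact mul_left_cancel (mul_right_cancel h6)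
  exact h5.symm

theorem card_sylow_eight (hsol : Group.IsSolvable G) (hun : UniqueP 2 G)
    (hc4 : ∀ x y : G, orderOf x = 4 → orderOf y = 4 → ∃ g : G, y ∈ (zpowers x).map (MulAut.conj g).toMonoidHom)
    [Fact (Nat.Prime 2)] (Q : Sylow 2 G)
    (hna : ¬ ∀ u ∈ (Q : Subgroup G), ∀ v ∈ (Q : Subgroup G), u * v = v * u) :
    Nat.card (Q : Subgroup G) = 8 := by
  classical
  have hfour := four_mem hsol hun hc4 Q hna
  have hQ2 : IsPGroup 2 ↥(Q : Subgroup G) := Q.isPGroup'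
  have hunQ := hun.subgroup (Q : Subgroup G)
  have hncyc : ¬ IsCyclic ↥(Q : Subgroup G) := by
    intro hc
    apply hna
    intro u hu v hv
    letI := hc.commGroup
    exact congrArg Subtype.val (mul_comm (⟨u, hu⟩ : ↥(Q : Subgroup G)) ⟨v, hv⟩)
  rcases Cfsg.Agent.Lib.OddLocal.cyclic_or_quaternion hQ2 hunQ with hc | ⟨n, ⟨e⟩⟩
  · exact absurd hc hncyc
  rcases n with _ | _ | n
  · exfalso
    apply hncyc
    haveI : IsCyclic (QuaternionGroup (2 ^ 0)) := QuaternionGroup.quaternionGroup_one_isCyclic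
    exact isCyclic_of_surjective e.symm e.symm.surjective
  · have h1 := Nat.card_congr e.toEquiv
    rw [h1, Nat.card_eq_fintype_card, QuaternionGroup.card]
    norm_num
  exfalso
  set m := 2 ^ (n + 1 + 1) with hm
  have hm4 : 4 ∣ m := by
    rw [hm, pow_succ, pow_succ]
    exact ⟨2 ^ n, by ring⟩
  haveI hmne : NeZero m := ⟨by rw [hm]; positivity⟩
  set N := pPrimePCore 2 G with hN
  set K := pPrimeCore 2 G with hK
  haveI hKn : K.Normal := Cfsg.Agent.Lib.Basic.pPrimeCore_normal 2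
  set f := QuotientGroup.mk' K with hf
  have hfs : Function.Surjective f := QuotientGroup.mk'_surjective K
  set T := pCore 2 (G ⧸ K) with hT
  haveI hNn : N.Normal := Subgroup.Normal.comap (Cfsg.Agent.Lib.Basic.pCore_normal 2) f
  have hlift : ∀ t ∈ T, ∃ x ∈ (Q : Subgroup G), f x = t := by
    intro t ht
    have h1 := Cfsg.Agent.Lib.Basic.pCore_le_sylow (Q.mapSurjective hfs) ht
    rw [Sylow.coe_mapSurjective] at h1
    exact h1
  have hKQ : ∀ x ∈ (Q : Subgroup G), x ∈ K → x = 1 := by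
    intro x hxQ hxK
    obtain ⟨a, ha⟩ := Q.isPGroup' ⟨x, hxQ⟩
    have h1 : x ^ 2 ^ a = 1 := congrArg Subtype.val ha
    have h2 : orderOf x ∣ 2 ^ a := orderOf_dvd_of_pow_eq_one h1
    have h3 : orderOf x ∣ Nat.card K := Subgroup.orderOf_dvd_natCard K hxK
    have h4 : (Nat.card K).Coprime (2 ^ a) := Nat.Coprime.pow_right a (Cfsg.Agent.Lib.Basic.pPrimeCore_coprime 2)
    exact orderOf_eq_one_iff.1 (Nat.eq_one_of_dvd_coprimes h4 h3 h2)
  have hordc : ∀ w : ↥(Q : Subgroup G), orderOf (w : G) = orderOf (e w) := by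
    intro w
    rw [Subgroup.orderOf_coe, MulEquiv.orderOf_eq]
  have hxaN : ∀ j, ((e.symm (QuaternionGroup.xa j) : ↥(Q : Subgroup G)) : G) ∈ N := by
    intro j
    apply hfour
    rw [hordc, MulEquiv.apply_symm_apply]
    exact QuaternionGroup.orderOf_xa j
  have hQN : (Q : Subgroup G) ≤ N := by
    intro q hq
    have h1 : e ⟨q, hq⟩ = QuaternionGroup.a 0 * e ⟨q, hq⟩ := by
      rw [QuaternionGroup.a_zero, one_mul]
    rcases h : e ⟨q, hq⟩ with i | i
    · have h2 : (QuaternionGroup.a i : QuaternionGroup m) =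
          QuaternionGroup.xa 0 * QuaternionGroup.xa (i - (m : ZMod (2 * m))) := by
        rw [QuaternionGroup.xa_mul_xa]
        congr 1
        ring
      have h3 : (⟨q, hq⟩ : ↥(Q : Subgroup G)) =
          e.symm (QuaternionGroup.xa 0) * e.symm (QuaternionGroup.xa (i - (m : ZMod (2 * m)))) := by
        rw [← map_mul, ← h2, ← h, MulEquiv.symm_apply_apply]
      have h4 := congrArg Subtype.val h3
      simp only [Subgroup.coe_mul] at h4
      rw [h4]
      exact N.mul_mem (hxaN _) (hxaN _)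
    · have h3 : (⟨q, hq⟩ : ↥(Q : Subgroup G)) = e.symm (QuaternionGroup.xa i) := by
        rw [← h, MulEquiv.symm_apply_apply]
      have h4 := congrArg Subtype.val h3
      simp only at h4
      rw [h4]
      exact hxaN _
  -- Frattini
  have hfr : ∀ g : G, ∃ k ∈ K, ∃ ν ∈ normalizer ((Q : Subgroup G) : Set G), g = k * ν := by
    intro g
    have h1 : normalizer ((Q : Subgroup G) : Set G) ⊔ N = ⊤ := Sylow.normalizer_sup_eq_top' Q hQN
    have h2 : g ∈ normalizer ((Q : Subgroup G) : Set G) ⊔ N := by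
      rw [h1]; exact Subgroup.mem_top g
    have h3 : g ∈ ((normalizer ((Q : Subgroup G) : Set G) ⊔ N : Subgroup G) : Set G) := h2
    rw [Subgroup.mul_normal, Set.mem_mul] at h3
    obtain ⟨ν, hν, n', hn', rfl⟩ := h3
    obtain ⟨q, hq, hqn⟩ := hlift _ hn'
    have hk₀ : q⁻¹ * n' ∈ K := by
      rw [← QuotientGroup.eq_one_iff, QuotientGroup.mk_mul, QuotientGroup.mk_inv]
      have : ((q : G) : G ⧸ K) = (n' : G ⧸ K) := hqn
      rw [this]
      group
    have hν' : ν * q ∈ normalizer ((Q : Subgroup G) : Set G) :=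
      Subgroup.mul_mem _ hν (Subgroup.le_normalizer hq)
    refine ⟨(ν * q) * (q⁻¹ * n') * (ν * q)⁻¹, hKn.conj_mem _ hk₀ _, ν * q, hν', by group⟩
  set b : ↥(Q : Subgroup G) := e.symm (QuaternionGroup.a 1) with hb
  have hbord : orderOf (b : G) = 2 * m := by
    rw [hordc, hb, MulEquiv.apply_symm_apply]
    exact QuaternionGroup.orderOf_a_one
  have hm8 : 8 ≤ 2 * m := by
    obtain ⟨c, hc⟩ := hm4
    have : 0 < m := Nat.pos_of_ne_zero hmne.out
    omega
  have hnc : ∀ ν ∈ normalizer ((Q : Subgroup G) : Set G), ∃ j : ℕ, ν * (b : G) * ν⁻¹ = (b : G) ^ j := by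
    intro ν hν
    have h1 : ν * (b : G) * ν⁻¹ ∈ (Q : Subgroup G) := (Subgroup.mem_normalizer_iff.1 hν _).1 b.2
    have h2 : orderOf (ν * (b : G) * ν⁻¹) = 2 * m := by
      rw [← hbord]
      exact MulEquiv.orderOf_eq (MulAut.conj ν) (b : G)
    rcases h : e ⟨_, h1⟩ with i | i
    · refine ⟨i.val, ?_⟩
      have h3 : (⟨_, h1⟩ : ↥(Q : Subgroup G)) = b ^ i.val := by
        apply e.injective
        rw [h, map_pow, hb, MulEquiv.apply_symm_apply, QuaternionGroup.a_one_pow, ZMod.natCast_zmod_val]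
      exact congrArg Subtype.val h3
    · exfalso
      have h3 := hordc ⟨_, h1⟩
      rw [h, QuaternionGroup.orderOf_xa] at h3
      have h4 : orderOf (ν * (b : G) * ν⁻¹) = 4 := h3
      omega
  have h4d : 4 ∣ orderOf (b : G) := by
    rw [hbord]
    exact Dvd.dvd.mul_left hm4 2
  set c : G := (b : G) ^ (orderOf (b : G) / 4) with hc
  have hcord : orderOf c = 4 :=
    orderOf_pow_orderOf_div (by rw [hbord]; omega) h4d
  set y : G := ((e.symm (QuaternionGroup.xa 0) : ↥(Q : Subgroup G)) : G) with hy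
  have hyord : orderOf y = 4 := by
    rw [hy, hordc, MulEquiv.apply_symm_apply]
    exact QuaternionGroup.orderOf_xa 0
  obtain ⟨g, hg⟩ := hc4 c y hcord hyord
  obtain ⟨d₀, hd₀, hyd⟩ := mem_conj_iff.1 hg
  obtain ⟨i, rfl⟩ := Subgroup.mem_zpowers_iff.1 hd₀
  obtain ⟨k, hk, ν, hν, rfl⟩ := hfr g
  obtain ⟨j, hj⟩ := hnc ν hν
  have hcb : c ∈ zpowers (b : G) := Subgroup.pow_mem _ (Subgroup.mem_zpowers _) _
  set d : G := (c ^ j) ^ i with hd
  have hdz : d ∈ zpowers (b : G) :=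
    Subgroup.zpow_mem _ (Subgroup.pow_mem _ hcb _) _
  have hdQ : d ∈ (Q : Subgroup G) := ((Subgroup.zpowers_le).2 b.2) hdz
  have hνc : ν * c ^ i * ν⁻¹ = d := by
    have h1 : ν * c * ν⁻¹ = c ^ j := by
      have h2 : ν * c * ν⁻¹ = (ν * (b : G) * ν⁻¹) ^ (orderOf (b : G) / 4) := by
        rw [conj_pow]
      rw [h2, hj, hc]
      rw [← pow_mul, ← pow_mul, mul_comm]
    have h2 : ν * c ^ i * ν⁻¹ = (ν * c * ν⁻¹) ^ i := by
      rw [conj_zpow]
    rw [h2, h1]
  have hyk : y = k * d * k⁻¹ := by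
    rw [hyd, ← hνc]
    group
  have hyQ : y ∈ (Q : Subgroup G) := (e.symm (QuaternionGroup.xa 0)).2
  have hyd1 : y * d⁻¹ ∈ K := by
    rw [hyk]
    have : k * d * k⁻¹ * d⁻¹ = k * (d * k⁻¹ * d⁻¹) := by group
    rw [this]
    exact K.mul_mem hk (hKn.conj_mem _ (K.inv_mem hk) d)
  have hyeq : y = d := by
    have := hKQ _ (Q.1.mul_mem hyQ (Q.1.inv_mem hdQ)) hyd1
    exact mul_inv_eq_one.1 this
  have hyz : y ∈ zpowers (b : G) := hyeq ▸ hdz
  obtain ⟨l, hl⟩ := (mem_powers_iff_mem_zpowers).2 hyz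
  have hl' : b ^ l = e.symm (QuaternionGroup.xa 0) := Subtype.ext hl
  have h3 := congrArg e hl'
  rw [MulEquiv.apply_symm_apply, map_pow, hb, MulEquiv.apply_symm_apply, QuaternionGroup.a_one_pow] at h3
  cases h3

end quat

/-! ### The non-abelian case -/

section nonab

variable [Finite G]

theorem comm_of_card_le_four {P : Subgroup G} (hP : IsPGroup 2 P) (h : Nat.card P ≤ 4) :
    ∀ u ∈ P, ∀ v ∈ P, u * v = v * u := by
  haveI : Fact (Nat.Prime 2) := ⟨Nat.prime_two⟩
  obtain ⟨k, hk⟩ := IsPGroup.iff_card.1 hP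
  have hk2 : k ≤ 2 := by
    by_contra hcon
    push Not at hcon
    have : 2 ^ 3 ≤ 2 ^ k := Nat.pow_le_pow_right (by norm_num) hcon
    omega
  intro u hu v hv
  have hc : ∀ a b : ↥P, a * b = b * a := by
    interval_cases k
    · have : Subsingleton ↥P := (Nat.card_eq_one_iff_unique.1 (by simpa using hk)).1
      intro a b
      exact Subsingleton.elim _ _
    · haveI : Fact (Nat.Prime (Nat.card P)) := ⟨by rw [hk]; exact Nat.prime_two⟩
      haveI := isCyclic_of_prime_card (α := ↥P) rfl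
      intro a b
      letI := (inferInstance : IsCyclic ↥P).commGroup
      exact mul_comm a b
    · exact IsPGroup.commutative_of_card_eq_prime_sq (p := 2) hk
  exact congrArg Subtype.val (hc ⟨u, hu⟩ ⟨v, hv⟩)

/-- Non-abelian case. -/
theorem nonab (hB : BProp G) (hsol : Group.IsSolvable G) [Fact (Nat.Prime 2)] (hun : UniqueP 2 G)
    (LA LB PA A₀ PB B₀ : Subgroup G)
    (hPA : IsPGroup 2 PA) (hA₀c : (Nat.card A₀).Coprime 2) (hsupA : PA ⊔ A₀ = LA) (hinfA : PA ⊓ A₀ = ⊥)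
    (hcenA : ∀ a ∈ A₀, ∀ u ∈ PA, a * u = u * a) (hcommA : ∀ a ∈ A₀, ∀ b ∈ A₀, a * b = b * a)
    (hcardA : Nat.card PA * Nat.card A₀ = Nat.card LA)
    (hPB : IsPGroup 2 PB) (hB₀c : (Nat.card B₀).Coprime 2) (hsupB : PB ⊔ B₀ = LB) (hinfB : PB ⊓ B₀ = ⊥)
    (hcenB : ∀ a ∈ B₀, ∀ u ∈ PB, a * u = u * a) (hcommB : ∀ a ∈ B₀, ∀ b ∈ B₀, a * b = b * a)
    (hcardB : Nat.card PB * Nat.card B₀ = Nat.card LB)
    (hL : Nat.card LA = Nat.card LB)
    (hna : ¬ ∀ u ∈ PA, ∀ v ∈ PA, u * v = v * u) :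
    ∃ g : G, LB = LA.map (MulAut.conj g).toMonoidHom := by
  classical
  have hc4 : ∀ x y : G, orderOf x = 4 → orderOf y = 4 → ∃ g : G, y ∈ (zpowers x).map (MulAut.conj g).toMonoidHom := by
    intro x y hx hy
    have hcz : ∀ z : G, ∀ a ∈ zpowers z, ∀ b ∈ zpowers z, a * b = b * a := by
      intro z a ha b hb
      obtain ⟨i, rfl⟩ := Subgroup.mem_zpowers_iff.1 ha
      obtain ⟨j, rfl⟩ := Subgroup.mem_zpowers_iff.1 hb
      exact ((Commute.refl z).zpow_zpow i j).eq
    obtain ⟨g, hg⟩ := hB (zpowers x) (zpowers y) (mulComm_of_forall (hcz x)) (mulComm_of_forall (hcz y))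
      (by rw [Nat.card_zpowers, Nat.card_zpowers, hx, hy])
    exact ⟨g, hg ▸ Subgroup.mem_zpowers y⟩
  -- sizes
  obtain ⟨Q, hQ⟩ := hPA.exists_le_sylow
  have hQna : ¬ ∀ u ∈ (Q : Subgroup G), ∀ v ∈ (Q : Subgroup G), u * v = v * u := by
    intro h
    exact hna (fun u hu v hv => h u (hQ hu) v (hQ hv))
  have hQ8 := card_sylow_eight hsol hun hc4 Q hQna
  have hPA8 : Nat.card PA = 8 := by
    have h1 : Nat.card PA ∣ 8 := hQ8 ▸ Subgroup.card_dvd_of_le hQ
    have h2 : ¬ Nat.card PA ≤ 4 := fun h => hna (comm_of_card_le_four hPA h)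
    have h3 := Nat.le_of_dvd (by norm_num) h1
    interval_cases hc : Nat.card PA <;> first | rfl | omega | (exfalso; revert h1; decide)
  have hPB8 : Nat.card PB = 8 ∧ Nat.card B₀ = Nat.card A₀ := by
    obtain ⟨b, hb⟩ := IsPGroup.iff_card.1 hPB
    have h1 : 8 * Nat.card A₀ = Nat.card PB * Nat.card B₀ := by
      rw [← hPA8, hcardA, hcardB, hL]
    have h2 : Nat.card PB ∣ 8 := by
      have h3 : Nat.card PB ∣ 8 * Nat.card A₀ := ⟨_, h1⟩
      have h4 : (Nat.card PB).Coprime (Nat.card A₀) := by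
        rw [hb]
        exact Nat.Coprime.pow_left _ hA₀c.symm
      exact h4.dvd_of_dvd_mul_right h3
    have h3 : 8 ∣ Nat.card PB := by
      have h3 : 8 ∣ Nat.card PB * Nat.card B₀ := ⟨_, h1.symm⟩
      have h4 : Nat.Coprime 8 (Nat.card B₀) := by
        have : (8 : ℕ) = 2 ^ 3 := by norm_num
        rw [this]
        exact Nat.Coprime.pow_left _ hB₀c.symm
      exact h4.dvd_of_dvd_mul_right h3
    have h4 := Nat.dvd_antisymm h2 h3
    refine ⟨h4, ?_⟩
    rw [h4] at h1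
    exact (Nat.eq_of_mul_eq_mul_left (by norm_num) h1).symm
  obtain ⟨hPB8, hcAB⟩ := hPB8
  -- Sylow subgroups
  have hmul : (8 : ℕ) = 2 ^ (Nat.card G).factorization 2 := by
    rw [← hQ8]; exact Q.card_eq_multiplicity
  let SA : Sylow 2 G := Sylow.ofCard PA (by rw [hPA8]; exact hmul)
  let SB : Sylow 2 G := Sylow.ofCard PB (by rw [hPB8]; exact hmul)
  -- elements of order four
  have hfour : ∀ P : Subgroup G, IsPGroup 2 P → Nat.card P = 8 → ∃ c ∈ P, orderOf c = 4 := by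
    intro P hP h8
    have h1 : ∃ x ∈ P, x ^ 2 ≠ 1 := by
      by_contra hcon
      push Not at hcon
      have := hun.card_le_of_forall_pow P hcon
      omega
    obtain ⟨x, hx, hx2⟩ := h1
    obtain ⟨a, ha⟩ := hP ⟨x, hx⟩
    obtain ⟨k, hk⟩ := exists_order_four_pow (congrArg Subtype.val ha) hx2
    exact ⟨_, _root_.pow_mem hx k, hk⟩
  obtain ⟨c, hcP, hc4'⟩ := hfour PA hPA hPA8
  obtain ⟨c', hc'P, hc'4⟩ := hfour PB hPB hPB8
  have hW : ∀ (P E : Subgroup G) (c : G), c ∈ P → orderOf c = 4 → P ⊓ E = ⊥ →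
      (∀ a ∈ E, ∀ u ∈ P, a * u = u * a) → (∀ a ∈ E, ∀ b ∈ E, a * b = b * a) →
      IsMulCommutative ↥(zpowers c ⊔ E) ∧ Nat.card ↥(zpowers c ⊔ E) = 4 * Nat.card E := by
    intro P E c hcP hc hinf hcen hcomm
    have hzP : zpowers c ≤ P := (Subgroup.zpowers_le).2 hcP
    have hcc : ∀ u ∈ zpowers c, ∀ v ∈ E, u * v = v * u := fun u hu v hv => (hcen v hv u (hzP hu)).symm
    constructor
    · refine mulComm_of_forall (comm_sup _ _ hcc ?_ hcomm)
      intro a ha b hb
      obtain ⟨i, rfl⟩ := Subgroup.mem_zpowers_iff.1 ha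
      obtain ⟨j, rfl⟩ := Subgroup.mem_zpowers_iff.1 hb
      exact ((Commute.refl c).zpow_zpow i j).eq
    · rw [card_sup_of_comm _ _ hcc, Nat.card_zpowers, hc]
      rw [eq_bot_iff, ← hinf]
      exact inf_le_inf_right E hzP
  obtain ⟨hWA, hWAc⟩ := hW PA A₀ c hcP hc4' hinfA hcenA hcommA
  obtain ⟨hWB, hWBc⟩ := hW PB B₀ c' hc'P hc'4 hinfB hcenB hcommB
  obtain ⟨g, hg⟩ := hB _ _ hWA hWB (by rw [hWAc, hWBc, hcAB])
  -- `A₀ ^ g = B₀`
  have hAB : A₀.map (MulAut.conj g).toMonoidHom = B₀ := by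
    apply Subgroup.eq_of_le_of_card_ge
    · intro x hx
      obtain ⟨a, ha, rfl⟩ := mem_conj_iff.1 hx
      have h1 : g * a * g⁻¹ ∈ zpowers c' ⊔ B₀ := by
        rw [hg]
        exact mem_conj_iff.2 ⟨a, Subgroup.mem_sup_right ha, rfl⟩
      have hcc : ∀ u ∈ zpowers c', ∀ v ∈ B₀, u * v = v * u := fun u hu v hv =>
        (hcenB v hv u (((Subgroup.zpowers_le).2 hc'P) hu)).symm
      obtain ⟨u, hu, v, hv, huv⟩ := exists_mul_of_mem_sup _ _ hcc h1
      have h2 : a ^ Nat.card A₀ = 1 := by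
        have := pow_card_eq_one' (G := A₀) (x := ⟨a, ha⟩)
        exact congrArg Subtype.val this
      have h3 : (g * a * g⁻¹) ^ Nat.card A₀ = 1 := by
        rw [conj_pow, h2]; group
      rw [huv, (show Commute u v from hcc u hu v hv).mul_pow] at h3
      have h4 : u ^ Nat.card A₀ ∈ PB ⊓ B₀ := by
        refine Subgroup.mem_inf.mpr ⟨_root_.pow_mem (((Subgroup.zpowers_le).2 hc'P) hu) _, ?_⟩
        rw [mul_eq_one_iff_eq_inv.1 h3]
        exact B₀.inv_mem (_root_.pow_mem hv _)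
      rw [hinfB, Subgroup.mem_bot] at h4
      have h5 : orderOf u ∣ Nat.card A₀ := orderOf_dvd_of_pow_eq_one h4
      have h6 : orderOf u ∣ 4 := by
        obtain ⟨i, rfl⟩ := Subgroup.mem_zpowers_iff.1 hu
        have hc'1 : c' ^ 4 = 1 := by
          rw [← hc'4]; exact pow_orderOf_eq_one c'
        apply orderOf_dvd_of_pow_eq_one
        rw [← zpow_natCast, ← zpow_mul, mul_comm, zpow_mul, zpow_natCast, hc'1, one_zpow]
      have h7 : orderOf u = 1 := by
        have h8 : Nat.Coprime (Nat.card A₀) 4 := by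
          have : (4 : ℕ) = 2 ^ 2 := by norm_num
          rw [this]
          exact Nat.Coprime.pow_right _ hA₀c
        exact Nat.eq_one_of_dvd_coprimes h8 h5 h6
      rw [huv, orderOf_eq_one_iff.1 h7, one_mul]
      exact hv
    · rw [card_conj, hcAB]
  -- Sylow in the centraliser
  set C := centralizer (B₀ : Set G) with hC
  have h1 : (SB : Subgroup G) ≤ C := by
    intro u hu
    rw [hC, Subgroup.mem_centralizer_iff]
    intro b hb
    exact hcenB b hb u hu
  let SA' : Sylow 2 G := g • SA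
  have hSA' : (SA' : Subgroup G) = PA.map (MulAut.conj g).toMonoidHom := by
    rw [Sylow.coe_subgroup_smul]
    rfl
  have h2 : (SA' : Subgroup G) ≤ C := by
    rw [hSA']
    intro x hx
    obtain ⟨u, hu, rfl⟩ := mem_conj_iff.1 hx
    rw [hC, Subgroup.mem_centralizer_iff]
    intro b hb
    rw [← hAB] at hb
    obtain ⟨a, ha, rfl⟩ := mem_conj_iff.1 hb
    have := hcenA a ha u hu
    calc g * a * g⁻¹ * (g * u * g⁻¹) = g * (a * u) * g⁻¹ := by group
      _ = g * (u * a) * g⁻¹ := by rw [this]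
      _ = g * u * g⁻¹ * (g * a * g⁻¹) := by group
  obtain ⟨h, hhC, hh⟩ := sylow_conj_in C SA' SB h2 h1
  refine ⟨h * g, ?_⟩
  have hmap : ∀ X : Subgroup G, X.map (MulAut.conj (h * g)).toMonoidHom =
      (X.map (MulAut.conj g).toMonoidHom).map (MulAut.conj h).toMonoidHom := by
    intro X
    rw [Subgroup.map_map]
    congr 1
    ext x
    simp [mul_assoc]
  rw [← hsupA, ← hsupB, Subgroup.map_sup, hmap, hmap, hAB, ← hSA', ← hh]
  have hfix : B₀.map (MulAut.conj h).toMonoidHom = B₀ := by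
    apply Subgroup.eq_of_le_of_card_ge
    · intro x hx
      obtain ⟨b, hb, rfl⟩ := mem_conj_iff.1 hx
      have := (Subgroup.mem_centralizer_iff.1 hhC) b hb
      have h3 : h * b * h⁻¹ = b := by
        calc h * b * h⁻¹ = b * h * h⁻¹ := by rw [this]
          _ = b := by group
      rw [h3]
      exact hb
    · rw [card_conj]
  rw [hfix]
  rfl

end nonab

/-! ### The main theorem -/

section main

variable [Finite G]

/-- Quotient by an elementary abelian normal subgroup. -/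
theorem core (hB : BProp G) (hsol : Group.IsSolvable G) (M : Subgroup G) [hMn : M.Normal] (r : ℕ) [hr : Fact r.Prime]
    (hMc : ∀ a ∈ M, ∀ b ∈ M, a * b = b * a) (hMe : ∀ a ∈ M, a ^ r = 1) (hM1 : M ≠ ⊥) : BProp (G ⧸ M) := by
  have hp := hr.out
  have hMr : IsPGroup r M := fun x => ⟨1, by
    rw [pow_one]; exact Subtype.ext (hMe x x.2)⟩
  obtain ⟨k, hk⟩ := IsPGroup.iff_card.1 hMr
  intro A B hA hB' hAB
  by_cases hrA : r ∣ Nat.card A
  · -- `M` has prime order
    have hk1 : k = 1 := by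
      rcases k with _ | _ | k
      · exfalso
        apply hM1
        rw [pow_zero] at hk
        exact (Subgroup.card_eq_one (H := M)).1 hk
      · rfl
      · exfalso
        exact not_dvd_of_sq (r := r) hB hMc hMe (by rw [hk]; exact pow_dvd_pow r (by omega)) A hrA
    subst hk1
    rw [pow_one] at hk
    have hun : ∀ x : G, x ^ r = 1 → x ∈ M := fun x hx => mem_of_pow_r hB hMc hk hx
    have hcommL : ∀ X : Subgroup (G ⧸ M), IsMulCommutative ↥X → ∀ x ∈ X.comap (QuotientGroup.mk' M),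
        ∀ y ∈ X.comap (QuotientGroup.mk' M), x * y * x⁻¹ * y⁻¹ ∈ M := by
      intro X hX x hx y hy
      rw [← QuotientGroup.eq_one_iff]
      have h1 := forall_of_mulComm hX _ hx _ hy
      have h2 : ((x * y * x⁻¹ * y⁻¹ : G) : G ⧸ M) =
          (QuotientGroup.mk' M x) * (QuotientGroup.mk' M y) * (QuotientGroup.mk' M x)⁻¹ * (QuotientGroup.mk' M y)⁻¹ := rfl
      rw [h2, h1]
      group
    have hcardL : Nat.card (A.comap (QuotientGroup.mk' M)) = Nat.card (B.comap (QuotientGroup.mk' M)) := by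
      rw [card_comap_mk, card_comap_mk, hAB]
    obtain ⟨PA, A₀, hPAL, hA₀L, hMPA, hPAr, hA₀c, hsupA, hinfA, hcenA, hcommA, hcardA⟩ :=
      decomp hk hun (A.comap (QuotientGroup.mk' M)) (le_comap_mk A) (hcommL A hA) (by rw [relIndex_comap_mk]; exact hrA)
    obtain ⟨PB, B₀, hPBL, hB₀L, hMPB, hPBr, hB₀c, hsupB, hinfB, hcenB, hcommB, hcardB⟩ :=
      decomp hk hun (B.comap (QuotientGroup.mk' M)) (le_comap_mk B) (hcommL B hB') (by rw [relIndex_comap_mk, ← hAB]; exact hrA)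
    -- conjugate the preimages
    have hconj : ∃ g : G, B.comap (QuotientGroup.mk' M) = (A.comap (QuotientGroup.mk' M)).map (MulAut.conj g).toMonoidHom := by
      have hunP : UniqueP r G := by
        intro H K hH hK
        have key : ∀ X : Subgroup G, Nat.card X = r → X = M := by
          intro X hX
          apply Subgroup.eq_of_le_of_card_ge
          · intro x hx
            apply hun
            have := pow_card_eq_one' (G := X) (x := ⟨x, hx⟩)
            rw [hX] at this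
            exact congrArg Subtype.val this
          · rw [hX, hk]
        rw [key H hH, key K hK]
      by_cases hPAc : ∀ u ∈ PA, ∀ v ∈ PA, u * v = v * u
      · by_cases hPBc : ∀ u ∈ PB, ∀ v ∈ PB, u * v = v * u
        · have hcc : ∀ (P E : Subgroup G), (∀ a ∈ E, ∀ u ∈ P, a * u = u * a) → (∀ u ∈ P, ∀ v ∈ P, u * v = v * u) →
              (∀ a ∈ E, ∀ b ∈ E, a * b = b * a) → ∀ a ∈ P ⊔ E, ∀ b ∈ P ⊔ E, a * b = b * a :=
            fun P E h1 h2 h3 => comm_sup P E (fun u hu v hv => (h1 v hv u hu).symm) h2 h3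
          rw [← hsupA, ← hsupB]
          exact hB _ _ (mulComm_of_forall (hcc _ _ hcenA hPAc hcommA)) (mulComm_of_forall (hcc _ _ hcenB hPBc hcommB))
            (by rw [hsupA, hsupB, hcardL])
        · -- `PB` non-abelian
          have hr2 : r = 2 := by
            by_contra hne
            apply hPBc
            have hcyc : IsCyclic ↥PB := Cfsg.Agent.Lib.OddLocal.isCyclic_of_uniqueP_odd hne _ ↥PB rfl hPBr (hunP.subgroup PB)
            intro u hu v hv
            letI := hcyc.commGroup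
            exact congrArg Subtype.val (mul_comm (⟨u, hu⟩ : ↥PB) ⟨v, hv⟩)
          subst hr2
          obtain ⟨g, hg⟩ := nonab hB hsol hunP _ _ PB B₀ PA A₀ hPBr hB₀c hsupB hinfB hcenB hcommB hcardB hPAr hA₀c hsupA hinfA
            hcenA hcommA hcardA hcardL.symm hPBc
          exact ⟨g⁻¹, conj_inv_of_eq hg⟩
      · have hr2 : r = 2 := by
          by_contra hne
          apply hPAc
          have hcyc : IsCyclic ↥PA := Cfsg.Agent.Lib.OddLocal.isCyclic_of_uniqueP_odd hne _ ↥PA rfl hPAr (hunP.subgroup PA)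
          intro u hu v hv
          letI := hcyc.commGroup
          exact congrArg Subtype.val (mul_comm (⟨u, hu⟩ : ↥PA) ⟨v, hv⟩)
        subst hr2
        exact nonab hB hsol hunP _ _ PA A₀ PB B₀ hPAr hA₀c hsupA hinfA hcenA hcommA hcardA hPBr hB₀c hsupB hinfB
          hcenB hcommB hcardB hcardL hPAc
    obtain ⟨g, hg⟩ := hconj
    refine ⟨QuotientGroup.mk' M g, ?_⟩
    have h1 := congrArg (Subgroup.map (QuotientGroup.mk' M)) hg
    rwa [map_comap_mk, map_conj_map, map_comap_mk] at h1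
  · -- the coprime case
    refine coprime_case hB A B hA hB' hAB ?_
    rw [hk]
    exact Nat.Coprime.pow_left _ ((Nat.Prime.coprime_iff_not_dvd hp).2 hrA)

end main

/-- Quotients of soluble groups with the property. -/
theorem bprop_quotient : ∀ (n : ℕ) (G : Type u) [Group G] [Finite G], Nat.card G = n → BProp G → Group.IsSolvable G →
    ∀ (M : Subgroup G) [M.Normal], BProp (G ⧸ M) := by
  intro n
  induction n using Nat.strong_induction_on with
  | _ n ih =>
  intro G _ _ hn hB hsol M hM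
  by_cases hMb : M = ⊥
  · subst hMb
    exact BProp.of_equiv (QuotientGroup.quotientBot).symm hB
  obtain ⟨M₀, hM₀, hM₀M⟩ := Cfsg.Agent.Lib.Basic.exists_isMinNormal_le hM hMb
  haveI hM₀n : M₀.Normal := hM₀.1
  obtain ⟨h1, r, hr, h2⟩ := hM₀.elementary
  haveI : Fact r.Prime := ⟨hr⟩
  have hq : BProp (G ⧸ M₀) := core hB hsol M₀ r (forall_of_mulComm h1) h2 hM₀.2.1
  have hlt : Nat.card (G ⧸ M₀) < n := by
    have h3 := Subgroup.card_eq_card_quotient_mul_card_subgroup M₀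
    have h4 : 1 < Nat.card M₀ := (Subgroup.one_lt_card_iff_ne_bot M₀).mpr hM₀.2.1
    rw [← hn, h3]
    exact lt_mul_of_one_lt_right Nat.card_pos h4
  have h5 := ih _ hlt (G ⧸ M₀) rfl hq inferInstance (M.map (QuotientGroup.mk' M₀))
  exact BProp.of_equiv (QuotientGroup.quotientQuotientEquivQuotient M₀ M hM₀M) h5

end Cfsg.Agent.Lib.Coprime.BP
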