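import Mathlib
import Cfsg.Agent.Lib.Coprime.BProp
import Cfsg.Agent.Lib.Basic.SchurZassenhaus
import Cfsg.Agent.Lib.PGroups.CycSub

/-!
# All subgroups of equal order conjugate: reductions and `Z`-groups
-/

set_option autoImplicit false
set_option linter.unusedSectionVars false
set_option linter.style.haveILetI false
set_option linter.unusedVariables false

namespace Cfsg.Agent.Lib.Coprime.BP

open Subgroup Cfsg
open Cfsg.Agent.Lib.OddLocal (UniqueP)
open scoped Pointwise

universe u

variable {G : Type*} [Group G]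

/-- Subgroups of equal order are conjugate. -/
def AProp (G : Type*) [Group G] : Prop :=
  ∀ X Y : Subgroup G, Nat.card X = Nat.card Y → ∃ g : G, Y = X.map (MulAut.conj g).toMonoidHom

theorem map_conj_mul (X : Subgroup G) (a g : G) :
    (X.map (MulAut.conj g).toMonoidHom).map (MulAut.conj a).toMonoidHom =
      X.map (MulAut.conj (a * g)).toMonoidHom := by
  rw [Subgroup.map_map]
  congr 1
  ext x
  simp [mul_assoc]

theorem card_map_of_inj {H : Type*} [Group H] (f : G →* H) (X : Subgroup G) (h : ∀ x ∈ X, f x = 1 → x = 1) :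
    Nat.card (X.map f) = Nat.card X := by
  let e : ↥X → ↥(X.map f) := fun x => ⟨f x, x, x.2, rfl⟩
  have he : Function.Bijective e := by
    constructor
    · intro x y hxy
      have h1 : f (x : G) = f (y : G) := congrArg Subtype.val hxy
      have h2 : f ((x : G) * (y : G)⁻¹) = 1 := by
        rw [map_mul, map_inv, h1, mul_inv_cancel]
      have h3 := h _ (X.mul_mem x.2 (X.inv_mem y.2)) h2
      exact Subtype.ext (mul_inv_eq_one.1 h3)
    · rintro ⟨_, x, hx, rfl⟩
      exact ⟨⟨x, hx⟩, rfl⟩
  exact (Nat.card_congr (Equiv.ofBijective e he)).symm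

section

variable [Finite G]

theorem zpowers_comm (z : G) : ∀ a ∈ zpowers z, ∀ b ∈ zpowers z, a * b = b * a := by
  intro a ha b hb
  obtain ⟨i, rfl⟩ := Subgroup.mem_zpowers_iff.1 ha
  obtain ⟨j, rfl⟩ := Subgroup.mem_zpowers_iff.1 hb
  exact ((Commute.refl z).zpow_zpow i j).eq

/-- Reduction along a normal subgroup of prime order containing all elements of that order. -/
theorem AProp.of_quotient_prime (M : Subgroup G) [hMn : M.Normal] (r : ℕ) [hr : Fact r.Prime]
    (hMc : Nat.card M = r) (hun : ∀ x : G, x ^ r = 1 → x ∈ M) (hA : AProp (G ⧸ M)) : AProp G := by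
  have hp := hr.out
  have hMX : ∀ X : Subgroup G, r ∣ Nat.card X → M ≤ X := by
    intro X hX
    obtain ⟨x, hx⟩ := exists_prime_orderOf_dvd_card' r hX
    have hx' : orderOf (x : G) = r := by rw [Subgroup.orderOf_coe]; exact hx
    have hxM : (x : G) ∈ M := hun _ (by rw [← hx']; exact pow_orderOf_eq_one _)
    have hz : zpowers (x : G) = M := by
      apply Subgroup.eq_of_le_of_card_ge
      · exact (Subgroup.zpowers_le).2 hxM
      · rw [Nat.card_zpowers, hx', hMc]
    rw [← hz]
    exact (Subgroup.zpowers_le).2 x.2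
  have hker : (QuotientGroup.mk' M).ker = M := QuotientGroup.ker_mk' M
  intro X Y hXY
  by_cases hrX : r ∣ Nat.card X
  · have hMXle := hMX X hrX
    have hMYle := hMX Y (hXY ▸ hrX)
    have hcard : ∀ Z : Subgroup G, M ≤ Z → Nat.card Z = r * Nat.card (Z.map (QuotientGroup.mk' M)) := by
      intro Z hZ
      have h1 := card_comap_mk (Z.map (QuotientGroup.mk' M))
      rw [Subgroup.comap_map_eq_self (by rw [hker]; exact hZ), hMc] at h1
      exact h1
    obtain ⟨gq, hgq⟩ := hA (X.map (QuotientGroup.mk' M)) (Y.map (QuotientGroup.mk' M)) (by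
      have h1 := hcard X hMXle
      have h2 := hcard Y hMYle
      rw [hXY, h2] at h1
      exact (Nat.eq_of_mul_eq_mul_left hp.pos h1).symm)
    obtain ⟨g, rfl⟩ := QuotientGroup.mk'_surjective M gq
    refine ⟨g, ?_⟩
    have h1 : (X.map (MulAut.conj g).toMonoidHom).map (QuotientGroup.mk' M) = Y.map (QuotientGroup.mk' M) := by
      rw [map_conj_map, hgq]
    have h2 := congrArg (Subgroup.comap (QuotientGroup.mk' M)) h1
    have hMX' : M ≤ X.map (MulAut.conj g).toMonoidHom := by
      intro m hm
      refine mem_conj_iff.2 ⟨g⁻¹ * m * g, hMXle ?_, by group⟩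
      have := hMn.conj_mem m hm g⁻¹
      simpa using this
    rw [Subgroup.comap_map_eq_self (by rw [hker]; exact hMX'),
      Subgroup.comap_map_eq_self (by rw [hker]; exact hMYle)] at h2
    exact h2.symm
  · have hrY : ¬ r ∣ Nat.card Y := hXY ▸ hrX
    have hcop : ∀ Z : Subgroup G, ¬ r ∣ Nat.card Z → (Nat.card M).Coprime (Nat.card Z) := by
      intro Z hZ
      rw [hMc]
      exact (Nat.Prime.coprime_iff_not_dvd hp).2 hZ
    have hinj : ∀ Z : Subgroup G, ¬ r ∣ Nat.card Z → ∀ x ∈ Z, QuotientGroup.mk' M x = 1 → x = 1 := by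
      intro Z hZ x hx h1
      have h2 : x ∈ M ⊓ Z := Subgroup.mem_inf.mpr ⟨by
        rw [← hker]; exact h1, hx⟩
      rw [(Subgroup.disjoint_of_coprime_natCard (hcop Z hZ)).eq_bot, Subgroup.mem_bot] at h2
      exact h2
    obtain ⟨gq, hgq⟩ := hA (X.map (QuotientGroup.mk' M)) (Y.map (QuotientGroup.mk' M)) (by
      rw [card_map_of_inj _ _ (hinj X hrX), card_map_of_inj _ _ (hinj Y hrY), hXY])
    obtain ⟨g, rfl⟩ := QuotientGroup.mk'_surjective M gq
    set X' := X.map (MulAut.conj g).toMonoidHom with hX'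
    have hcX' : Nat.card X' = Nat.card X := card_conj X g
    have h1 : X'.map (QuotientGroup.mk' M) = Y.map (QuotientGroup.mk' M) := by
      rw [hX', map_conj_map, hgq]
    have h2 := congrArg (Subgroup.comap (QuotientGroup.mk' M)) h1
    rw [Subgroup.comap_map_eq, Subgroup.comap_map_eq, hker] at h2
    haveI hMcomm : IsMulCommutative ↥M := by
      haveI : Fact (Nat.Prime (Nat.card M)) := ⟨by rw [hMc]; exact hp⟩
      haveI := isCyclic_of_prime_card (α := ↥M) rfl
      letI := (inferInstance : IsCyclic ↥M).commGroup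
      exact ⟨⟨fun a b => mul_comm a b⟩⟩
    have hnorm : ∀ Z : Subgroup G, Z ≤ normalizer (M : Set G) := by
      intro Z
      rw [Subgroup.normalizer_eq_top_iff.2 hMn]
      exact le_top
    obtain ⟨a, haM, ha⟩ := Cfsg.Agent.Lib.Basic.schurZassenhaus_conj_abelian_rel M X' Y (hnorm _) (hnorm _)
      (by rw [hcX']; exact hcop X hrX) (hcop Y hrY) h2
    refine ⟨a * g, ?_⟩
    rw [← map_conj_mul, ← ha]
    rfl

/-- Groups all of whose Sylow subgroups are cyclic have the property. -/
theorem aprop_of_isZGroup : ∀ (n : ℕ) (G : Type u) [Group G] [Finite G] [IsZGroup G], Nat.card G = n → AProp G := by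
  intro n
  induction n using Nat.strong_induction_on with
  | _ n ih =>
  intro G _ _ _ hn
  by_cases hnt : Nontrivial G
  · obtain ⟨M, hM⟩ := Cfsg.Agent.Lib.Basic.exists_isMinNormal (G := G)
    haveI hMn : M.Normal := hM.1
    obtain ⟨h1, r, hr, h2⟩ := hM.elementary
    haveI hrf : Fact r.Prime := ⟨hr⟩
    have hMr : IsPGroup r M := fun x => ⟨1, by
      rw [pow_one]; exact Subtype.ext (h2 x x.2)⟩
    have hMcyc : IsCyclic ↥M := hMr.isCyclic_of_isZGroup
    have hMcard : Nat.card M = r := by
      obtain ⟨⟨m, hm⟩, hgen⟩ := hMcyc.exists_generator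
      have h3 : orderOf (⟨m, hm⟩ : ↥M) = Nat.card M := orderOf_eq_card_of_forall_mem_zpowers hgen
      have h4 : (⟨m, hm⟩ : ↥M) ^ r = 1 := Subtype.ext (h2 m hm)
      have h5 := orderOf_dvd_of_pow_eq_one h4
      rw [h3] at h5
      rcases (Nat.dvd_prime hr).1 h5 with h6 | h6
      · exfalso
        exact hM.2.1 ((Subgroup.card_eq_one (H := M)).1 h6)
      · exact h6
    have hun : ∀ x : G, x ^ r = 1 → x ∈ M := by
      intro x hx
      by_cases hx1 : x = 1
      · rw [hx1]; exact M.one_mem
      have hord : orderOf x = r := orderOf_eq_prime hx hx1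
      have hxr : IsPGroup r (zpowers x) := by
        rw [IsPGroup.iff_card, Nat.card_zpowers, hord]
        exact ⟨1, by simp⟩
      obtain ⟨P, hP⟩ := hxr.exists_le_sylow
      have hMP : M ≤ P := Cfsg.Agent.Lib.Basic.normal_pGroup_le_sylow hMn hMr P
      haveI hPc : IsCyclic ↥(P : Subgroup G) := inferInstance
      have hc : Nat.card (M.subgroupOf P) = Nat.card ((zpowers x).subgroupOf P) := by
        rw [Nat.card_congr (Subgroup.subgroupOfEquivOfLe hMP).toEquiv,
          Nat.card_congr (Subgroup.subgroupOfEquivOfLe hP).toEquiv, hMcard, Nat.card_zpowers, hord]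
      have he := Cfsg.Agent.Lib.PGroups.eq_of_card_eq_of_isCyclic hc
      have h3 : (⟨x, hP (Subgroup.mem_zpowers x)⟩ : ↥(P : Subgroup G)) ∈ (zpowers x).subgroupOf P :=
        Subgroup.mem_subgroupOf.2 (Subgroup.mem_zpowers x)
      rw [← he] at h3
      exact h3
    have hlt : Nat.card (G ⧸ M) < n := by
      have h3 := Subgroup.card_eq_card_quotient_mul_card_subgroup M
      have h4 : 1 < Nat.card M := (Subgroup.one_lt_card_iff_ne_bot M).mpr hM.2.1
      rw [← hn, h3]
      exact lt_mul_of_one_lt_right Nat.card_pos h4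
    exact AProp.of_quotient_prime M r hMcard hun (ih _ hlt (G ⧸ M) rfl)
  · rw [not_nontrivial_iff_subsingleton] at hnt
    intro X Y _
    exact ⟨1, Subsingleton.elim _ _⟩

end

end Cfsg.Agent.Lib.Coprime.BP
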