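import Mathlib
import Cfsg.Agent.Lib.Coprime.PSolvable
import Cfsg.Agent.Lib.Coprime.PGroup
import Cfsg.Agent.Lib.Basic.Hall
import Cfsg.Agent.Lib.Basic.MinNormal
import Cfsg.Agent.Lib.Basic.Conj
import Cfsg.Prelude.Def_OddOrderLocal

/-!
# Hall subgroups under coprime action on a solvable group
-/

set_option autoImplicit false
set_option linter.unusedSectionVars false
set_option linter.style.haveILetI false

namespace Cfsg.Agent.Lib.Coprime

open Cfsg

open scoped commutatorElement Pointwise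

universe u

variable {X : Type*} [Group X]

section hall
variable {π : Set ℕ} {G H K : Subgroup X}

theorem IsPiHallOf_coprime (h : IsPiHallOf π H G) (h' : IsPiHallOf π K G) :
    (Nat.card H).Coprime (K.relIndex G) :=
  Nat.coprime_of_dvd fun q hq h1 h2 => h'.2.2 q hq (h.2.1 q hq h1) h2

theorem IsPiHallOf_card_eq [Finite X] (h : IsPiHallOf π H G) (h' : IsPiHallOf π K G) :
    Nat.card H = Nat.card K := by
  have e : Nat.card H * H.relIndex G = Nat.card K * K.relIndex G := by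
    rw [card_mul_relIndex h.1, card_mul_relIndex h'.1]
  apply Nat.dvd_antisymm
  · exact (IsPiHallOf_coprime h h').dvd_of_dvd_mul_right ⟨_, e.symm⟩
  · exact (IsPiHallOf_coprime h' h).dvd_of_dvd_mul_right ⟨_, e⟩

/-- Hall `π`-subgroups of a solvable subgroup are conjugate. -/
theorem IsPiHallOf_exists_conj [Finite X] (hs : Group.IsSolvable G) (h : IsPiHallOf π H G)
    (h' : IsPiHallOf π K G) : ∃ g ∈ G, K = H.map (MulAut.conj g).toMonoidHom := by
  have hcH : Nat.card (H.subgroupOf G) = Nat.card H :=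
    Nat.card_congr (Subgroup.subgroupOfEquivOfLe h.1).toEquiv
  have hcK : Nat.card (K.subgroupOf G) = Nat.card K :=
    Nat.card_congr (Subgroup.subgroupOfEquivOfLe h'.1).toEquiv
  have hcop : (Nat.card (H.subgroupOf G)).Coprime (H.subgroupOf G).index := by
    rw [hcH]
    exact IsPiHallOf_coprime h h
  obtain ⟨g, hg⟩ := Cfsg.Agent.Lib.Basic.hall_conj (H.subgroupOf G) (K.subgroupOf G) hcop
    (by rw [hcH, hcK, IsPiHallOf_card_eq h h'])
  refine ⟨g, g.2, ?_⟩
  symm
  apply Subgroup.eq_of_le_of_card_ge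
  · rintro _ ⟨x, hx, rfl⟩
    have hx' : (⟨x, h.1 hx⟩ : G) ∈ H.subgroupOf G := hx
    have h1 : g * ⟨x, h.1 hx⟩ * g⁻¹ ∈ MulAut.conj g • (H.subgroupOf G) :=
      Cfsg.Agent.Lib.Basic.conj_mem_conj_smul.mpr hx'
    rw [hg] at h1
    exact h1
  · rw [card_conj_map, IsPiHallOf_card_eq h h']

end hall

/-- Lemma L: with `M` a normal subgroup and coprime data, an `A`-invariant complement of `M`
containing `U`. -/
theorem exists_invariant_complement [Finite X] {A G M U : Subgroup X} (h : CoprimeAction A G)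
    (hs : Group.IsSolvable G) (hMG : M ≤ G) (hMn : G ≤ Subgroup.normalizer (M : Set X))
    (hMA : A ≤ Subgroup.normalizer (M : Set X)) (hc : (Nat.card M).Coprime (M.relIndex G))
    (hUG : U ≤ G) (hUA : A ≤ Subgroup.normalizer (U : Set X))
    (hUM : (Nat.card U).Coprime (Nat.card M)) :
    ∃ H : Subgroup X, H ≤ G ∧ A ≤ Subgroup.normalizer (H : Set X) ∧ U ≤ H ∧
      Nat.card H = M.relIndex G := by
  obtain ⟨H₀, hH₀G, hsup, hinf, hcard⟩ := exists_complement_of_coprime hMG hMn hc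
  have hsolM : Group.IsSolvable M := Cfsg.Agent.Lib.Basic.isSolvable_of_le hMG hs
  -- conjugating so that `U ≤ H₁`
  have hUact : CoprimeAction U M := ⟨hUG.trans hMn, hUM, Or.inr hsolM⟩
  let S₀ : Subgroup X := H₀ ⊓ (M ⊔ U)
  have hMsupU : M ⊔ U ≤ G := sup_le hMG hUG
  have hnG : M ⊔ U ≤ Subgroup.normalizer (M : Set X) := hMsupU.trans hMn
  have hGS₀ : M ⊔ S₀ = M ⊔ U := by
    apply le_antisymm (sup_le le_sup_left inf_le_right)
    intro x hx
    have hxG : x ∈ M ⊔ H₀ := hsup ▸ hMsupU hx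
    have hH₀n : H₀ ≤ Subgroup.normalizer (M : Set X) := hH₀G.trans hMn
    obtain ⟨m, hm, y, hy, rfl⟩ := (mem_sup_iff_of_le_normalizer hH₀n x).mp hxG
    refine Subgroup.mul_mem_sup hm ⟨hy, ?_⟩
    have : y = m⁻¹ * (m * y) := by group
    rw [this]
    exact Subgroup.mul_mem _ (Subgroup.inv_mem _ (Subgroup.mem_sup_left hm)) hx
  obtain ⟨m, hm, hUm⟩ := hUact.exists_le_conj (S := S₀) inf_le_right hGS₀
  let H₁ : Subgroup X := H₀.map (MulAut.conj m).toMonoidHom
  have hUH₁ : U ≤ H₁ := hUm.trans (Subgroup.map_mono inf_le_left)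
  have hmG : m ∈ G := hMG hm
  have hH₁G : H₁ ≤ G := by
    rintro _ ⟨y, hy, rfl⟩
    exact G.mul_mem (G.mul_mem hmG (hH₀G hy)) (G.inv_mem hmG)
  have hcH₁ : Nat.card H₁ = M.relIndex G := by rw [card_conj_map, hcard]
  have hH₁n : H₁ ≤ Subgroup.normalizer (M : Set X) := hH₁G.trans hMn
  have hsup₁ : M ⊔ H₁ = G := by
    apply le_antisymm (sup_le hMG hH₁G)
    intro x hx
    have hH₀n : H₀ ≤ Subgroup.normalizer (M : Set X) := hH₀G.trans hMn
    have hx' : m⁻¹ * x * m ∈ M ⊔ H₀ := by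
      rw [hsup]
      exact G.mul_mem (G.mul_mem (G.inv_mem hmG) hx) hmG
    obtain ⟨n, hn, y, hy, hxy⟩ := (mem_sup_iff_of_le_normalizer hH₀n _).mp hx'
    have e : x = (m * n * m⁻¹) * (m * y * m⁻¹) := by
      have e1 : x = m * (m⁻¹ * x * m) * m⁻¹ := by group
      rw [e1, hxy]; group
    rw [e]
    exact Subgroup.mul_mem_sup (M.mul_mem (M.mul_mem hm hn) (M.inv_mem hm)) ⟨y, hy, rfl⟩
  have hinf₁ : M ⊓ H₁ = ⊥ := by
    have hd : Disjoint M H₁ := Subgroup.disjoint_of_coprime_natCard (by rw [hcH₁]; exact hc)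
    exact hd.eq_bot
  let T' : Subgroup X := M ⊓ Subgroup.centralizer (U : Set X)
  have hT'A : A ≤ Subgroup.normalizer (T' : Set X) := by
    intro a ha
    apply mem_normalizer_of_conj_le
    intro x hx
    obtain ⟨hxM, hxU⟩ := Subgroup.mem_inf.mp hx
    refine Subgroup.mem_inf.mpr ⟨(Subgroup.mem_normalizer_iff.mp (hMA ha) x).mp hxM, ?_⟩
    rw [Subgroup.mem_centralizer_iff] at hxU ⊢
    intro u hu
    have hu' : a⁻¹ * u * a ∈ U := by
      have := (Subgroup.mem_normalizer_iff.mp (Subgroup.inv_mem _ (hUA ha)) u).mp hu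
      simpa using this
    have h1 := hxU _ hu'
    have e1 : u = a * (a⁻¹ * u * a) * a⁻¹ := by group
    calc u * (a * x * a⁻¹) = a * ((a⁻¹ * u * a) * x) * a⁻¹ := by group
      _ = a * (x * (a⁻¹ * u * a)) * a⁻¹ := by rw [h1]
      _ = a * x * a⁻¹ * u := by group
  have hT'G : T' ≤ G := inf_le_left.trans hMG
  have hact : CoprimeAction A T' := h.mono hT'G hT'A
  let S : Subgroup X := Subgroup.normalizer (H₁ : Set X) ⊓ (T' ⊔ A)
  have hH1act : CoprimeAction H₁ M := ⟨hH₁n, by rw [hcH₁]; exact hc.symm, Or.inr hsolM⟩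
  have hGS : T' ⊔ S = T' ⊔ A := by
    apply le_antisymm (sup_le le_sup_left inf_le_right)
    refine sup_le le_sup_left fun a ha => ?_
    have hB : H₁.map (MulAut.conj a).toMonoidHom ≤ M ⊔ H₁ := by
      rw [hsup₁]
      rintro _ ⟨y, hy, rfl⟩
      exact (Subgroup.mem_normalizer_iff.mp (h.normalizes ha) y).mp (hH₁G hy)
    obtain ⟨n, hn, hBn⟩ := hH1act.exists_conj_eq hB (card_conj_map _ _)
    have hnU : n ∈ Subgroup.centralizer (U : Set X) := by
      rw [Subgroup.mem_centralizer_iff]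
      intro u hu
      have hu' : a⁻¹ * u * a ∈ U := by
        have := (Subgroup.mem_normalizer_iff.mp (Subgroup.inv_mem _ (hUA ha)) u).mp hu
        simpa using this
      have h1 : u ∈ H₁.map (MulAut.conj a).toMonoidHom := by
        rw [mem_conj_map]
        exact hUH₁ hu'
      rw [hBn, mem_conj_map] at h1
      have huH : u ∈ H₁ := hUH₁ hu
      have hw : u⁻¹ * (n⁻¹ * u * n) ∈ M ⊓ H₁ := by
        refine ⟨?_, H₁.mul_mem (H₁.inv_mem huH) h1⟩
        have h2 : u⁻¹ * (n⁻¹ * u * n) = (u⁻¹ * n⁻¹ * u) * n := by group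
        rw [h2]
        refine M.mul_mem ?_ hn
        have := (Subgroup.mem_normalizer_iff.mp (Subgroup.inv_mem _ (hMn (hUG hu))) n⁻¹).mp
          (M.inv_mem hn)
        simpa using this
      rw [hinf₁, Subgroup.mem_bot] at hw
      have h3 : n⁻¹ * u * n = u := (inv_mul_eq_one.mp hw).symm
      have h4 : u * n = n * (n⁻¹ * u * n) := by group
      rw [h3] at h4
      exact h4
    have hnT : n ∈ T' := Subgroup.mem_inf.mpr ⟨hn, hnU⟩
    have hs : n⁻¹ * a ∈ S := by
      refine Subgroup.mem_inf.mpr ⟨?_, Subgroup.mul_mem _ (Subgroup.inv_mem _ (Subgroup.mem_sup_left hnT))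
        (Subgroup.mem_sup_right ha)⟩
      rw [← conj_map_eq_iff_mem_normalizer, ← conj_map_conj_map, hBn, conj_map_conj_map,
        inv_mul_cancel, conj_map_one]
    have e : a = n * (n⁻¹ * a) := by group
    rw [e]
    exact Subgroup.mul_mem_sup hnT hs
  obtain ⟨g, hgT, hAg⟩ := hact.exists_le_conj (S := S) inf_le_right hGS
  have hgG : g ∈ G := hT'G hgT
  refine ⟨H₁.map (MulAut.conj g).toMonoidHom, ?_, ?_, ?_, ?_⟩
  · rintro _ ⟨y, hy, rfl⟩
    exact G.mul_mem (G.mul_mem hgG (hH₁G hy)) (G.inv_mem hgG)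
  · exact hAg.trans (conj_map_le_normalizer_conj inf_le_left g)
  · intro u hu
    rw [mem_conj_map]
    have hc1 : u * g = g * u := (Subgroup.mem_centralizer_iff.mp (Subgroup.mem_inf.mp hgT).2) u hu
    have : g⁻¹ * u * g = u := by rw [mul_assoc, hc1]; group
    rw [this]
    exact hUH₁ hu
  · rw [card_conj_map, hcH₁]

/-- **Existence of `A`-invariant Hall subgroups containing a given `A`-invariant `π`-subgroup.** -/
theorem exists_invariant_hall (π : Set ℕ) : ∀ (k : ℕ) {X : Type u} [Group X] [Finite X]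
    {A G U : Subgroup X}, CoprimeAction A G → Group.IsSolvable G → Nat.card G = k → U ≤ G →
    A ≤ Subgroup.normalizer (U : Set X) → (∀ p : ℕ, p.Prime → p ∣ Nat.card U → p ∈ π) →
    ∃ H : Subgroup X, IsPiHallOf π H G ∧ A ≤ Subgroup.normalizer (H : Set X) ∧ U ≤ H := by
  intro k
  induction k using Nat.strong_induction_on with
  | _ k ih =>
  intro X _ _ A G U h hs hk hUG hUA hUπ
  by_cases hG1 : G = ⊥
  · subst hG1
    refine ⟨⊥, ⟨le_rfl, ?_, ?_⟩, ?_, hUG⟩
    · intro q hq hd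
      simp at hd
      exact absurd hd hq.one_lt.ne'
    · intro q hq _ hd
      simp at hd
      exact absurd hd hq.one_lt.ne'
    · intro a _
      apply mem_normalizer_of_conj_le
      intro x hx
      rw [Subgroup.mem_bot] at hx ⊢
      simp [hx]
  haveI hnt : Nontrivial G := (Subgroup.nontrivial_iff_ne_bot G).mpr hG1
  haveI := hs
  obtain ⟨p, N, hp, hNn, hN1, -, hNp⟩ := Cfsg.Agent.Lib.Basic.exists_normal_abelian_pSubgroup (G := G)
  haveI hfp : Fact p.Prime := ⟨hp⟩
  let M' : Subgroup G := Cfsg.pCore p G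
  have hNM' : N ≤ M' := Cfsg.Agent.Lib.Basic.le_pCore hNn hNp
  have hM'1 : M' ≠ ⊥ := fun e => hN1 (le_bot_iff.mp (e ▸ hNM'))
  haveI : M'.Characteristic := Cfsg.Agent.Lib.Basic.pCore_characteristic p
  let M : Subgroup X := M'.map G.subtype
  have hMG : M ≤ G := Subgroup.map_subtype_le _
  have hMp : IsPGroup p M := (Cfsg.Agent.Lib.Basic.pCore_isPGroup p).map _
  have hM1 : M ≠ ⊥ := fun e => hM'1 ((Subgroup.map_eq_bot_iff_of_injective _ G.subtype_injective).mp e)
  have hMn : G ≤ Subgroup.normalizer (M : Set X) := fun g hg =>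
    mem_normalizer_map_of_characteristic G M' (Subgroup.le_normalizer hg)
  have hMA : A ≤ Subgroup.normalizer (M : Set X) := fun a ha =>
    mem_normalizer_map_of_characteristic G M' (h.normalizes ha)
  let Y : Subgroup X := G ⊔ A
  have hGY : G ≤ Y := le_sup_left
  have hAY : A ≤ Y := le_sup_right
  have hMY : M ≤ Y := hMG.trans hGY
  have hYn : Y ≤ Subgroup.normalizer (M : Set X) := sup_le hMn hMA
  haveI hnor : (M.subgroupOf Y).Normal := Subgroup.normal_subgroupOf_of_le_normalizer hYn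
  let f : Y →* Y ⧸ M.subgroupOf Y := QuotientGroup.mk' _
  have hker : f.ker = M.subgroupOf Y := QuotientGroup.ker_mk' _
  let Gb : Subgroup (Y ⧸ M.subgroupOf Y) := (G.subgroupOf Y).map f
  let Ab : Subgroup (Y ⧸ M.subgroupOf Y) := (A.subgroupOf Y).map f
  let Ub : Subgroup (Y ⧸ M.subgroupOf Y) := (U.subgroupOf Y).map f
  have hactb : CoprimeAction Ab Gb := (h.subgroupOf hAY hGY).map f
  have hcGY : Nat.card (G.subgroupOf Y) = Nat.card G :=
    Nat.card_congr (Subgroup.subgroupOfEquivOfLe hGY).toEquiv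
  have hcUY : Nat.card (U.subgroupOf Y) = Nat.card U :=
    Nat.card_congr (Subgroup.subgroupOfEquivOfLe (hUG.trans hGY)).toEquiv
  have hcMY : Nat.card (M.subgroupOf Y) = Nat.card M :=
    Nat.card_congr (Subgroup.subgroupOfEquivOfLe hMY).toEquiv
  have hsb : Group.IsSolvable Gb := by
    haveI : Group.IsSolvable (G.subgroupOf Y) := Group.isSolvable_of_isSolvable_injective
      (f := (Subgroup.subgroupOfEquivOfLe hGY).toMonoidHom)
      (Subgroup.subgroupOfEquivOfLe hGY).injective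
    exact Group.isSolvable_of_surjective (f := f.subgroupMap (G.subgroupOf Y))
      (f.subgroupMap_surjective _)
  have hkerle : f.ker ≤ G.subgroupOf Y := by
    rw [hker]
    intro x hx
    exact hMG hx
  have hkerne : f.ker ≠ ⊥ := by
    rw [hker]
    intro e
    apply hM1
    apply Subgroup.eq_bot_of_card_eq
    rw [← hcMY, e]
    simp
  have hlt : Nat.card Gb < k := by
    rw [← hk, ← hcGY]
    exact card_map_lt_of_ker_le f _ hkerle hkerne
  have hUbG : Ub ≤ Gb := Subgroup.map_mono fun x hx => hUG hx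
  have hUbA : Ab ≤ Subgroup.normalizer (Ub : Set _) := by
    rintro _ ⟨a, ha, rfl⟩
    apply mem_normalizer_of_conj_le
    rintro _ ⟨u, hu, rfl⟩
    refine ⟨a * u * a⁻¹, ?_, by simp⟩
    have ha' : (a : X) ∈ A := ha
    have hu' : (u : X) ∈ U := hu
    exact (Subgroup.mem_normalizer_iff.mp (hUA ha') u).mp hu'
  have hUbπ : ∀ q : ℕ, q.Prime → q ∣ Nat.card Ub → q ∈ π := fun q hq hd =>
    hUπ q hq (hd.trans (by rw [← hcUY]; exact Subgroup.card_map_dvd _ _))
  obtain ⟨Hb, hHb, hAHb, hUHb⟩ := ih _ hlt hactb hsb rfl hUbG hUbA hUbπ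
  let T : Subgroup X := (Hb.comap f).map Y.subtype
  have memT : ∀ y : Y, (y : X) ∈ T ↔ f y ∈ Hb := by
    intro y
    constructor
    · rintro ⟨z, hz, hzy⟩
      have : z = y := Subtype.ext hzy
      exact this ▸ hz
    · intro hy
      exact ⟨y, hy, rfl⟩
  have hTY : T ≤ Y := Subgroup.map_subtype_le _
  have hMT : M ≤ T := by
    intro x hx
    have h1 : f ⟨x, hMY hx⟩ = 1 := by
      rw [← MonoidHom.mem_ker, hker]
      exact hx
    exact (memT ⟨x, hMY hx⟩).mpr (h1 ▸ Hb.one_mem)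
  have hUT : U ≤ T := by
    intro x hx
    exact (memT ⟨x, hGY (hUG hx)⟩).mpr (hUHb ⟨⟨x, hGY (hUG hx)⟩, hx, rfl⟩)
  have hTG : T ≤ G := by
    intro x hx
    have hxY : x ∈ Y := hTY hx
    have h1 := hHb.1 ((memT ⟨x, hxY⟩).mp hx)
    obtain ⟨g, hg, hgx⟩ := h1
    have h2 : g⁻¹ * ⟨x, hxY⟩ ∈ f.ker := by
      rw [MonoidHom.mem_ker, map_mul, map_inv, hgx, inv_mul_cancel]
    rw [hker] at h2
    have h3 : (g : X)⁻¹ * x ∈ M := h2
    have h4 : x = g * ((g : X)⁻¹ * x) := by group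
    rw [h4]
    exact G.mul_mem hg (hMG h3)
  have hTA : A ≤ Subgroup.normalizer (T : Set X) := by
    intro a ha
    apply mem_normalizer_of_conj_le
    intro x hx
    have hxY : x ∈ Y := hTY hx
    have hyY : a * x * a⁻¹ ∈ Y := Y.mul_mem (Y.mul_mem (hAY ha) hxY) (Y.inv_mem (hAY ha))
    refine (memT ⟨a * x * a⁻¹, hyY⟩).mpr ?_
    have h1 : f ⟨a, hAY ha⟩ ∈ Ab := ⟨⟨a, hAY ha⟩, ha, rfl⟩
    have h2 := (Subgroup.mem_normalizer_iff.mp (hAHb h1) (f ⟨x, hxY⟩)).mp ((memT ⟨x, hxY⟩).mp hx)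
    have e : (⟨a * x * a⁻¹, hyY⟩ : Y) = ⟨a, hAY ha⟩ * ⟨x, hxY⟩ * (⟨a, hAY ha⟩ : Y)⁻¹ := rfl
    rw [e, map_mul, map_mul, map_inv]
    exact h2
  have hTrel : T.relIndex G = Hb.relIndex Gb := by
    have e1 : G = (G.subgroupOf Y).map Y.subtype := (Subgroup.map_subgroupOf_eq_of_le hGY).symm
    calc T.relIndex G = ((Hb.comap f).map Y.subtype).relIndex ((G.subgroupOf Y).map Y.subtype) := by
          rw [← e1]
      _ = (Hb.comap f).relIndex (G.subgroupOf Y) :=
          Subgroup.relIndex_map_map_of_injective _ _ Y.subtype_injective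
      _ = Hb.relIndex Gb := Subgroup.relIndex_comap _ _ _
  have hcardT : Nat.card T = Nat.card M * Nat.card Hb := by
    have e1 : Nat.card T = Nat.card (Hb.comap f) :=
      (Nat.card_congr ((Hb.comap f).equivMapOfInjective Y.subtype Y.subtype_injective).toEquiv).symm
    rw [e1, ← hcMY]
    exact Cfsg.Agent.Lib.Basic.card_comap_mk Hb
  obtain ⟨a, ha⟩ := IsPGroup.iff_card.mp hMp
  have hprimeM : ∀ q : ℕ, q.Prime → q ∣ Nat.card M → q = p := by
    intro q hq hd
    rw [ha] at hd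
    exact (Nat.prime_dvd_prime_iff_eq hq hp).mp (hq.dvd_of_dvd_pow hd)
  by_cases hpπ : p ∈ π
  · refine ⟨T, ⟨hTG, ?_, ?_⟩, hTA, hUT⟩
    · intro q hq hd
      rw [hcardT] at hd
      rcases (Nat.Prime.dvd_mul hq).mp hd with h1 | h1
      · rw [hprimeM q hq h1]; exact hpπ
      · exact hHb.2.1 q hq h1
    · intro q hq hqπ
      rw [hTrel]
      exact hHb.2.2 q hq hqπ
  · have hpHb : ¬ p ∣ Nat.card Hb := fun hd => hpπ (hHb.2.1 p hp hd)
    by_cases hTtop : T = G
    · have hcG : Nat.card G = Nat.card M * Nat.card Hb := by rw [← hTtop, hcardT]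
      have hrel : M.relIndex G = Nat.card Hb := by
        have h1 := card_mul_relIndex hMG
        rw [hcG] at h1
        exact Nat.eq_of_mul_eq_mul_left Nat.card_pos h1
      have hc : (Nat.card M).Coprime (M.relIndex G) := by
        rw [hrel, ha]
        exact Nat.Coprime.pow_left a ((Nat.Prime.coprime_iff_not_dvd hp).mpr hpHb)
      have hUM : (Nat.card U).Coprime (Nat.card M) := by
        rw [ha]
        apply Nat.Coprime.pow_right
        apply Nat.Coprime.symm
        rw [Nat.Prime.coprime_iff_not_dvd hp]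
        exact fun hd => hpπ (hUπ p hp hd)
      obtain ⟨H, hHG, hAH, hUH, hcH⟩ := exists_invariant_complement h hs hMG hMn hMA hc hUG hUA hUM
      refine ⟨H, ⟨hHG, ?_, ?_⟩, hAH, hUH⟩
      · intro q hq hd
        rw [hcH, hrel] at hd
        exact hHb.2.1 q hq hd
      · intro q hq hqπ hd
        have h1 := card_mul_relIndex hHG
        rw [hcH, hrel, hcG, mul_comm] at h1
        have h2 : H.relIndex G = Nat.card M := Nat.eq_of_mul_eq_mul_right Nat.card_pos h1
        rw [h2] at hd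
        exact hpπ (hprimeM q hq hd ▸ hqπ)
    · have hltT : Nat.card T < k := by
        rw [← hk]
        refine lt_of_le_of_ne (Nat.le_of_dvd Nat.card_pos (Subgroup.card_dvd_of_le hTG)) ?_
        intro e
        exact hTtop (Subgroup.eq_of_le_of_card_ge hTG e.ge)
      obtain ⟨H, hH, hAH, hUH⟩ := ih _ hltT (h.mono hTG hTA)
        (Cfsg.Agent.Lib.Basic.isSolvable_of_le hTG hs) rfl hUT hUA hUπ
      refine ⟨H, ⟨hH.1.trans hTG, hH.2.1, ?_⟩, hAH, hUH⟩
      intro q hq hqπ hd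
      rw [← Subgroup.relIndex_mul_relIndex H T G hH.1 hTG] at hd
      rcases (Nat.Prime.dvd_mul hq).mp hd with h1 | h1
      · exact hH.2.2 q hq hqπ h1
      · rw [hTrel] at h1
        exact hHb.2.2 q hq hqπ h1

/-- Two `A`-invariant Hall `π`-subgroups are conjugate by an element of `C_G(A)`. -/
theorem invariant_hall_conj [Finite X] {π : Set ℕ} {A G H₁ H₂ : Subgroup X} (h : CoprimeAction A G)
    (hs : Group.IsSolvable G) (h1 : IsPiHallOf π H₁ G) (hA1 : A ≤ Subgroup.normalizer (H₁ : Set X))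
    (h2 : IsPiHallOf π H₂ G) (hA2 : A ≤ Subgroup.normalizer (H₂ : Set X)) :
    ∃ c ∈ G ⊓ Subgroup.centralizer (A : Set X), H₂ = H₁.map (MulAut.conj c).toMonoidHom := by
  obtain ⟨g, hg, hgH⟩ := IsPiHallOf_exists_conj hs h1 h2
  let S : Subgroup X := Subgroup.normalizer (H₁ : Set X) ⊓ (G ⊔ A)
  have hAS : A ≤ S := le_inf hA1 le_sup_right
  have hAg : A ≤ S.map (MulAut.conj g).toMonoidHom := by
    intro a ha
    rw [mem_conj_map]
    refine Subgroup.mem_inf.mpr ⟨?_, ?_⟩
    · rw [← conj_map_eq_iff_mem_normalizer, ← conj_map_conj_map, ← conj_map_conj_map, ← hgH,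
        (conj_map_eq_iff_mem_normalizer H₂ a).mpr (hA2 ha), hgH, conj_map_conj_map,
        inv_mul_cancel, conj_map_one]
    · exact Subgroup.mul_mem _ (Subgroup.mul_mem _ (Subgroup.inv_mem _ (Subgroup.mem_sup_left hg))
        (Subgroup.mem_sup_right ha)) (Subgroup.mem_sup_left hg)
  obtain ⟨s, hs1, hs2⟩ := h.exists_mul_mem_centralizer (S := S) inf_le_right hAS hg hAg
  refine ⟨g * s, hs2, ?_⟩
  have hsN : s ∈ Subgroup.normalizer (H₁ : Set X) := (Subgroup.mem_inf.mp (Subgroup.mem_inf.mp hs1).1).1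
  rw [← conj_map_conj_map, (conj_map_eq_iff_mem_normalizer H₁ s).mpr hsN, hgH]

end Cfsg.Agent.Lib.Coprime
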