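import Mathlib

/-!
An irreducible nontrivial module for a cyclic group of prime order `p` over `𝔽_q` has order
`q ^ e`, where `e` is the multiplicative order of `q` modulo `p`.
-/

set_option autoImplicit false

namespace Cfsg.Agent.Lib.Coprime.Irred

open Polynomial

variable {q p : ℕ} [Fact q.Prime] [Fact p.Prime]

/-- `f ^ (q ^ n) = expand (q ^ n) f` over `ZMod q`. -/
theorem pow_pow_eq_expand (f : (ZMod q)[X]) (n : ℕ) : f ^ q ^ n = expand (ZMod q) (q ^ n) f := by
  induction n with
  | zero => simp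
  | succ n ih =>
    rw [pow_succ, pow_mul, ih, ← ZMod.expand_card, ← expand_mul, mul_comm]

variable {V : Type*} [AddCommGroup V] [Module (ZMod q) V] [Finite V]

/-- Core counting lemma. -/
theorem card_eq_of_irred (hqp : q ≠ p) (T : V →ₗ[ZMod q] V) (hTp : T ^ p = 1) (hT1 : T ≠ 1)
    (hirr : ∀ W : Submodule (ZMod q) V, (∀ v ∈ W, T v ∈ W) → W = ⊥ ∨ W = ⊤) :
    Nat.card V = q ^ orderOf (q : ZMod p) := by
  classical
  have hq : q.Prime := Fact.out
  have hp : p.Prime := Fact.out
  -- the multiplicative order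
  have hq0 : (q : ZMod p) ≠ 0 := by
    intro h
    rw [ZMod.natCast_eq_zero_iff] at h
    exact hqp ((Nat.prime_dvd_prime_iff_eq hp hq).mp h).symm
  obtain ⟨e, he⟩ : ∃ e, e = orderOf (q : ZMod p) := ⟨_, rfl⟩
  rw [← he]
  have hepos : 0 < e := by
    rw [he]
    exact orderOf_pos_iff.mpr (isOfFinOrder_iff_pow_eq_one.mpr
      ⟨p - 1, Nat.sub_pos_of_lt hp.one_lt, ZMod.pow_card_sub_one_eq_one hq0⟩)
  obtain ⟨Q, hQ⟩ : ∃ Q, Q = q ^ e := ⟨_, rfl⟩
  have hQ1 : (Q : ZMod p) = 1 := by
    rw [hQ, Nat.cast_pow, he]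
    exact pow_orderOf_eq_one _
  have hQgt : 1 < Q := by
    rw [hQ]
    exact Nat.one_lt_pow hepos.ne' hq.one_lt
  have hTQ : T ^ Q = T := by
    have h1 : (Q : ZMod p) = (1 : ℕ) := by rw [hQ1, Nat.cast_one]
    rw [ZMod.natCast_eq_natCast_iff] at h1
    have h2 : p ∣ Q - 1 := (Nat.modEq_iff_dvd' hQgt.le).mp h1.symm
    obtain ⟨m, hm⟩ := h2
    have h3 : Q = 1 + p * m := by omega
    rw [h3, pow_add, pow_one, pow_mul, hTp, one_pow, mul_one]
  -- nontriviality
  have hV : Nontrivial V := by
    by_contra h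
    rw [not_nontrivial_iff_subsingleton] at h
    apply hT1
    ext v
    exact Subsingleton.elim _ _
  -- operators
  let φ := aeval (R := ZMod q) T
  have hφX : φ X = T := aeval_X T
  have hcomm : ∀ (f : (ZMod q)[X]) (v : V), T (φ f v) = φ f (T v) := by
    intro f v
    have h1 : T * φ f = φ f * T := by
      have : Commute (φ X) (φ f) := by
        show φ X * φ f = φ f * φ X
        rw [← map_mul, ← map_mul, mul_comm]
      rw [hφX] at this
      exact this
    have h2 := LinearMap.congr_fun h1 v
    exact h2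
  -- nonzero operators are injective
  have hinj : ∀ f : (ZMod q)[X], φ f ≠ 0 → Function.Injective (φ f) := by
    intro f hf
    have h1 := hirr (LinearMap.ker (φ f)) (by
      intro v hv
      rw [LinearMap.mem_ker] at hv ⊢
      rw [← hcomm, hv, map_zero])
    rcases h1 with h1 | h1
    · exact LinearMap.ker_eq_bot.mp h1
    · exfalso
      apply hf
      rw [LinearMap.ker_eq_top.symm]
      exact h1
  -- the ring
  let I : Ideal (ZMod q)[X] := RingHom.ker φ.toRingHom
  have hI : ∀ f, f ∈ I ↔ φ f = 0 := fun f => RingHom.mem_ker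
  haveI hIp : I.IsPrime := by
    constructor
    · intro htop
      have h1 : (1 : (ZMod q)[X]) ∈ I := htop ▸ Submodule.mem_top
      rw [hI, map_one] at h1
      obtain ⟨v, hv⟩ := exists_ne (0 : V)
      apply hv
      have := LinearMap.congr_fun h1 v
      exact this
    · intro f g hfg
      rw [hI, map_mul] at hfg
      rw [hI, hI]
      by_cases hf : φ f = 0
      · exact Or.inl hf
      · right
        ext v
        apply hinj f hf
        simp only [LinearMap.zero_apply, map_zero]
        exact LinearMap.congr_fun hfg v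
  let R := (ZMod q)[X] ⧸ I
  haveI : IsDomain R := Ideal.Quotient.isDomain I
  haveI hRfin : Finite R := by
    have h1 : Function.Injective (fun y : R => (RingHom.kerLift φ.toRingHom y : V →ₗ[ZMod q] V)) :=
      RingHom.kerLift_injective _
    have h2 : Function.Injective (fun (A : V →ₗ[ZMod q] V) => (A : V → V)) := DFunLike.coe_injective
    exact Finite.of_injective _ (h2.comp h1)
  haveI := Fintype.ofFinite R
  -- all elements satisfy `y ^ Q = y`
  have hfrob : ∀ y : R, y ^ Q = y := by
    intro y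
    obtain ⟨f, rfl⟩ := Ideal.Quotient.mk_surjective y
    rw [← map_pow, Ideal.Quotient.eq, hI, map_sub, sub_eq_zero, hQ, pow_pow_eq_expand]
    have h1 : φ (expand (ZMod q) (q ^ e) f) = aeval (T ^ (q ^ e)) f := expand_aeval _ _ _
    rw [h1, ← hQ, hTQ]
  have hcardR : Nat.card R ≤ Q := by
    have hne : (X ^ Q - X : R[X]) ≠ 0 := by
      intro h
      have h1 : (X : R[X]).natDegree < (X ^ Q : R[X]).natDegree := by
        rw [natDegree_X, natDegree_X_pow]
        exact hQgt
      have h2 := natDegree_sub_eq_left_of_natDegree_lt h1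
      rw [h, natDegree_zero, natDegree_X_pow] at h2
      omega
    have hdeg : (X ^ Q - X : R[X]).natDegree = Q := by
      have h1 : (X : R[X]).natDegree < (X ^ Q : R[X]).natDegree := by
        rw [natDegree_X, natDegree_X_pow]
        exact hQgt
      rw [natDegree_sub_eq_left_of_natDegree_lt h1, natDegree_X_pow]
    have hsub : (Finset.univ : Finset R).val ⊆ (X ^ Q - X : R[X]).roots := by
      intro y _
      rw [mem_roots hne]
      simp [IsRoot, hfrob y]
    have h := card_le_degree_of_subset_roots hsub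
    rw [hdeg, Finset.card_univ, ← Nat.card_eq_fintype_card] at h
    exact h
  -- cyclic vector
  obtain ⟨v, hv⟩ := exists_ne (0 : V)
  let W : Submodule (ZMod q) V := LinearMap.range ((LinearMap.applyₗ v).comp φ.toLinearMap)
  have hWmem : ∀ w, w ∈ W ↔ ∃ f, φ f v = w := fun w => by
    simp only [W, LinearMap.mem_range]
    rfl
  have hWtop : W = ⊤ := by
    have h1 := hirr W (by
      intro w hw
      obtain ⟨f, rfl⟩ := (hWmem w).mp hw
      rw [hWmem]
      refine ⟨X * f, ?_⟩
      rw [map_mul, hφX]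
      rfl)
    rcases h1 with h1 | h1
    · exfalso
      have h2 : v ∈ W := (hWmem v).mpr ⟨1, by rw [map_one]; rfl⟩
      rw [h1] at h2
      exact hv ((Submodule.mem_bot _).mp h2)
    · exact h1
  have hsurj : ∀ w : V, ∃ f, φ f v = w := fun w => (hWmem w).mp (hWtop ▸ Submodule.mem_top)
  choose s hs using hsurj
  have hcardV : Nat.card V ≤ Nat.card R := by
    apply Nat.card_le_card_of_injective (fun w => (Ideal.Quotient.mk I (s w) : R))
    intro a b hab
    have h1 := Ideal.Quotient.eq.mp hab
    rw [hI, map_sub, sub_eq_zero] at h1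
    rw [← hs a, ← hs b, h1]
  -- the order of `V`
  haveI := Fintype.ofFinite V
  haveI : Module.Finite (ZMod q) V := Module.Finite.of_finite
  obtain ⟨d, hd⟩ : ∃ d, Nat.card V = q ^ d := by
    refine ⟨Module.finrank (ZMod q) V, ?_⟩
    rw [Nat.card_eq_fintype_card, Module.card_eq_pow_finrank (K := ZMod q), ZMod.card]
  have hdle : d ≤ e := by
    have h1 : q ^ d ≤ q ^ e := by
      rw [← hd, ← hQ]
      exact hcardV.trans hcardR
    exact (Nat.pow_le_pow_iff_right hq.one_lt).mp h1
  -- fixed points
  have hfix0 : ∀ w : V, T w = w → w = 0 := by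
    have h1 := hirr (LinearMap.ker (T - 1)) (by
      intro w hw
      rw [LinearMap.mem_ker] at hw ⊢
      simp only [LinearMap.sub_apply, Module.End.one_apply, sub_eq_zero] at hw ⊢
      rw [hw, hw])
    rcases h1 with h1 | h1
    · intro w hw
      have h2 : w ∈ LinearMap.ker (T - 1) := by
        rw [LinearMap.mem_ker]
        simp [hw]
      rw [h1] at h2
      exact (Submodule.mem_bot _).mp h2
    · exfalso
      apply hT1
      ext w
      have h2 : w ∈ LinearMap.ker (T - 1) := h1 ▸ Submodule.mem_top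
      rw [LinearMap.mem_ker] at h2
      simpa [sub_eq_zero] using h2
  -- counting modulo `p`
  have hTinv : T ^ (p - 1) * T = 1 := by
    rw [← pow_succ, Nat.sub_add_cancel hp.one_lt.le, hTp]
  have hTinv' : T * T ^ (p - 1) = 1 := by
    rw [← pow_succ', Nat.sub_add_cancel hp.one_lt.le, hTp]
  let τ : Equiv.Perm V :=
    { toFun := T
      invFun := (T ^ (p - 1) : V →ₗ[ZMod q] V)
      left_inv := fun w => LinearMap.congr_fun hTinv w
      right_inv := fun w => LinearMap.congr_fun hTinv' w }
  have hτpow : ∀ n : ℕ, ∀ w, (τ ^ n) w = (T ^ n) w := by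
    intro n
    induction n with
    | zero => intro w; rfl
    | succ n ih =>
      intro w
      rw [pow_succ, pow_succ]
      show (τ ^ n) (T w) = (T ^ n) (T w)
      exact ih _
  have hτp : τ ^ p = 1 := by
    ext w
    rw [hτpow, hTp]
    rfl
  have hHp : IsPGroup p (Subgroup.zpowers τ) := by
    apply IsPGroup.of_card (n := 1)
    rw [Nat.card_zpowers, pow_one]
    apply orderOf_eq_prime hτp
    intro h
    apply hT1
    ext w
    have := Equiv.congr_fun h w
    exact this
  have hmod := hHp.card_modEq_card_fixedPoints V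
  have hfixcard : Nat.card (MulAction.fixedPoints (Subgroup.zpowers τ) V) = 1 := by
    rw [Nat.card_eq_one_iff_unique]
    refine ⟨⟨?_⟩, ⟨⟨0, ?_⟩⟩⟩
    · rintro ⟨a, ha⟩ ⟨b, hb⟩
      apply Subtype.ext
      have ha' : a = 0 := hfix0 a (ha ⟨τ, Subgroup.mem_zpowers τ⟩)
      have hb' : b = 0 := hfix0 b (hb ⟨τ, Subgroup.mem_zpowers τ⟩)
      exact ha'.trans hb'.symm
    · rintro ⟨g, i, rfl⟩
      show ((τ ^ i : Equiv.Perm V)) 0 = 0
      have h0 : τ 0 = 0 := map_zero T
      have h0' : τ⁻¹ 0 = 0 := by
        rw [Equiv.Perm.inv_eq_iff_eq, h0]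
      induction i using Int.induction_on with
      | zero => rfl
      | succ n ih =>
        rw [zpow_add, zpow_one]
        show (τ ^ (n : ℤ)) (τ 0) = 0
        rw [h0]
        exact ih
      | pred n ih =>
        rw [zpow_sub, zpow_one]
        show (τ ^ (-(n : ℤ))) (τ⁻¹ 0) = 0
        rw [h0']
        exact ih
  rw [hfixcard, hd] at hmod
  have hqd : (q : ZMod p) ^ d = 1 := by
    have h1 : ((q ^ d : ℕ) : ZMod p) = ((1 : ℕ) : ZMod p) := (ZMod.natCast_eq_natCast_iff _ _ _).mpr hmod
    simpa using h1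
  have hdvd : e ∣ d := by
    rw [he]
    exact orderOf_dvd_of_pow_eq_one hqd
  have hd0 : d ≠ 0 := by
    intro h0
    rw [h0, pow_zero] at hd
    have h1 : 1 < Nat.card V := Finite.one_lt_card
    omega
  have hed : e ≤ d := Nat.le_of_dvd (Nat.pos_of_ne_zero hd0) hdvd
  rw [hd, le_antisymm hdle hed]

end Cfsg.Agent.Lib.Coprime.Irred
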