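import Mathlib
import Cfsg.Prelude.Def_Transfer
import Cfsg.Agent.Lib.Transfer.Frobenius
import Cfsg.Agent.Lib.PGroups.Parts

/-!
# Counting conjugacy classes of `p`-elements and `π`-elements

`k_p(G) ≤ (p + 1) |P| / (2 p)` unless `G` is `p`-nilpotent with abelian Sylow `p`-subgroups.
-/

set_option autoImplicit false

namespace Cfsg.Agent.Lib.Coprime.KP

open Subgroup

/-- **Burnside's lemma**, turned into an upper bound for the number of orbits. -/
theorem burnside_bound {L X : Type*} [Group L] [Finite L] [Finite X] [MulAction L X]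
    (C : Subgroup L) (p : ℕ) (hp : 1 ≤ p)
    (h : ∀ g : L, g ∉ C → p * Nat.card (MulAction.fixedBy X g) ≤ Nat.card X) :
    p * Nat.card (MulAction.orbitRel.Quotient L X) * Nat.card L ≤
      Nat.card L * Nat.card X + (p - 1) * Nat.card X * Nat.card C := by
  classical
  haveI := Fintype.ofFinite L
  haveI := Fintype.ofFinite X
  haveI := Fintype.ofFinite (MulAction.orbitRel.Quotient L X)
  haveI : ∀ g : L, Fintype (MulAction.fixedBy X g) := fun g => Fintype.ofFinite _
  have hb := MulAction.sum_card_fixedBy_eq_card_orbits_mul_card_group L X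
  obtain ⟨q, rfl⟩ : ∃ q, p = q + 1 := ⟨p - 1, by omega⟩
  have hsum : (q + 1) * ∑ g : L, Fintype.card (MulAction.fixedBy X g) ≤
      ∑ g : L, (Fintype.card X + (if g ∈ C then q * Fintype.card X else 0)) := by
    rw [Finset.mul_sum]
    refine Finset.sum_le_sum fun g _ => ?_
    have hfx : Fintype.card (MulAction.fixedBy X g) ≤ Fintype.card X := by
      exact set_fintype_card_le_univ _
    by_cases hg : g ∈ C
    · simp only [hg, if_true]
      nlinarith
    · simp only [hg, if_false, add_zero]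
      have := h g hg
      simpa [Nat.card_eq_fintype_card] using this
  rw [hb] at hsum
  have hC : ∑ g : L, (if g ∈ C then q * Fintype.card X else 0) =
      Nat.card C * (q * Fintype.card X) := by
    rw [Finset.sum_ite, Finset.sum_const_zero, add_zero, Finset.sum_const, smul_eq_mul,
      Nat.card_eq_fintype_card, Fintype.card_subtype]
  rw [Finset.sum_add_distrib, Finset.sum_const, hC, smul_eq_mul, Finset.card_univ] at hsum
  simp only [Nat.card_eq_fintype_card] at *
  simp only [Nat.add_sub_cancel]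
  nlinarith

variable {G : Type*} [Group G] [Finite G]

/-- Conjugation action of a subgroup of the normalizer. -/
@[reducible] def conjActionOf (P L : Subgroup G) (hL : L ≤ normalizer (P : Set G)) :
    MulAction L P where
  smul g x := ⟨(g : G) * x * (g : G)⁻¹, (mem_normalizer_iff.mp (hL g.2) x).1 x.2⟩
  one_smul x := Subtype.ext (by
    show ((1 : L) : G) * (x : G) * ((1 : L) : G)⁻¹ = x
    simp)
  mul_smul a b x := Subtype.ext (by
    show ((a * b : L) : G) * (x : G) * ((a * b : L) : G)⁻¹ =
      (a : G) * ((b : G) * (x : G) * (b : G)⁻¹) * (a : G)⁻¹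
    simp only [Subgroup.coe_mul]
    group)

/-- The number of elements of a set of conjugacy classes is bounded through any map hitting it. -/
theorem card_le_of_forall_exists_map {α β γ : Type*} [Finite β] (f : β → γ) (s : α → γ)
    (hs : Function.Injective s) (h : ∀ a, ∃ b, f b = s a) : Nat.card α ≤ Nat.card β := by
  choose t ht using h
  refine Nat.card_le_card_of_injective t fun a b hab => hs ?_
  rw [← ht a, ← ht b, hab]

/-- Every `p`-element is conjugate to an element of a given Sylow `p`-subgroup. -/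
theorem exists_conj_mem_sylow {p : ℕ} [Fact p.Prime] (P : Sylow p G) (x : G) (k : ℕ)
    (hx : orderOf x = p ^ k) : ∃ y ∈ (P : Subgroup G), IsConj x y := by
  have hzp : IsPGroup p (zpowers x) := by
    rw [Cfsg.Agent.Lib.PGroups.isPGroup_zpowers_iff]
    exact ⟨k, hx⟩
  obtain ⟨Q, hQ⟩ := hzp.exists_le_sylow
  obtain ⟨g, hg⟩ := MulAction.exists_smul_eq G Q P
  refine ⟨g * x * g⁻¹, ?_, isConj_iff.mpr ⟨g, rfl⟩⟩
  have h1 := Cfsg.Agent.Lib.Transfer.conj_mem_smul_sylow (g := g) (hQ (mem_zpowers x))
  rw [hg] at h1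
  exact h1

/-- The type of conjugacy classes of `p`-elements. -/
abbrev KpT (p : ℕ) (G : Type*) [Group G] : Type _ :=
  {c : ConjClasses G // ∀ x ∈ c.carrier, ∃ k : ℕ, orderOf x = p ^ k}

/-- The main counting inequality. -/
theorem kp_mul_le {p : ℕ} [Fact p.Prime] (P : Sylow p G) (L : Subgroup G)
    (hL : L ≤ normalizer ((P : Subgroup G) : Set G)) :
    p * Nat.card (KpT p G) * Nat.card L ≤ Nat.card L * Nat.card (P : Subgroup G) +
      (p - 1) * Nat.card (P : Subgroup G) *
        Nat.card ((centralizer ((P : Subgroup G) : Set G)).subgroupOf L) := by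
  classical
  letI := conjActionOf (P : Subgroup G) L hL
  have hp : p.Prime := Fact.out
  have h1 := burnside_bound (L := L) (X := (P : Subgroup G))
    ((centralizer ((P : Subgroup G) : Set G)).subgroupOf L) p hp.one_lt.le ?_
  · have h2 : Nat.card (KpT p G) ≤ Nat.card (MulAction.orbitRel.Quotient L (P : Subgroup G)) := by
      let f : MulAction.orbitRel.Quotient L (P : Subgroup G) → ConjClasses G :=
        Quotient.lift (fun y : (P : Subgroup G) => ConjClasses.mk (y : G)) (by
          rintro a b ⟨g, hg⟩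
          apply ConjClasses.mk_eq_mk_iff_isConj.mpr
          rw [← hg]
          exact (isConj_iff.mpr ⟨(g : G), rfl⟩).symm)
      refine card_le_of_forall_exists_map f Subtype.val Subtype.val_injective ?_
      rintro ⟨c, hc⟩
      obtain ⟨x, rfl⟩ := ConjClasses.exists_rep c
      obtain ⟨k, hk⟩ := hc x (ConjClasses.mem_carrier_mk)
      obtain ⟨y, hy, hxy⟩ := exists_conj_mem_sylow P x k hk
      refine ⟨Quotient.mk _ (⟨y, hy⟩ : (P : Subgroup G)), ?_⟩
      exact (ConjClasses.mk_eq_mk_iff_isConj.mpr hxy).symm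
    calc p * Nat.card (KpT p G) * Nat.card L
        ≤ p * Nat.card (MulAction.orbitRel.Quotient L (P : Subgroup G)) * Nat.card L := by gcongr
      _ ≤ _ := h1
  · intro g hg
    rw [Subgroup.mem_subgroupOf] at hg
    obtain ⟨F, hF⟩ : ∃ F : Subgroup G, F = (P : Subgroup G) ⊓ centralizer ({(g : G)} : Set G) :=
      ⟨_, rfl⟩
    have hFP : F ≤ (P : Subgroup G) := hF ▸ inf_le_left
    have hFne : F ≠ (P : Subgroup G) := by
      intro h2
      apply hg
      rw [mem_centralizer_iff]
      intro y hy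
      have h3 : y ∈ F := h2 ▸ hy
      rw [hF] at h3
      have h4 := (mem_inf.mp h3).2
      rw [mem_centralizer_singleton_iff] at h4
      exact h4
    have hcard : p * Nat.card F ≤ Nat.card (P : Subgroup G) := by
      obtain ⟨n, hn⟩ := IsPGroup.iff_card.mp P.isPGroup'
      have hd := Subgroup.card_dvd_of_le hFP
      rw [hn] at hd
      obtain ⟨m, hm, hm'⟩ := (Nat.dvd_prime_pow hp).1 hd
      have hmn : m ≠ n := by
        rintro rfl
        apply hFne
        apply Subgroup.eq_of_le_of_card_ge hFP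
        rw [hn, hm']
      have hlt : m + 1 ≤ n := by omega
      rw [hm', hn, ← pow_succ']
      exact Nat.pow_le_pow_right hp.pos hlt
    have hinj : Nat.card (MulAction.fixedBy (P : Subgroup G) g) ≤ Nat.card F := by
      refine Nat.card_le_card_of_injective
        (fun x => (⟨((x : (P : Subgroup G)) : G), ?_⟩ : F)) ?_
      · rw [hF]
        refine mem_inf.mpr ⟨(x : (P : Subgroup G)).2, ?_⟩
        rw [mem_centralizer_singleton_iff]
        have hx : g • (x : (P : Subgroup G)) = x := x.2
        have hx' : (g : G) * ((x : (P : Subgroup G)) : G) * (g : G)⁻¹ = ((x : (P : Subgroup G)) : G) :=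
          congrArg Subtype.val hx
        rw [mul_inv_eq_iff_eq_mul] at hx'
        exact hx'.symm
      · intro a b hab
        apply Subtype.ext
        apply Subtype.ext
        have := congrArg (fun z : F => (z : G)) hab
        exact this
    calc p * Nat.card (MulAction.fixedBy (P : Subgroup G) g) ≤ p * Nat.card F := by gcongr
      _ ≤ _ := hcard

/-- If `L ≤ N_G(P)` does not centralize `P` then `2 p k_p(G) ≤ (p + 1) |P|`. -/
theorem two_mul_kp_le {p : ℕ} [Fact p.Prime] (P : Sylow p G) (L : Subgroup G)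
    (hL : L ≤ normalizer ((P : Subgroup G) : Set G))
    (hne : ∃ g ∈ L, g ∉ centralizer ((P : Subgroup G) : Set G)) :
    2 * p * Nat.card (KpT p G) ≤ (p + 1) * Nat.card (P : Subgroup G) := by
  have h1 := kp_mul_le P L hL
  have hp : p.Prime := Fact.out
  obtain ⟨C, hC⟩ : ∃ C : Subgroup L, C = (centralizer ((P : Subgroup G) : Set G)).subgroupOf L :=
    ⟨_, rfl⟩
  rw [← hC] at h1
  have hCne : C ≠ ⊤ := by
    obtain ⟨g, hg, hg'⟩ := hne
    intro h2
    have h3 : (⟨g, hg⟩ : L) ∈ C := h2 ▸ mem_top _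
    rw [hC, Subgroup.mem_subgroupOf] at h3
    exact hg' h3
  have hidx : 2 ≤ C.index := by
    have h2 : C.index ≠ 0 := Subgroup.index_ne_zero_of_finite
    have h3 : C.index ≠ 1 := fun h4 => hCne (Subgroup.index_eq_one.mp h4)
    omega
  have hcard : 2 * Nat.card C ≤ Nat.card L := by
    have h2 := Subgroup.card_mul_index C
    rw [← h2]
    nlinarith
  have hLpos : 0 < Nat.card L := Nat.card_pos
  obtain ⟨q, hq⟩ : ∃ q, p = q + 1 := ⟨p - 1, by have := hp.pos; omega⟩
  have hq1 : p - 1 = q := by omega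
  rw [hq1] at h1
  refine Nat.le_of_mul_le_mul_right ?_ hLpos
  have h3 : q * Nat.card (P : Subgroup G) * (2 * Nat.card C) ≤
      q * Nat.card (P : Subgroup G) * Nat.card L := Nat.mul_le_mul_left _ hcard
  have h4 : (p + 1) * Nat.card (P : Subgroup G) * Nat.card L =
      (q + 2) * Nat.card (P : Subgroup G) * Nat.card L := by
    have h5 : p + 1 = q + 2 := by omega
    rw [h5]
  rw [h4]
  nlinarith

/-- The Burnside transfer theorem in the form we need. -/
theorem hasNormalPComplement_of_normalizer_le {p : ℕ} [Fact p.Prime] (P : Sylow p G)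
    (h : normalizer ((P : Subgroup G) : Set G) ≤ centralizer ((P : Subgroup G) : Set G)) :
    Cfsg.HasNormalPComplement p G :=
  ⟨P, (MonoidHom.transferSylow P h).ker, MonoidHom.normal_ker _,
    MonoidHom.ker_transferSylow_isComplement' P h⟩

/-- The forward direction: too many classes of `p`-elements force `p`-nilpotence and
commutative Sylow subgroups. -/
theorem nilpotent_of_many_classes {p : ℕ} [Fact p.Prime] (P : Sylow p G)
    (h : (p + 1) * Nat.card (P : Subgroup G) < 2 * p * Nat.card (KpT p G)) :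
    Cfsg.HasNormalPComplement p G ∧ IsMulCommutative (P : Subgroup G) := by
  constructor
  · apply hasNormalPComplement_of_normalizer_le P
    by_contra hcon
    obtain ⟨g, hg, hg'⟩ := Set.not_subset.mp hcon
    have := two_mul_kp_le P _ le_rfl ⟨g, hg, hg'⟩
    omega
  · by_contra hcon
    have hne : ∃ g ∈ (P : Subgroup G), g ∉ centralizer ((P : Subgroup G) : Set G) := by
      by_contra hall
      push Not at hall
      apply hcon
      refine ⟨⟨fun a b => Subtype.ext ?_⟩⟩
      have := mem_centralizer_iff.mp (hall a a.2) b b.2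
      exact this.symm
    have := two_mul_kp_le P _ le_normalizer hne
    omega

/-- The number of classes of `p`-elements is at most the order of a Sylow subgroup. -/
theorem card_kp_le {p : ℕ} [Fact p.Prime] (P : Sylow p G) :
    Nat.card (KpT p G) ≤ Nat.card (P : Subgroup G) := by
  let f : ↥(P : Subgroup G) → ConjClasses G := fun y => ConjClasses.mk (y : G)
  refine card_le_of_forall_exists_map f Subtype.val Subtype.val_injective ?_
  rintro ⟨c, hc⟩
  obtain ⟨x, rfl⟩ := ConjClasses.exists_rep c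
  obtain ⟨k, hk⟩ := hc x (ConjClasses.mem_carrier_mk)
  obtain ⟨y, hy, hxy⟩ := exists_conj_mem_sylow P x k hk
  exact ⟨⟨y, hy⟩, (ConjClasses.mk_eq_mk_iff_isConj.mpr hxy).symm⟩

/-- Backward direction. -/
theorem card_sylow_le_kp {p : ℕ} [Fact p.Prime] (P : Sylow p G)
    (hN : Cfsg.HasNormalPComplement p G) (hP : IsMulCommutative (P : Subgroup G)) :
    Nat.card (P : Subgroup G) ≤ Nat.card (KpT p G) := by
  classical
  obtain ⟨P₀, N, hNn, hNc⟩ := hN
  have hp : p.Prime := Fact.out
  have hcardN : (Nat.card N).Coprime p := by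
    have h1 : (P₀ : Subgroup G).index = Nat.card N := hNc.index_eq_card
    have h2 := P₀.not_dvd_index
    rw [h1] at h2
    exact ((Nat.Prime.coprime_iff_not_dvd hp).2 h2).symm
  have hcardP : Nat.card (P : Subgroup G) = Nat.card (P₀ : Subgroup G) := by
    rw [Sylow.card_eq_multiplicity, Sylow.card_eq_multiplicity]
  have hc : N.IsComplement' (P : Subgroup G) := by
    apply Subgroup.isComplement'_of_coprime
    · rw [hcardP]
      exact hNc.card_mul_card
    · obtain ⟨n, hn⟩ := IsPGroup.iff_card.mp P.isPGroup'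
      rw [hn]
      exact Nat.Coprime.pow_right n hcardN
  have hcl : ∀ y : (P : Subgroup G), ∀ x ∈ (ConjClasses.mk (y : G)).carrier,
      ∃ k : ℕ, orderOf x = p ^ k := by
    intro y x hx
    rw [ConjClasses.mem_carrier_iff_mk_eq, ConjClasses.mk_eq_mk_iff_isConj] at hx
    obtain ⟨k, hk⟩ := Cfsg.Agent.Lib.PGroups.exists_orderOf_of_mem_isPGroup P.isPGroup' y.2
    refine ⟨k, ?_⟩
    obtain ⟨g, hg⟩ := isConj_iff.mp hx
    rw [← Cfsg.Agent.Lib.PGroups.orderOf_conj_eq g x, hg]
    exact hk
  refine Nat.card_le_card_of_injective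
    (fun y : (P : Subgroup G) => (⟨ConjClasses.mk (y : G), hcl y⟩ : KpT p G)) ?_
  intro y₁ y₂ h12
  have h3 : ConjClasses.mk (y₁ : G) = ConjClasses.mk (y₂ : G) := congrArg Subtype.val h12
  rw [ConjClasses.mk_eq_mk_iff_isConj] at h3
  obtain ⟨g, hg⟩ := isConj_iff.mp h3
  have hsup : (P : Subgroup G) ⊔ N = ⊤ := by
    rw [sup_comm]
    exact hc.sup_eq_top
  have hg' : g⁻¹ ∈ (P : Subgroup G) ⊔ N := hsup ▸ mem_top _
  obtain ⟨u, hu, n, hn, hun⟩ := (Subgroup.mem_sup_of_normal_right).mp hg'
  have hgeq : g = n⁻¹ * u⁻¹ := by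
    rw [← mul_inv_rev, hun, inv_inv]
  have hcomm : u⁻¹ * (y₁ : G) * u = y₁ := by
    have h5 := hP.is_comm.comm (⟨u⁻¹, inv_mem hu⟩ : (P : Subgroup G)) y₁
    have h6 : u⁻¹ * (y₁ : G) = (y₁ : G) * u⁻¹ := congrArg Subtype.val h5
    rw [h6]
    group
  have h7 : (y₂ : G) = n⁻¹ * (y₁ : G) * n := by
    rw [← hg, hgeq]
    calc n⁻¹ * u⁻¹ * (y₁ : G) * (n⁻¹ * u⁻¹)⁻¹ = n⁻¹ * (u⁻¹ * (y₁ : G) * u) * n := by group
      _ = _ := by rw [hcomm]
  have h8 : (y₂ : G) * (y₁ : G)⁻¹ ∈ N := by
    rw [h7]
    have h9 : n⁻¹ * (y₁ : G) * n * (y₁ : G)⁻¹ = n⁻¹ * ((y₁ : G) * n * (y₁ : G)⁻¹) := by group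
    rw [h9]
    exact mul_mem (inv_mem hn) (hNn.conj_mem _ hn _)
  have h10 : (y₂ : G) * (y₁ : G)⁻¹ ∈ (P : Subgroup G) := mul_mem y₂.2 (inv_mem y₁.2)
  have h11 : (y₂ : G) * (y₁ : G)⁻¹ = 1 := by
    have h12 := hc.disjoint
    exact Subgroup.disjoint_def.mp h12 h8 h10
  apply Subtype.ext
  rw [mul_inv_eq_one] at h11
  exact h11.symm

end Cfsg.Agent.Lib.Coprime.KP
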