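import Mathlib
import Cfsg.Agent.Lib.Basic.Frattini
import Cfsg.Agent.Lib.Coprime.Action

/-!
# Soft subgroups of `p`-groups (Héthelyi)

An abelian self-centralizing subgroup `E` of a `p`-group of index `p` in its normalizer, of index at
least `p²`: the overgroups of `E` form a chain, with all steps of index `p`, and the `i`-th member of the
chain, if proper, has class `i + 1`.
-/

set_option autoImplicit false
set_option linter.unusedSectionVars false
set_option linter.style.haveILetI false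

namespace Cfsg.Agent.Lib.Coprime.Soft

open Subgroup
open scoped commutatorElement Pointwise

universe u

section Basic

variable {G : Type*} [Group G]

/-- Conjugate subgroup. -/
abbrev cj (h : G) (K : Subgroup G) : Subgroup G := K.map (MulAut.conj h).toMonoidHom

theorem mem_cj {h x : G} {K : Subgroup G} : x ∈ cj h K ↔ h⁻¹ * x * h ∈ K := by
  constructor
  · rintro ⟨y, hy, rfl⟩
    have : h⁻¹ * (MulAut.conj h).toMonoidHom y * h = y := by
      show h⁻¹ * (h * y * h⁻¹) * h = y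
      group
    rw [this]
    exact hy
  · intro hx
    refine ⟨_, hx, ?_⟩
    show h * (h⁻¹ * x * h) * h⁻¹ = x
    group

theorem conj_mem_cj {h k : G} {K : Subgroup G} (hk : k ∈ K) : h * k * h⁻¹ ∈ cj h K := ⟨k, hk, rfl⟩

theorem card_cj (h : G) (K : Subgroup G) : Nat.card (cj h K) = Nat.card K :=
  Subgroup.card_map_of_injective (MulAut.conj h).injective

theorem between {p : ℕ} (hp : p.Prime) {H K L : Subgroup G} (hHK : H ≤ K) (hKL : K ≤ L)
    (h : H.relIndex L = p) : K ≤ H ∨ L ≤ K := by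
  have h1 := Subgroup.relIndex_mul_relIndex H K L hHK hKL
  rw [h] at h1
  rcases (Nat.dvd_prime hp).mp ⟨_, h1.symm⟩ with h2 | h2
  · left
    exact Subgroup.relIndex_eq_one.mp h2
  · right
    rw [h2] at h1
    have h3 : K.relIndex L = 1 := by
      have hpos := hp.pos
      nlinarith
    exact Subgroup.relIndex_eq_one.mp h3

theorem le_of_mem_not_mem {p : ℕ} (hp : p.Prime) {H K L : Subgroup G} (hHL : H ≤ L)
    (h : H.relIndex L = p) (hHK : H ≤ K) {u : G} (huL : u ∈ L) (huK : u ∈ K) (huH : u ∉ H) : L ≤ K := by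
  rcases between hp (le_inf hHK hHL : H ≤ K ⊓ L) inf_le_right h with h1 | h1
  · exact absurd (h1 ⟨huK, huL⟩) huH
  · exact h1.trans inf_le_left

theorem mem_normalizer_of_conj_le [Finite G] {E : Subgroup G} {w : G} (h : ∀ b ∈ E, w * b * w⁻¹ ∈ E) :
    w ∈ normalizer (E : Set G) := by
  rw [Subgroup.mem_normalizer_iff_map_conj_eq]
  apply Subgroup.eq_of_le_of_card_ge
  · rintro _ ⟨b, hb, rfl⟩
    exact h b hb
  · exact (card_cj w E).ge

theorem exists_normalizing [Finite G] [Group.IsNilpotent G] {H K : Subgroup G} (hHK : H ≤ K) (hne : H ≠ K) :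
    ∃ x ∈ K, x ∉ H ∧ x ∈ normalizer (H : Set G) := by
  have hlt : H.subgroupOf K < ⊤ := by
    rw [lt_top_iff_ne_top]
    intro h
    apply hne
    apply le_antisymm hHK
    intro k hk
    have : (⟨k, hk⟩ : K) ∈ H.subgroupOf K := by rw [h]; exact Subgroup.mem_top _
    exact this
  have h1 := Group.normalizerCondition_of_isNilpotent (H.subgroupOf K) hlt
  obtain ⟨x, hx, hxH⟩ := SetLike.exists_of_lt h1
  refine ⟨x, x.2, fun h => hxH h, ?_⟩
  apply mem_normalizer_of_conj_le
  intro b hb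
  have h2 := (Subgroup.mem_normalizer_iff.mp hx ⟨b, hHK hb⟩).mp hb
  exact h2

theorem le_normalizer_of_relIndex_eq {p : ℕ} (hp : p.Prime) [Finite G] [Group.IsNilpotent G]
    {H L : Subgroup G} (hHL : H ≤ L) (h : H.relIndex L = p) : L ≤ normalizer (H : Set G) := by
  have hne : H ≠ L := by
    rintro rfl
    rw [Subgroup.relIndex_self] at h
    exact hp.one_lt.ne h
  obtain ⟨x, hxL, hxH, hxN⟩ := exists_normalizing hHL hne
  exact le_of_mem_not_mem hp hHL h Subgroup.le_normalizer hxL hxN hxH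

theorem exists_index_p {p : ℕ} (hp : p.Prime) [Finite G] (hG : IsPGroup p G) {H : Subgroup G} (hne : H ≠ ⊤) :
    ∃ L : Subgroup G, H ≤ L ∧ L.index = p := by
  haveI : Fact p.Prime := ⟨hp⟩
  haveI : Group.IsNilpotent G := hG.isNilpotent
  obtain ⟨M, hM, hHM⟩ := Cfsg.Agent.Lib.Basic.exists_isCoatom_ge hne
  refine ⟨M, hHM, ?_⟩
  have h1 := Cfsg.Agent.Lib.Basic.index_prime_of_isCoatom_of_isNilpotent hM
  obtain ⟨k, hk⟩ := IsPGroup.iff_card.mp hG
  have h2 : M.index ∣ p ^ k := by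
    rw [← hk]
    exact M.index_dvd_card
  exact (Nat.prime_dvd_prime_iff_eq h1 hp).mp (h1.dvd_of_dvd_pow h2)

/-- Surjection with central kernel and the upper central series. -/
theorem upper_of_central_kernel {H : Type*} [Group H] (f : G →* H) (hf : Function.Surjective f)
    (hk : f.ker ≤ center G) {n : ℕ} (hn : Subgroup.upperCentralSeries H n = ⊤) : Subgroup.upperCentralSeries G (n + 1) = ⊤ := by
  have key : ∀ m : ℕ, ∀ x : G, f x ∈ Subgroup.upperCentralSeries H m → x ∈ Subgroup.upperCentralSeries G (m + 1) := by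
    intro m
    induction m with
    | zero =>
      intro x hx
      rw [Subgroup.upperCentralSeries_one]
      apply hk
      exact hx
    | succ m ih =>
      intro x hx
      rw [Subgroup.mem_upperCentralSeries_succ_iff]
      intro y
      apply ih
      have h1 := Subgroup.mem_upperCentralSeries_succ_iff.mp hx (f y)
      simpa using h1
  rw [eq_top_iff]
  intro x _
  apply key
  rw [hn]
  exact Subgroup.mem_top _

section Quot

variable (T : Subgroup G) [hT : T.Normal]

theorem map_comap_mk {K : Subgroup G} (hTK : T ≤ K) : (K.map (QuotientGroup.mk' T)).comap (QuotientGroup.mk' T) = K := by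
  apply Subgroup.comap_map_eq_self
  rwa [QuotientGroup.ker_mk']

theorem mem_map_mk {K : Subgroup G} (hTK : T ≤ K) {x : G} : QuotientGroup.mk' T x ∈ K.map (QuotientGroup.mk' T) ↔ x ∈ K := by
  constructor
  · intro h
    have h1 : x ∈ (K.map (QuotientGroup.mk' T)).comap (QuotientGroup.mk' T) := h
    rwa [map_comap_mk T hTK] at h1
  · intro h
    exact ⟨x, h, rfl⟩

theorem relIndex_map_mk {K L : Subgroup G} (hTK : T ≤ K) :
    (K.map (QuotientGroup.mk' T)).relIndex (L.map (QuotientGroup.mk' T)) = K.relIndex L := by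
  rw [← Subgroup.relIndex_comap, map_comap_mk T hTK]

theorem index_map_mk {K : Subgroup G} (hTK : T ≤ K) : (K.map (QuotientGroup.mk' T)).index = K.index := by
  rw [← Subgroup.index_comap_of_surjective _ (QuotientGroup.mk'_surjective T), map_comap_mk T hTK]

theorem normalizer_map_mk [Finite G] {K : Subgroup G} (hTK : T ≤ K) :
    normalizer ((K.map (QuotientGroup.mk' T) : Subgroup (G ⧸ T)) : Set (G ⧸ T)) = (normalizer (K : Set G)).map (QuotientGroup.mk' T) := by
  apply le_antisymm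
  · intro xb hx
    obtain ⟨x, rfl⟩ := QuotientGroup.mk'_surjective T xb
    refine ⟨x, ?_, rfl⟩
    apply mem_normalizer_of_conj_le
    intro b hb
    have h1 := (Subgroup.mem_normalizer_iff.mp hx (QuotientGroup.mk' T b)).mp ⟨b, hb, rfl⟩
    have h2 : QuotientGroup.mk' T (x * b * x⁻¹) ∈ K.map (QuotientGroup.mk' T) := by
      simpa using h1
    exact (mem_map_mk T hTK).mp h2
  · rintro _ ⟨x, hx, rfl⟩
    apply mem_normalizer_of_conj_le
    rintro _ ⟨b, hb, rfl⟩
    refine ⟨x * b * x⁻¹, (Subgroup.mem_normalizer_iff.mp hx b).mp hb, ?_⟩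
    simp

end Quot

end Basic

section Soft

variable {P : Type u} [Group P] {p : ℕ}

/-- Soft subgroups. -/
structure IsSoft (p : ℕ) (E : Subgroup P) : Prop where
  ab : ∀ a ∈ E, ∀ b ∈ E, a * b = b * a
  cent : centralizer (E : Set P) ≤ E
  idx : E.relIndex (normalizer (E : Set P)) = p

/-- The conclusion of the main theorem. -/
structure Concl (p : ℕ) (E : Subgroup P) : Prop where
  chain : ∀ K L : Subgroup P, E ≤ K → E ≤ L → K ≤ L ∨ L ≤ K
  nidx : ∀ K : Subgroup P, E ≤ K → K ≠ ⊤ → K.relIndex (normalizer (K : Set P)) = p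
  comm : ∀ K : Subgroup P, E ≤ K → K ≠ ⊤ → ∀ a ∈ E, ∀ g ∈ normalizer (E : Set P), ∀ k ∈ K,
    ⁅a, g⁆ * k = k * ⁅a, g⁆
  upper : ∀ (i : ℕ) (K : Subgroup P), E ≤ K → K ≠ ⊤ → K.index * p ^ i = E.index →
    Subgroup.upperCentralSeries ↥K (i + 1) = ⊤

variable {E : Subgroup P}

theorem IsSoft.mem_of_comm (hs : IsSoft p E) (h : P) {x : P} (hx : ∀ b ∈ E, (h * b * h⁻¹) * x = x * (h * b * h⁻¹)) :
    x ∈ cj h E := by
  rw [mem_cj]
  apply hs.cent
  rw [Subgroup.mem_centralizer_iff]
  intro b hb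
  have h1 := hx b hb
  calc b * (h⁻¹ * x * h) = h⁻¹ * ((h * b * h⁻¹) * x) * h := by group
    _ = h⁻¹ * (x * (h * b * h⁻¹)) * h := by rw [h1]
    _ = _ := by group

theorem IsSoft.mem_of_comm' (hs : IsSoft p E) {x : P} (hx : ∀ b ∈ E, b * x = x * b) : x ∈ E :=
  hs.cent (Subgroup.mem_centralizer_iff.mpr hx)

variable [Finite P] [hpf : Fact p.Prime]

theorem IsSoft.normalizer_le (hs : IsSoft p E) (hP : IsPGroup p P) {K : Subgroup P} (hEK : E ≤ K) (hne : E ≠ K) :
    normalizer (E : Set P) ≤ K := by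
  haveI : Group.IsNilpotent P := hP.isNilpotent
  obtain ⟨x, hxK, hxE, hxN⟩ := exists_normalizing hEK hne
  exact le_of_mem_not_mem hpf.out Subgroup.le_normalizer hs.idx hEK hxN hxK hxE

theorem IsSoft.normalizer_ne_top (hs : IsSoft p E) (h2 : p ^ 2 ≤ E.index) :
    normalizer (E : Set P) ≠ ⊤ := by
  intro h
  have h1 := hs.idx
  rw [h, Subgroup.relIndex_top_right] at h1
  rw [h1] at h2
  have := hpf.out.one_lt
  nlinarith

section Tower

variable {w : P}

local notation "N₁" => normalizer (E : Set P)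

omit hpf [Finite P] in
theorem cj_le (w_mem : w ∈ normalizer ((N₁ : Subgroup P) : Set P)) : cj w E ≤ N₁ := by
  rintro _ ⟨b, hb, rfl⟩
  exact (Subgroup.mem_normalizer_iff.mp w_mem b).mp (Subgroup.le_normalizer hb)

theorem cj_not_le (w_not : w ∉ N₁) : ¬ cj w E ≤ E := by
  intro h
  apply w_not
  apply mem_normalizer_of_conj_le
  intro b hb
  exact h ⟨b, hb, rfl⟩

theorem normalizer_cj_ge (w_mem : w ∈ normalizer ((N₁ : Subgroup P) : Set P)) :
    (N₁ : Subgroup P) ≤ normalizer ((cj w E : Subgroup P) : Set P) := by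
  intro u hu
  apply mem_normalizer_of_conj_le
  rintro _ ⟨b, hb, rfl⟩
  have h1 : w⁻¹ * u * w ∈ (N₁ : Subgroup P) := by
    have := (Subgroup.mem_normalizer_iff.mp w_mem (w⁻¹ * u * w)).mpr (by
      have e : w * (w⁻¹ * u * w) * w⁻¹ = u := by group
      rw [e]
      exact hu)
    exact this
  have h2 := (Subgroup.mem_normalizer_iff.mp h1 b).mp hb
  refine ⟨_, h2, ?_⟩
  show w * (w⁻¹ * u * w * b * (w⁻¹ * u * w)⁻¹) * w⁻¹ = u * (w * b * w⁻¹) * u⁻¹
  group

theorem fact_Z (hs : IsSoft p E) (w_mem : w ∈ normalizer ((N₁ : Subgroup P) : Set P)) (w_not : w ∉ N₁) :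
    E ⊓ cj w E = N₁ ⊓ centralizer ((N₁ : Subgroup P) : Set P) := by
  have hp : p.Prime := hpf.out
  have hle := cj_le (E := E) w_mem
  obtain ⟨u, huF, huE⟩ := SetLike.not_le_iff_exists.mp (cj_not_le (E := E) w_not)
  have hcover : ∀ K : Subgroup P, E ≤ K → cj w E ≤ K → (N₁ : Subgroup P) ≤ K := fun K h1 h2 =>
    le_of_mem_not_mem hp Subgroup.le_normalizer hs.idx h1 (hle huF) (h2 huF) huE
  apply le_antisymm
  · rintro x ⟨hx1, hx2⟩
    refine ⟨Subgroup.le_normalizer hx1, ?_⟩
    show x ∈ centralizer _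
    rw [Subgroup.mem_centralizer_iff]
    have h3 : (N₁ : Subgroup P) ≤ centralizer ({x} : Set P) := by
      apply hcover
      · intro b hb
        rw [Subgroup.mem_centralizer_singleton_iff]
        exact (hs.ab x hx1 b hb).symm
      · rintro _ ⟨b, hb, rfl⟩
        rw [Subgroup.mem_centralizer_singleton_iff]
        obtain ⟨c, hc, hcx⟩ := hx2
        have hcx' : w * c * w⁻¹ = x := hcx
        show (w * b * w⁻¹) * x = x * (w * b * w⁻¹)
        rw [← hcx']
        calc (w * b * w⁻¹) * (w * c * w⁻¹) = w * (b * c) * w⁻¹ := by group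
          _ = w * (c * b) * w⁻¹ := by rw [hs.ab b hb c hc]
          _ = _ := by group
    intro v hv
    exact Subgroup.mem_centralizer_singleton_iff.mp (h3 hv)
  · rintro z ⟨hz1, hz2⟩
    have hz3 : ∀ v ∈ (N₁ : Subgroup P), v * z = z * v := Subgroup.mem_centralizer_iff.mp hz2
    refine ⟨hs.mem_of_comm' fun b hb => hz3 b (Subgroup.le_normalizer hb), ?_⟩
    exact hs.mem_of_comm w fun b hb => hz3 _ (hle ⟨b, hb, rfl⟩)

theorem relIndex_Z (hs : IsSoft p E) (w_mem : w ∈ normalizer ((N₁ : Subgroup P) : Set P)) (w_not : w ∉ N₁) :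
    (N₁ ⊓ centralizer ((N₁ : Subgroup P) : Set P)).relIndex N₁ = p ^ 2 := by
  have hp : p.Prime := hpf.out
  rw [← fact_Z hs w_mem w_not]
  have hle := cj_le (E := E) w_mem
  have h1 := Subgroup.relIndex_mul_relIndex (E ⊓ cj w E) E N₁ inf_le_left Subgroup.le_normalizer
  rw [hs.idx] at h1
  rw [← h1, inf_comm, Subgroup.inf_relIndex_right]
  have h2 : (cj w E).relIndex E = (cj w E).relIndex N₁ := by
    have h3 := relIndex_sup_of_le_normalizer (cj w E) E
      ((Subgroup.le_normalizer.trans (normalizer_cj_ge w_mem)))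
    rw [← h3]
    congr 1
    apply le_antisymm
    · exact sup_le hle Subgroup.le_normalizer
    · obtain ⟨u, huF, huE⟩ := SetLike.not_le_iff_exists.mp (cj_not_le (E := E) w_not)
      exact le_of_mem_not_mem hp Subgroup.le_normalizer hs.idx le_sup_right (hle huF)
        (Subgroup.mem_sup_left huF) huE
  have h4 : (cj w E).relIndex N₁ = p := by
    have h6 : (cj w E).relIndex (cj w N₁) = E.relIndex N₁ :=
      Subgroup.relIndex_map_map_of_injective E (N₁ : Subgroup P) (f := (MulAut.conj w).toMonoidHom)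
        (MulAut.conj w).injective
    have h7 : cj w N₁ = N₁ := Subgroup.mem_normalizer_iff_map_conj_eq.mp w_mem
    rw [h7] at h6
    rw [h6]
    exact hs.idx
  rw [h2, h4, pow_two]

/-- **Step 3**. -/
theorem step3 (hs : IsSoft p E) (hP : IsPGroup p P) (hne : (N₁ : Subgroup P) ≠ ⊤) :
    (N₁ : Subgroup P).relIndex (normalizer ((N₁ : Subgroup P) : Set P)) = p := by
  classical
  have hp : p.Prime := hpf.out
  haveI : Group.IsNilpotent P := hP.isNilpotent
  set N₂ := normalizer ((N₁ : Subgroup P) : Set P) with hN₂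
  have hlt : (N₁ : Subgroup P) ≠ N₂ := by
    intro h
    have h1 := Group.normalizerCondition_of_isNilpotent (N₁ : Subgroup P) (lt_top_iff_ne_top.mpr hne)
    exact h1.ne h
  obtain ⟨x, hxN₂, hxN₁⟩ : ∃ x ∈ N₂, x ∉ (N₁ : Subgroup P) := by
    obtain ⟨x, hx, hx2⟩ := SetLike.exists_of_lt (lt_of_le_of_ne Subgroup.le_normalizer hlt)
    exact ⟨x, hx, hx2⟩
  set Z₁ := (N₁ : Subgroup P) ⊓ centralizer ((N₁ : Subgroup P) : Set P) with hZ₁
  have hZ1E : Z₁ ≤ E := by
    rw [hZ₁, ← fact_Z hs hxN₂ hxN₁]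
    exact inf_le_left
  have hZidx : Z₁.relIndex N₁ = p ^ 2 := relIndex_Z hs hxN₂ hxN₁
  have hZnorm : ∀ y ∈ N₂, ∀ z ∈ Z₁, y * z * y⁻¹ ∈ Z₁ := by
    rintro y hy z ⟨hz1, hz2⟩
    refine ⟨(Subgroup.mem_normalizer_iff.mp hy z).mp hz1, ?_⟩
    have hz2 : z ∈ centralizer _ := hz2
    show _ ∈ centralizer _
    rw [Subgroup.mem_centralizer_iff] at hz2 ⊢
    intro v hv
    have h1 : y⁻¹ * v * y ∈ (N₁ : Subgroup P) := by
      apply (Subgroup.mem_normalizer_iff.mp hy _).mpr
      have e : y * (y⁻¹ * v * y) * y⁻¹ = v := by group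
      rw [e]
      exact hv
    have h2 := hz2 _ h1
    calc v * (y * z * y⁻¹) = y * ((y⁻¹ * v * y) * z) * y⁻¹ := by group
      _ = y * (z * (y⁻¹ * v * y)) * y⁻¹ := by rw [h2]
      _ = _ := by group
  -- an element of `E` outside `Z₁`
  obtain ⟨a, haE, haZ⟩ : ∃ a ∈ E, a ∉ Z₁ := by
    by_contra hcon
    push Not at hcon
    have h1 : E ≤ Z₁ := hcon
    have h2 : E = Z₁ := le_antisymm h1 hZ1E
    rw [← h2, hs.idx] at hZidx
    have := hp.one_lt
    nlinarith
  have hconjN : ∀ y : N₂, (y : P) * a * (y : P)⁻¹ ∈ (N₁ : Subgroup P) := fun y =>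
    (Subgroup.mem_normalizer_iff.mp y.2 a).mp (Subgroup.le_normalizer haE)
  let f : (↥N₂ ⧸ ((N₁ : Subgroup P).subgroupOf N₂)) → (↥(N₁ : Subgroup P) ⧸ (Z₁.subgroupOf N₁)) := fun q =>
    ((⟨(q.out : P) * a * (q.out : P)⁻¹, hconjN q.out⟩ : ↥(N₁ : Subgroup P)) : ↥(N₁ : Subgroup P) ⧸ (Z₁.subgroupOf N₁))
  have hinj : Function.Injective f := by
    intro q q' hqq
    have h1 := (QuotientGroup.eq (s := Z₁.subgroupOf N₁)).mp hqq
    have h2 : ((q.out : P) * a * (q.out : P)⁻¹)⁻¹ * ((q'.out : P) * a * (q'.out : P)⁻¹) ∈ Z₁ := h1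
    set y : P := (q.out : P) with hy
    set y' : P := (q'.out : P) with hy'
    have hyN : y ∈ N₂ := q.out.2
    have hy'N : y' ∈ N₂ := q'.out.2
    set z := (y * a * y⁻¹)⁻¹ * (y' * a * y'⁻¹) with hz
    set v := y⁻¹ * y' with hv
    have hvN₂ : v ∈ N₂ := N₂.mul_mem (N₂.inv_mem hyN) hy'N
    have h3 : v * a * v⁻¹ = a * (y⁻¹ * z * y) := by
      rw [hz, hv]
      group
    have h4 : y⁻¹ * z * y ∈ Z₁ := by
      have := hZnorm y⁻¹ (N₂.inv_mem hyN) z h2
      simpa using this
    have h5 : v ∈ (N₁ : Subgroup P) := by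
      by_contra hvN
      apply haZ
      have h6 : v * a * v⁻¹ ∈ E ⊓ cj v E := by
        refine ⟨?_, conj_mem_cj haE⟩
        rw [h3]
        exact E.mul_mem haE (hZ1E h4)
      rw [fact_Z hs hvN₂ hvN] at h6
      have h7 := hZnorm v⁻¹ (N₂.inv_mem hvN₂) _ h6
      have e : v⁻¹ * (v * a * v⁻¹) * v⁻¹⁻¹ = a := by group
      rwa [e] at h7
    rw [← QuotientGroup.out_eq' q, ← QuotientGroup.out_eq' q']
    apply QuotientGroup.eq.mpr
    exact h5
  have hnotsurj : ∀ q, f q ≠ ((1 : ↥(N₁ : Subgroup P)) : ↥(N₁ : Subgroup P) ⧸ (Z₁.subgroupOf N₁)) := by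
    intro q hq
    have h1 := (QuotientGroup.eq (s := Z₁.subgroupOf N₁)).mp hq
    have h2 : ((q.out : P) * a * (q.out : P)⁻¹)⁻¹ * 1 ∈ Z₁ := h1
    rw [mul_one] at h2
    have h3 := Z₁.inv_mem h2
    rw [inv_inv] at h3
    have h4 := hZnorm (q.out : P)⁻¹ (N₂.inv_mem q.out.2) _ h3
    have e : (q.out : P)⁻¹ * ((q.out : P) * a * (q.out : P)⁻¹) * (q.out : P)⁻¹⁻¹ = a := by group
    rw [e] at h4
    exact haZ h4
  have hcardlt : (N₁ : Subgroup P).relIndex N₂ < p ^ 2 := by
    by_contra hge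
    push Not at hge
    have hc : Nat.card (↥(N₁ : Subgroup P) ⧸ (Z₁.subgroupOf N₁)) ≤ Nat.card (↥N₂ ⧸ ((N₁ : Subgroup P).subgroupOf N₂)) := by
      show Z₁.relIndex N₁ ≤ (N₁ : Subgroup P).relIndex N₂
      rw [hZidx]
      exact hge
    obtain ⟨q, hq⟩ := (hinj.bijective_of_nat_card_le hc).2 ((1 : ↥(N₁ : Subgroup P)) : ↥(N₁ : Subgroup P) ⧸ (Z₁.subgroupOf N₁))
    exact hnotsurj q hq
  obtain ⟨k, hk⟩ := IsPGroup.iff_card.mp hP
  have hN₂p : IsPGroup p N₂ := hP.to_subgroup N₂
  obtain ⟨k', hk'⟩ := IsPGroup.iff_card.mp hN₂p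
  have hd := Subgroup.relIndex_dvd_card (N₁ : Subgroup P) N₂
  rw [hk'] at hd
  obtain ⟨j, -, hj⟩ := (Nat.dvd_prime_pow hp).mp hd
  rw [hj] at hcardlt ⊢
  have hj2 : j < 2 := (Nat.pow_lt_pow_iff_right hp.one_lt).mp hcardlt
  have hj0 : j ≠ 0 := by
    rintro rfl
    rw [pow_zero, Subgroup.relIndex_eq_one] at hj
    exact hlt (le_antisymm Subgroup.le_normalizer hj)
  have : j = 1 := by omega
  rw [this, pow_one]

/-- Commutators with `N(E)` lie in the conjugates of `E` under `N(N(E))`. -/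
theorem comm_mem_cj (hs : IsSoft p E) (w_mem : w ∈ normalizer ((N₁ : Subgroup P) : Set P)) {a g : P}
    (ha : a ∈ E) (hg : g ∈ (N₁ : Subgroup P)) : ⁅a, g⁆ ∈ cj w E := by
  have hp : p.Prime := hpf.out
  by_cases hw : w ∈ (N₁ : Subgroup P)
  · have h0 : cj w E = E := Subgroup.mem_normalizer_iff_map_conj_eq.mp hw
    rw [h0, commutatorElement_def]
    have h1 : a * g * a⁻¹ * g⁻¹ = a * (g * a⁻¹ * g⁻¹) := by group
    rw [h1]
    exact E.mul_mem ha ((Subgroup.mem_normalizer_iff.mp hg _).mp (E.inv_mem ha))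
  · have hle := cj_le (E := E) w_mem
    have hnF := normalizer_cj_ge (E := E) w_mem
    obtain ⟨u, huF, huE⟩ := SetLike.not_le_iff_exists.mp (cj_not_le (E := E) hw)
    have hcover : (N₁ : Subgroup P) ≤ E ⊔ cj w E :=
      le_of_mem_not_mem hp Subgroup.le_normalizer hs.idx le_sup_left (hle huF) (Subgroup.mem_sup_right huF) huE
    have h1 : ((E ⊔ cj w E : Subgroup P) : Set P) = (E : Set P) * (cj w E : Subgroup P) :=
      (Subgroup.coe_mul_of_left_le_normalizer_right E (cj w E) (Subgroup.le_normalizer.trans hnF))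
    have hg' : g ∈ (E : Set P) * ((cj w E : Subgroup P) : Set P) := by
      rw [← h1]
      exact hcover hg
    obtain ⟨e, he, f, hf, rfl⟩ := Set.mem_mul.mp hg'
    have h2 : ⁅a, e * f⁆ = e * (a * f * a⁻¹ * f⁻¹) * e⁻¹ := by
      rw [commutatorElement_def]
      have e1 : a * e = e * a := hs.ab a ha e he
      calc a * (e * f) * a⁻¹ * (e * f)⁻¹ = (a * e) * f * a⁻¹ * f⁻¹ * e⁻¹ := by group
        _ = (e * a) * f * a⁻¹ * f⁻¹ * e⁻¹ := by rw [e1]
        _ = _ := by group
    rw [h2]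
    have hfmem : a * f * a⁻¹ * f⁻¹ ∈ cj w E :=
      (cj w E).mul_mem ((Subgroup.mem_normalizer_iff.mp (hnF (Subgroup.le_normalizer ha)) f).mp hf) ((cj w E).inv_mem hf)
    exact (Subgroup.mem_normalizer_iff.mp (hnF (Subgroup.le_normalizer he)) _).mp hfmem

end Tower

omit [Finite P] hpf in
theorem mk_comm_iff (T : Subgroup P) [T.Normal] {x y : P} :
    QuotientGroup.mk' T x * QuotientGroup.mk' T y = QuotientGroup.mk' T y * QuotientGroup.mk' T x ↔ ⁅x, y⁆ ∈ T := by
  rw [← commutatorElement_eq_one_iff_mul_comm, ← map_commutatorElement]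
  exact QuotientGroup.eq_one_iff _

/-- Central elements of a maximal subgroup `D₁` of `M` conjugate to `D`, lie in `D`. -/
theorem Z_lemma (hs : IsSoft p E) (hP : IsPGroup p P) {M D : Subgroup P} (hMn : M.Normal) (hED : E ≤ D)
    (hEneD : E ≠ D) (hDM : D ≤ M) (hD : D.relIndex M = p) (h₁ : P)
    (T₀ : Subgroup P) [T₀.Normal] (hT₀ : T₀ = M ⊓ centralizer (M : Set P)) (hT₀E : T₀ ≤ E) {z₁ : P}
    (hz₁ : z₁ ∈ cj h₁ D) (hz₁c : ∀ u ∈ cj h₁ D, z₁ * u = u * z₁) : z₁ ∈ D := by
  by_contra hz₁D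
  have hp : p.Prime := hpf.out
  haveI : Group.IsNilpotent P := hP.isNilpotent
  set D₁ := cj h₁ D with hD₁def
  have hMh : cj h₁ M = M := Subgroup.mem_normalizer_iff_map_conj_eq.mp (by
    rw [Subgroup.normalizer_eq_top_iff.mpr hMn]
    exact Subgroup.mem_top _)
  have hD₁M : D₁ ≤ M := by
    rw [← hMh]
    exact Subgroup.map_mono hDM
  have hD₁idx : D₁.relIndex M = p := by
    have h6 : (cj h₁ D).relIndex (cj h₁ M) = D.relIndex M :=
      Subgroup.relIndex_map_map_of_injective D M (f := (MulAut.conj h₁).toMonoidHom) (MulAut.conj h₁).injective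
    rw [hMh] at h6
    rw [hD₁def, h6]
    exact hD
  have hMND := le_normalizer_of_relIndex_eq hp hDM hD
  have hMND₁ := le_normalizer_of_relIndex_eq hp hD₁M hD₁idx
  have hz₁M := hD₁M hz₁
  have hsup : D ⊔ D₁ = M := by
    apply le_antisymm (sup_le hDM hD₁M)
    exact le_of_mem_not_mem hp hDM hD le_sup_left hz₁M (Subgroup.mem_sup_right hz₁) hz₁D
  have hRD₁ : (D ⊓ D₁).relIndex D₁ = p := by
    rw [Subgroup.inf_relIndex_right, ← relIndex_sup_of_le_normalizer D D₁ (hD₁M.trans hMND), hsup]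
    exact hD
  have hRD : (D ⊓ D₁).relIndex D = p := by
    rw [Subgroup.inf_relIndex_left, ← relIndex_sup_of_le_normalizer D₁ D (hDM.trans hMND₁), sup_comm, hsup]
    exact hD₁idx
  -- a central element of `D` outside `D₁`
  obtain ⟨z, hzD, hzc, hzD₁⟩ : ∃ z ∈ D, (∀ u ∈ D, z * u = u * z) ∧ z ∉ D₁ := by
    by_contra hno
    push Not at hno
    have hle : D ⊓ centralizer (D : Set P) ≤ D₁ ⊓ centralizer (D₁ : Set P) := by
      rintro y ⟨hyD, hyc⟩
      have hyc' : ∀ u ∈ D, y * u = u * y := fun u hu =>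
        (Subgroup.mem_centralizer_iff.mp hyc u hu).symm
      have hyD₁ := hno y hyD hyc'
      refine ⟨hyD₁, ?_⟩
      show y ∈ centralizer _
      rw [Subgroup.mem_centralizer_iff]
      have h1 : D₁ ≤ centralizer ({y} : Set P) := by
        refine le_of_mem_not_mem hp inf_le_right hRD₁ ?_ hz₁ ?_ (fun h => hz₁D h.1)
        · rintro u ⟨huD, -⟩
          rw [Subgroup.mem_centralizer_singleton_iff]
          exact (hyc' u huD).symm
        · rw [Subgroup.mem_centralizer_singleton_iff]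
          exact hz₁c y hyD₁
      intro u hu
      exact Subgroup.mem_centralizer_singleton_iff.mp (h1 hu)
    have hle2 : D₁ ⊓ centralizer (D₁ : Set P) ≤ cj h₁ (D ⊓ centralizer (D : Set P)) := by
      rintro y ⟨hyD₁, hyc⟩
      rw [mem_cj]
      refine ⟨mem_cj.mp hyD₁, ?_⟩
      show _ ∈ centralizer _
      rw [Subgroup.mem_centralizer_iff]
      intro u hu
      have h2 := Subgroup.mem_centralizer_iff.mp hyc _ (conj_mem_cj hu : h₁ * u * h₁⁻¹ ∈ cj h₁ D)
      calc u * (h₁⁻¹ * y * h₁) = h₁⁻¹ * ((h₁ * u * h₁⁻¹) * y) * h₁ := by group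
        _ = h₁⁻¹ * (y * (h₁ * u * h₁⁻¹)) * h₁ := by rw [h2]
        _ = _ := by group
    have hcard : Nat.card ↥(D₁ ⊓ centralizer (D₁ : Set P)) ≤ Nat.card ↥(D ⊓ centralizer (D : Set P)) := by
      have := Subgroup.card_le_of_le hle2
      rwa [card_cj] at this
    have heq := Subgroup.eq_of_le_of_card_ge hle hcard
    have hz₁Z : z₁ ∈ D₁ ⊓ centralizer (D₁ : Set P) := by
      refine ⟨hz₁, ?_⟩
      show z₁ ∈ centralizer _
      rw [Subgroup.mem_centralizer_iff]
      intro u hu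
      exact (hz₁c u hu).symm
    rw [← heq] at hz₁Z
    exact hz₁D hz₁Z.1
  have hzM := hDM hzD
  set c := z * z₁ * z⁻¹ * z₁⁻¹ with hc
  have hcM : c ∈ M := M.mul_mem (M.mul_mem (M.mul_mem hzM hz₁M) (M.inv_mem hzM)) (M.inv_mem hz₁M)
  have hcD : ∀ u ∈ D, c * u = u * c := by
    intro u hu
    have h1 : z₁⁻¹ * u * z₁ ∈ D := by
      have := (Subgroup.mem_normalizer_iff.mp (hMND (M.inv_mem hz₁M)) u).mp hu
      simpa using this
    have h2 := hzc _ h1
    have h3 := hzc u hu
    have h4 : z⁻¹ * (z₁⁻¹ * u * z₁) = (z₁⁻¹ * u * z₁) * z⁻¹ :=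
      ((show Commute z (z₁⁻¹ * u * z₁) from h2).inv_left).eq
    calc c * u = z * (z₁ * (z⁻¹ * (z₁⁻¹ * u * z₁)) * z₁⁻¹) := by rw [hc]; group
      _ = z * (z₁ * ((z₁⁻¹ * u * z₁) * z⁻¹) * z₁⁻¹) := by rw [h4]
      _ = (z * u) * (z₁ * z⁻¹ * z₁⁻¹) := by group
      _ = (u * z) * (z₁ * z⁻¹ * z₁⁻¹) := by rw [h3]
      _ = u * c := by rw [hc]; group
  have hcD₁ : ∀ u ∈ D₁, c * u = u * c := by
    intro u hu
    have h1 : z⁻¹ * u * z ∈ D₁ := by
      have := (Subgroup.mem_normalizer_iff.mp (hMND₁ (M.inv_mem hzM)) u).mp hu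
      simpa using this
    have h2 := hz₁c _ h1
    have h3 := hz₁c u hu
    have h5 : z₁⁻¹ * u = u * z₁⁻¹ := ((show Commute z₁ u from h3).inv_left).eq
    calc c * u = z * (z₁ * (z⁻¹ * u * z)) * z⁻¹ * z₁⁻¹ := by
          rw [hc]
          have : z₁⁻¹ * u = u * z₁⁻¹ := h5
          calc z * z₁ * z⁻¹ * z₁⁻¹ * u = z * z₁ * z⁻¹ * (z₁⁻¹ * u) := by group
            _ = z * z₁ * z⁻¹ * (u * z₁⁻¹) := by rw [h5]
            _ = _ := by group
      _ = z * ((z⁻¹ * u * z) * z₁) * z⁻¹ * z₁⁻¹ := by rw [h2]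
      _ = u * c := by rw [hc]; group
  have hcT : c ∈ T₀ := by
    rw [hT₀]
    refine ⟨hcM, ?_⟩
    show c ∈ centralizer _
    rw [Subgroup.mem_centralizer_iff]
    have h1 : M ≤ centralizer ({c} : Set P) := by
      refine le_of_mem_not_mem hp hDM hD ?_ hz₁M ?_ hz₁D
      · intro u hu
        rw [Subgroup.mem_centralizer_singleton_iff]
        exact (hcD u hu).symm
      · rw [Subgroup.mem_centralizer_singleton_iff]
        exact (hcD₁ z₁ hz₁).symm
    intro u hu
    exact Subgroup.mem_centralizer_singleton_iff.mp (h1 hu)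
  let S : Subgroup P := (centralizer ({QuotientGroup.mk' T₀ z₁} : Set (P ⧸ T₀))).comap (QuotientGroup.mk' T₀)
  have hmemS : ∀ {u : P}, u ∈ S ↔ ⁅u, z₁⁆ ∈ T₀ := by
    intro u
    show QuotientGroup.mk' T₀ u ∈ centralizer _ ↔ _
    rw [Subgroup.mem_centralizer_singleton_iff, mk_comm_iff]
  have hDS : D ≤ S := by
    refine le_of_mem_not_mem hp inf_le_left hRD ?_ hzD (hmemS.mpr hcT) (fun h => hzD₁ h.2)
    rintro u ⟨-, huD₁⟩
    rw [hmemS, commutatorElement_def]
    have h1 := hz₁c u huD₁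
    have h2 : u * z₁ * u⁻¹ * z₁⁻¹ = 1 := by
      rw [← h1]
      group
    rw [h2]
    exact T₀.one_mem
  have hz₁N : z₁ ∈ normalizer (E : Set P) := by
    apply mem_normalizer_of_conj_le
    intro b hb
    have h1 : ⁅b, z₁⁆ ∈ T₀ := hmemS.mp (hDS (hED hb))
    have h2 := hT₀E h1
    rw [commutatorElement_def] at h2
    have h3 : z₁ * b * z₁⁻¹ = (b * z₁ * b⁻¹ * z₁⁻¹)⁻¹ * b := by group
    rw [h3]
    exact E.mul_mem (E.inv_mem h2) hb
  exact hz₁D (hs.normalizer_le hP hED hEneD hz₁N)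

/-- The key step: commutators of `E` with `N(E)` lie in all conjugates of `E`. -/
theorem core_step (hs : IsSoft p E) (hP : IsPGroup p P) {M D : Subgroup P} (hEM : E ≤ M) (hMn : M.Normal)
    (hMtop : M ≠ ⊤) (hED : E ≤ D) (hDM : D ≤ M) (hD : D.relIndex M = p) (hEneD : E ≠ D)
    (hchain : ∀ K L : Subgroup P, E ≤ K → E ≤ L → K ≤ M → L ≤ M → K ≤ L ∨ L ≤ K)
    (hMd : ∀ a ∈ E, ∀ g ∈ normalizer (E : Set P), ∀ k ∈ D, ⁅a, g⁆ * k = k * ⁅a, g⁆)
    (T₀ : Subgroup P) [T₀.Normal] (hT₀ : T₀ = M ⊓ centralizer (M : Set P)) (hT₀E : T₀ ≤ E)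
    (hQ : IsSoft p (E.map (QuotientGroup.mk' T₀)) → Concl p (E.map (QuotientGroup.mk' T₀)))
    {a g : P} (ha : a ∈ E) (hg : g ∈ normalizer (E : Set P)) (h : P) : ⁅a, g⁆ ∈ cj h E := by
  have hp : p.Prime := hpf.out
  haveI : Group.IsNilpotent P := hP.isNilpotent
  set r := ⁅a, g⁆ with hr
  have hrE : r ∈ E := by
    rw [hr, commutatorElement_def]
    have h1 : a * g * a⁻¹ * g⁻¹ = a * (g * a⁻¹ * g⁻¹) := by group
    rw [h1]
    exact E.mul_mem ha ((Subgroup.mem_normalizer_iff.mp hg _).mp (E.inv_mem ha))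
  by_cases hcen : ∀ m ∈ M, r * m = m * r
  · apply hs.mem_of_comm h
    intro b hb
    exact (hcen _ (hMn.conj_mem b (hEM hb) h)).symm
  have hrnot : r ∉ T₀ := by
    intro hrT
    rw [hT₀] at hrT
    apply hcen
    intro m hm
    exact (Subgroup.mem_centralizer_iff.mp hrT.2 m hm).symm
  have hSoft : IsSoft p (E.map (QuotientGroup.mk' T₀)) := by
    refine ⟨?_, ?_, ?_⟩
    · rintro _ ⟨x, hx, rfl⟩ _ ⟨y, hy, rfl⟩
      rw [← map_mul, ← map_mul, hs.ab x hx y hy]
    · intro xb hxb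
      obtain ⟨w, rfl⟩ := QuotientGroup.mk'_surjective T₀ xb
      have hw : ∀ b ∈ E, ⁅b, w⁆ ∈ T₀ := by
        intro b hb
        rw [← mk_comm_iff]
        exact Subgroup.mem_centralizer_iff.mp hxb _ ⟨b, hb, rfl⟩
      have hwN : w ∈ normalizer (E : Set P) := by
        apply mem_normalizer_of_conj_le
        intro b hb
        have h2 := hT₀E (hw b hb)
        rw [commutatorElement_def] at h2
        have h3 : w * b * w⁻¹ = (b * w * b⁻¹ * w⁻¹)⁻¹ * b := by group
        rw [h3]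
        exact E.mul_mem (E.inv_mem h2) hb
      by_cases hwE : w ∈ E
      · exact ⟨w, hwE, rfl⟩
      · exfalso
        let W : Subgroup P := (centralizer ((E.map (QuotientGroup.mk' T₀) : Subgroup (P ⧸ T₀)) : Set (P ⧸ T₀))).comap (QuotientGroup.mk' T₀)
        have hEW : E ≤ W := by
          intro b hb
          show QuotientGroup.mk' T₀ b ∈ centralizer _
          rw [Subgroup.mem_centralizer_iff]
          rintro _ ⟨x, hx, rfl⟩
          rw [← map_mul, ← map_mul, hs.ab x hx b hb]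
        have hNW := le_of_mem_not_mem hp Subgroup.le_normalizer hs.idx hEW hwN hxb hwE
        have h4 := Subgroup.mem_centralizer_iff.mp (hNW hg) _ (⟨a, ha, rfl⟩ : QuotientGroup.mk' T₀ a ∈ E.map (QuotientGroup.mk' T₀))
        exact hrnot (mk_comm_iff T₀ |>.mp h4)
    · rw [normalizer_map_mk T₀ hT₀E, relIndex_map_mk T₀ hT₀E]
      exact hs.idx
  have hC := hQ hSoft
  have hT₀M : T₀ ≤ M := by
    rw [hT₀]
    exact inf_le_left
  have hMq : M.map (QuotientGroup.mk' T₀) ≠ ⊤ := by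
    intro h1
    apply hMtop
    rw [← map_comap_mk T₀ hT₀M, h1]
    rfl
  have hr1 : ∀ m ∈ M, ⁅r, m⁆ ∈ T₀ := by
    intro m hm
    have h1 := hC.comm (M.map (QuotientGroup.mk' T₀)) (Subgroup.map_mono hEM) hMq _ ⟨a, ha, rfl⟩
      (QuotientGroup.mk' T₀ g) (by rw [normalizer_map_mk T₀ hT₀E]; exact ⟨g, hg, rfl⟩) _ ⟨m, hm, rfl⟩
    rw [← map_commutatorElement] at h1
    exact (mk_comm_iff T₀).mp h1
  have hDc : ∀ m ∈ M, r * m = m * r → m ∈ D := by
    intro m hm hcomm
    by_contra hmD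
    apply hcen
    have h1 : M ≤ centralizer ({r} : Set P) := by
      refine le_of_mem_not_mem hp hDM hD ?_ hm ?_ hmD
      · intro u hu
        rw [Subgroup.mem_centralizer_singleton_iff]
        exact (hMd a ha g hg u hu).symm
      · rw [Subgroup.mem_centralizer_singleton_iff]
        exact hcomm.symm
    intro u hu
    exact (Subgroup.mem_centralizer_singleton_iff.mp (h1 hu)).symm
  have hMh : ∀ h₁ : P, cj h₁ M = M := fun h₁ => Subgroup.mem_normalizer_iff_map_conj_eq.mp (by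
    rw [Subgroup.normalizer_eq_top_iff.mpr hMn]
    exact Subgroup.mem_top _)
  have hconjall : ∀ h₁ : P, cj h₁ D = D := by
    intro h₁
    by_contra hne
    set D₁ := cj h₁ D with hD₁def
    have hD₁M : D₁ ≤ M := by
      rw [← hMh h₁]
      exact Subgroup.map_mono hDM
    have hrD : r ∈ D := hED hrE
    set s := h₁ * r * h₁⁻¹ with hs'
    have hsD₁ : s ∈ D₁ := conj_mem_cj hrD
    have hsc : ∀ u ∈ D₁, s * u = u * s := by
      intro u hu
      have h2 := hMd a ha g hg _ (mem_cj.mp hu)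
      rw [← hr] at h2
      calc s * u = h₁ * (r * (h₁⁻¹ * u * h₁)) * h₁⁻¹ := by rw [hs']; group
        _ = h₁ * ((h₁⁻¹ * u * h₁) * r) * h₁⁻¹ := by rw [h2]
        _ = u * s := by rw [hs']; group
    have hsD : s ∈ D := Z_lemma hs hP hMn hED hEneD hDM hD h₁ T₀ hT₀ hT₀E hsD₁ hsc
    have hs1 : ∀ m ∈ M, ⁅s, m⁆ ∈ T₀ := by
      intro m hm
      have h2 : h₁⁻¹ * m * h₁ ∈ M := mem_cj.mp (by rw [hMh h₁]; exact hm)
      have h3 := hr1 _ h2
      have h4 := (inferInstance : T₀.Normal).conj_mem _ h3 h₁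
      have e : h₁ * ⁅r, h₁⁻¹ * m * h₁⁆ * h₁⁻¹ = ⁅s, m⁆ := by
        rw [commutatorElement_def, commutatorElement_def, hs']
        group
      rwa [e] at h4
    have hsE : s ∈ E := by
      have h2 : QuotientGroup.mk' T₀ s ∈ E.map (QuotientGroup.mk' T₀) := by
        apply hSoft.cent
        rw [Subgroup.mem_centralizer_iff]
        rintro _ ⟨b, hb, rfl⟩
        have h3 := hs1 b (hEM hb)
        have h4 := (mk_comm_iff T₀).mpr h3
        exact h4.symm
      exact (mem_map_mk T₀ hT₀E).mp h2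
    have hED₁ : E ≤ D₁ := by
      intro b hb
      rw [hD₁def, mem_cj]
      have hm : h₁⁻¹ * b * h₁ ∈ M := mem_cj.mp (by rw [hMh h₁]; exact hEM hb)
      apply hDc _ hm
      have h2 := hs.ab s hsE b hb
      calc r * (h₁⁻¹ * b * h₁) = h₁⁻¹ * (s * b) * h₁ := by rw [hs']; group
        _ = h₁⁻¹ * (b * s) * h₁ := by rw [h2]
        _ = _ := by rw [hs']; group
    have hcardeq : Nat.card D₁ = Nat.card D := card_cj h₁ D
    rcases hchain D D₁ hED hED₁ hDM hD₁M with h2 | h2
    · exact hne (Subgroup.eq_of_le_of_card_ge h2 hcardeq.le).symm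
    · exact hne (Subgroup.eq_of_le_of_card_ge h2 hcardeq.ge)
  apply hs.mem_of_comm h
  intro b hb
  have h2 : h * b * h⁻¹ ∈ D := by
    rw [← hconjall h]
    exact conj_mem_cj (hED hb)
  exact (hMd a ha g hg _ h2).symm


section Main

local notation "N₁" => normalizer (E : Set P)

theorem le_sq_of_index (hP : IsPGroup p P) {H : Subgroup P} (hne : H ≠ ⊤) (hp' : H.index ≠ p) : p ^ 2 ≤ H.index := by
  have hp : p.Prime := hpf.out
  obtain ⟨k, hk⟩ := IsPGroup.iff_card.mp hP
  have h1 : H.index ∣ p ^ k := hk ▸ H.index_dvd_card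
  obtain ⟨j, -, hj⟩ := (Nat.dvd_prime_pow hp).mp h1
  rw [hj] at hp' ⊢
  have h0 : j ≠ 0 := by
    rintro rfl
    rw [pow_zero, Subgroup.index_eq_one] at hj
    exact hne hj
  have h1 : j ≠ 1 := by
    rintro rfl
    simp at hp'
  exact Nat.pow_le_pow_right hp.pos (by omega)

theorem soft_ne_bot (hs : IsSoft p E) (h2 : p ^ 2 ≤ E.index) : E ≠ ⊥ := by
  rintro rfl
  have h1 : centralizer ((⊥ : Subgroup P) : Set P) = ⊤ := by
    rw [eq_top_iff]
    intro x _
    rw [Subgroup.mem_centralizer_iff]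
    intro y hy
    have : y = 1 := hy
    rw [this, one_mul, mul_one]
  have h3 := hs.cent
  rw [h1] at h3
  have h4 : (⊥ : Subgroup P) = ⊤ := le_antisymm bot_le h3
  rw [h4, Subgroup.index_top] at h2
  have := hpf.out.one_lt
  nlinarith

theorem card_quot_lt {T : Subgroup P} [T.Normal] (h : T ≠ ⊥) : Nat.card (P ⧸ T) < Nat.card P := by
  have h1 := Subgroup.card_eq_card_quotient_mul_card_subgroup T
  have h2 : 1 < Nat.card T := by
    rw [Finite.one_lt_card_iff_nontrivial]
    exact (Subgroup.nontrivial_iff_ne_bot T).mpr h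
  have h3 : 0 < Nat.card (P ⧸ T) := Nat.card_pos
  nlinarith

omit [Finite P] hpf in
theorem comm_symm_mem {T : Subgroup P} {u v : P} (h : ⁅u, v⁆ ∈ T) : ⁅v, u⁆ ∈ T := by
  have := T.inv_mem h
  rwa [commutatorElement_inv] at this

omit [Finite P] hpf in
theorem comm_mem_of_comm {T : Subgroup P} {u v : P} (h : u * v = v * u) : ⁅u, v⁆ ∈ T := by
  rw [commutatorElement_eq_one_iff_mul_comm.mpr h]
  exact T.one_mem

/-- Centralizer modulo `T`. -/
def cS (T : Subgroup P) [T.Normal] (v : P) : Subgroup P :=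
  (centralizer ({QuotientGroup.mk' T v} : Set (P ⧸ T))).comap (QuotientGroup.mk' T)

omit [Finite P] hpf in
theorem mem_cS {T : Subgroup P} [T.Normal] {u v : P} : u ∈ cS T v ↔ ⁅u, v⁆ ∈ T := by
  show QuotientGroup.mk' T u ∈ centralizer _ ↔ _
  rw [Subgroup.mem_centralizer_singleton_iff, mk_comm_iff]

theorem N1_comm (hs : IsSoft p E) (T : Subgroup P) [T.Normal] (hR : ∀ a ∈ E, ∀ g ∈ (N₁ : Subgroup P), ⁅a, g⁆ ∈ T)
    {u v : P} (hu : u ∈ (N₁ : Subgroup P)) (hv : v ∈ (N₁ : Subgroup P)) : ⁅u, v⁆ ∈ T := by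
  have hp : p.Prime := hpf.out
  by_cases hvE : v ∈ E
  · exact comm_symm_mem (hR v hvE u hu)
  · have h1 : (N₁ : Subgroup P) ≤ cS T v := by
      refine le_of_mem_not_mem hp Subgroup.le_normalizer hs.idx ?_ hv (mem_cS.mpr (comm_mem_of_comm rfl)) hvE
      intro b hb
      exact mem_cS.mpr (hR b hb v hv)
    exact mem_cS.mp (h1 hu)

theorem soft_quot (hs : IsSoft p E) (hP : IsPGroup p P) (hne : (N₁ : Subgroup P) ≠ ⊤) (T : Subgroup P) [T.Normal]
    (hTE : T ≤ E) (hR : ∀ a ∈ E, ∀ g ∈ (N₁ : Subgroup P), ⁅a, g⁆ ∈ T) :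
    IsSoft p ((N₁ : Subgroup P).map (QuotientGroup.mk' T)) := by
  have hTN : T ≤ (N₁ : Subgroup P) := hTE.trans Subgroup.le_normalizer
  refine ⟨?_, ?_, ?_⟩
  · rintro _ ⟨x, hx, rfl⟩ _ ⟨y, hy, rfl⟩
    exact (mk_comm_iff T).mpr (N1_comm hs T hR hx hy)
  · intro xb hxb
    obtain ⟨w, rfl⟩ := QuotientGroup.mk'_surjective T xb
    refine ⟨w, ?_, rfl⟩
    apply mem_normalizer_of_conj_le
    intro b hb
    have h1 := Subgroup.mem_centralizer_iff.mp hxb _ (⟨b, Subgroup.le_normalizer hb, rfl⟩ :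
      QuotientGroup.mk' T b ∈ (N₁ : Subgroup P).map (QuotientGroup.mk' T))
    have h2 := hTE ((mk_comm_iff T).mp h1)
    rw [commutatorElement_def] at h2
    have h3 : w * b * w⁻¹ = (b * w * b⁻¹ * w⁻¹)⁻¹ * b := by group
    rw [h3]
    exact E.mul_mem (E.inv_mem h2) hb
  · rw [normalizer_map_mk T hTN, relIndex_map_mk T hTN]
    exact step3 hs hP hne

/-- Building the conclusion from the quotient. -/
theorem concl_of (hs : IsSoft p E) (hP : IsPGroup p P) (h2 : p ^ 2 ≤ E.index)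
    (hR : ∀ (h : P), ∀ a ∈ E, ∀ g ∈ (N₁ : Subgroup P), ⁅a, g⁆ ∈ cj h E)
    (hQ : (N₁ : Subgroup P).index ≠ p → Concl p ((N₁ : Subgroup P).map (QuotientGroup.mk' E.normalCore))) :
    Concl p E := by
  have hp : p.Prime := hpf.out
  haveI : Group.IsNilpotent P := hP.isNilpotent
  set T := E.normalCore with hTdef
  have hTE : T ≤ E := Subgroup.normalCore_le E
  have hTN : T ≤ (N₁ : Subgroup P) := hTE.trans Subgroup.le_normalizer
  have hRT : ∀ a ∈ E, ∀ g ∈ (N₁ : Subgroup P), ⁅a, g⁆ ∈ T := by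
    intro a ha g hg b
    have h1 := mem_cj.mp (hR b⁻¹ a ha g hg)
    simpa using h1
  have hKcase : ∀ K : Subgroup P, E ≤ K → K = E ∨ (N₁ : Subgroup P) ≤ K := by
    intro K hK
    by_cases h : E = K
    · exact Or.inl h.symm
    · exact Or.inr (hs.normalizer_le hP hK h)
  have hcase1 : (N₁ : Subgroup P).index = p → ∀ K : Subgroup P, (N₁ : Subgroup P) ≤ K → K ≠ ⊤ → K = N₁ := by
    intro hNp K hK hKt
    rcases between hp hK le_top (by rw [Subgroup.relIndex_top_right]; exact hNp) with h | h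
    · exact le_antisymm h hK
    · exact absurd (top_le_iff.mp h) hKt
  have hmaple : ∀ K L : Subgroup P, T ≤ K → T ≤ L → K.map (QuotientGroup.mk' T) ≤ L.map (QuotientGroup.mk' T) → K ≤ L := by
    intro K L hK hL h x hx
    exact (mem_map_mk T hL).mp (h ⟨x, hx, rfl⟩)
  have hmapne : ∀ K : Subgroup P, T ≤ K → K ≠ ⊤ → K.map (QuotientGroup.mk' T) ≠ ⊤ := by
    intro K hK hKt h
    apply hKt
    rw [← map_comap_mk T hK, h]
    rfl
  have chain : ∀ K L : Subgroup P, E ≤ K → E ≤ L → K ≤ L ∨ L ≤ K := by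
    intro K L hK hL
    rcases hKcase K hK with rfl | hK'
    · exact Or.inl hL
    rcases hKcase L hL with rfl | hL'
    · exact Or.inr hK
    by_cases hNp : (N₁ : Subgroup P).index = p
    · by_cases hKt : K = ⊤
      · right
        rw [hKt]
        exact le_top
      · left
        rw [hcase1 hNp K hK' hKt]
        exact hL'
    · rcases (hQ hNp).chain (K.map (QuotientGroup.mk' T)) (L.map (QuotientGroup.mk' T))
        (Subgroup.map_mono hK') (Subgroup.map_mono hL') with h | h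
      · exact Or.inl (hmaple K L (hTN.trans hK') (hTN.trans hL') h)
      · exact Or.inr (hmaple L K (hTN.trans hL') (hTN.trans hK') h)
  have hN₁ne : (N₁ : Subgroup P) ≠ ⊤ := hs.normalizer_ne_top h2
  have nidx : ∀ K : Subgroup P, E ≤ K → K ≠ ⊤ → K.relIndex (normalizer (K : Set P)) = p := by
    intro K hK hKt
    rcases hKcase K hK with rfl | hK'
    · exact hs.idx
    by_cases hNp : (N₁ : Subgroup P).index = p
    · rw [hcase1 hNp K hK' hKt]
      exact step3 hs hP hN₁ne
    · have h3 := (hQ hNp).nidx (K.map (QuotientGroup.mk' T)) (Subgroup.map_mono hK') (hmapne K (hTN.trans hK') hKt)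
      rwa [normalizer_map_mk T (hTN.trans hK'), relIndex_map_mk T (hTN.trans hK')] at h3
  set Y := Subgroup.normalClosure (E : Set P) with hYdef
  have hEY : E ≤ Y := Subgroup.subset_normalClosure
  have hYn : Y.Normal := Subgroup.normalClosure_normal
  have hYle : ∀ K : Subgroup P, E ≤ K → K ≠ ⊤ → K ≤ Y := by
    intro K hK hKt
    rcases chain K Y hK hEY with h | h
    · exact h
    · have hYt : Y ≠ ⊤ := by
        intro h4
        rw [h4] at h
        exact hKt (top_le_iff.mp h)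
      have h3 := nidx Y hEY hYt
      rw [Subgroup.normalizer_eq_top_iff.mpr hYn, Subgroup.relIndex_top_right] at h3
      rcases between hp h le_top (by rw [Subgroup.relIndex_top_right]; exact h3) with h5 | h5
      · exact h5
      · exact absurd (top_le_iff.mp h5) hKt
  have hTc : ∀ t ∈ T, ∀ y ∈ Y, t * y = y * t := by
    intro t ht y hy
    have h3 : Y ≤ centralizer (T : Set P) := by
      apply Subgroup.normalClosure_le_normal
      intro b hb
      show b ∈ centralizer (T : Set P)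
      rw [Subgroup.mem_centralizer_iff]
      intro u hu
      exact hs.ab _ (hTE hu) _ hb
    exact Subgroup.mem_centralizer_iff.mp (h3 hy) t ht
  refine ⟨chain, nidx, ?_, ?_⟩
  · intro K hK hKt a ha g hg k hk
    exact hTc _ (hRT a ha g hg) k (hYle K hK hKt hk)
  · intro i K hEK hKt hidx
    have hEidx := Subgroup.relIndex_mul_index hEK
    rcases i with _ | i
    · -- `K = E`
      rw [pow_zero, mul_one] at hidx
      have h3 : E.relIndex K = 1 := by
        have h4 : 0 < K.index := Nat.pos_of_ne_zero Subgroup.index_ne_zero_of_finite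
        rw [hidx] at hEidx
        exact Nat.eq_of_mul_eq_mul_right (by rwa [hidx] at h4) (by rw [one_mul]; exact hEidx)
      have h4 : K = E := le_antisymm (Subgroup.relIndex_eq_one.mp h3) hEK
      subst h4
      rw [Subgroup.upperCentralSeries_one, eq_top_iff]
      intro x _
      rw [Subgroup.mem_center_iff]
      intro y
      exact Subtype.ext (hs.ab _ y.2 _ x.2)
    · have hKE : K ≠ E := by
        rintro rfl
        have h4 : 0 < K.index := Nat.pos_of_ne_zero Subgroup.index_ne_zero_of_finite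
        have h5 : p ^ (i + 1) = 1 := Nat.eq_of_mul_eq_mul_left h4 (by rw [mul_one]; exact hidx)
        have h6 : 1 < p ^ (i + 1) := Nat.one_lt_pow (by omega) hp.one_lt
        omega
      have hK' : (N₁ : Subgroup P) ≤ K := (hKcase K hEK).resolve_left hKE
      have hTK : T ≤ K := hTN.trans hK'
      apply upper_of_central_kernel ((QuotientGroup.mk' T).subgroupMap K) (MonoidHom.subgroupMap_surjective _ K)
      · intro x hx
        have h3 : QuotientGroup.mk' T (x : P) = 1 := congrArg Subtype.val hx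
        have h4 : (x : P) ∈ T := (QuotientGroup.eq_one_iff _).mp h3
        rw [Subgroup.mem_center_iff]
        intro y
        exact Subtype.ext (hTc _ h4 _ (hYle K hEK hKt y.2)).symm
      · by_cases hNp : (N₁ : Subgroup P).index = p
        · have hKN := hcase1 hNp K hK' hKt
          have h3 : Subgroup.upperCentralSeries ↥(K.map (QuotientGroup.mk' T)) 1 = ⊤ := by
            rw [Subgroup.upperCentralSeries_one, eq_top_iff]
            rintro ⟨_, x, hx, rfl⟩ _
            rw [Subgroup.mem_center_iff]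
            rintro ⟨_, y, hy, rfl⟩
            apply Subtype.ext
            rw [hKN] at hx hy
            exact (mk_comm_iff T).mpr (N1_comm hs T hRT hy hx)
          rw [eq_top_iff, ← h3]
          exact Subgroup.upperCentralSeries_mono _ (by omega)
        · apply (hQ hNp).upper i (K.map (QuotientGroup.mk' T)) (Subgroup.map_mono hK') (hmapne K hTK hKt)
          rw [index_map_mk T hTK, index_map_mk T hTN]
          have h3 := Subgroup.relIndex_mul_index (Subgroup.le_normalizer : E ≤ (N₁ : Subgroup P))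
          rw [hs.idx] at h3
          rw [← h3, pow_succ] at hidx
          have h4 : (K.index * p ^ i) * p = p * (N₁ : Subgroup P).index := by
            rw [← hidx]
            ring
          rw [mul_comm p] at h4
          exact Nat.eq_of_mul_eq_mul_right hp.pos h4

theorem soft_subgroupOf (hs : IsSoft p E) {M : Subgroup P} (hEM : E ≤ M) (hNM : (N₁ : Subgroup P) ≤ M) :
    IsSoft p (E.subgroupOf M) := by
  have hnorm : normalizer ((E.subgroupOf M : Subgroup M) : Set M) = (N₁ : Subgroup P).subgroupOf M := by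
    ext y
    rw [Subgroup.mem_subgroupOf]
    constructor
    · intro hy
      apply mem_normalizer_of_conj_le
      intro b hb
      have h1 := (Subgroup.mem_normalizer_iff.mp hy ⟨b, hEM hb⟩).mp hb
      exact h1
    · intro hy
      rw [Subgroup.mem_normalizer_iff]
      intro b
      exact Subgroup.mem_normalizer_iff.mp hy (b : P)
  refine ⟨?_, ?_, ?_⟩
  · intro a ha b hb
    exact Subtype.ext (hs.ab _ ha _ hb)
  · intro y hy
    show (y : P) ∈ E
    apply hs.mem_of_comm'
    intro b hb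
    have := Subgroup.mem_centralizer_iff.mp hy ⟨b, hEM hb⟩ hb
    exact congrArg Subtype.val this
  · rw [hnorm, Subgroup.relIndex_subgroupOf hNM]
    exact hs.idx

/-- Commutators lie in all conjugates of `E`. -/
theorem hR_of (hs : IsSoft p E) (hP : IsPGroup p P) (h2 : p ^ 2 ≤ E.index)
    (hIH : ∀ (Q : Type u) [Group Q] [Finite Q], Nat.card Q < Nat.card P → IsPGroup p Q →
      ∀ F : Subgroup Q, IsSoft p F → p ^ 2 ≤ F.index → Concl p F)
    {a g : P} (ha : a ∈ E) (hg : g ∈ (N₁ : Subgroup P)) (h : P) : ⁅a, g⁆ ∈ cj h E := by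
  have hp : p.Prime := hpf.out
  haveI : Group.IsNilpotent P := hP.isNilpotent
  have hN₁ne : (N₁ : Subgroup P) ≠ ⊤ := hs.normalizer_ne_top h2
  have hEN := Subgroup.relIndex_mul_index (Subgroup.le_normalizer : E ≤ (N₁ : Subgroup P))
  rw [hs.idx] at hEN
  by_cases hNp : (N₁ : Subgroup P).index = p
  · have h1 := le_normalizer_of_relIndex_eq hp (le_top : (N₁ : Subgroup P) ≤ ⊤)
      (by rw [Subgroup.relIndex_top_right]; exact hNp)
    exact comm_mem_cj hs (h1 (Subgroup.mem_top h)) ha hg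
  have h3 := le_sq_of_index hP hN₁ne hNp
  obtain ⟨M, hNM, hMp⟩ := exists_index_p hp hP hN₁ne
  have hMn : M.Normal := by
    apply Subgroup.normalizer_eq_top_iff.mp
    apply top_le_iff.mp
    exact le_normalizer_of_relIndex_eq hp (le_top : M ≤ ⊤) (by rw [Subgroup.relIndex_top_right]; exact hMp)
  have hEM : E ≤ M := Subgroup.le_normalizer.trans hNM
  have hMtop : M ≠ ⊤ := by
    rintro rfl
    rw [Subgroup.index_top] at hMp
    exact hp.one_lt.ne hMp
  have hEMidx := Subgroup.relIndex_mul_index hEM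
  rw [hMp, ← hEN, mul_comm] at hEMidx
  have hEMidx' : E.relIndex M = (N₁ : Subgroup P).index := Nat.eq_of_mul_eq_mul_left hp.pos hEMidx
  have hE0 : p ^ 2 ≤ (E.subgroupOf M).index := by
    show p ^ 2 ≤ E.relIndex M
    rw [hEMidx']
    exact h3
  have hcardM : Nat.card M < Nat.card P := by
    have h4 := M.card_mul_index
    rw [hMp] at h4
    have h5 : 0 < Nat.card M := Nat.card_pos
    have := hp.one_lt
    nlinarith
  have hC := hIH M hcardM (hP.to_subgroup M) (E.subgroupOf M) (soft_subgroupOf hs hEM hNM) hE0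
  have hchain : ∀ K L : Subgroup P, E ≤ K → E ≤ L → K ≤ M → L ≤ M → K ≤ L ∨ L ≤ K := by
    intro K L hK hL hKM hLM
    rcases hC.chain (K.subgroupOf M) (L.subgroupOf M) (Subgroup.subgroupOf_mono _ hK) (Subgroup.subgroupOf_mono _ hL) with h1 | h1
    · left
      intro x hx
      exact h1 (show (⟨x, hKM hx⟩ : M) ∈ K.subgroupOf M from hx)
    · right
      intro x hx
      exact h1 (show (⟨x, hLM hx⟩ : M) ∈ L.subgroupOf M from hx)
  have hE0ne : E.subgroupOf M ≠ ⊤ := by
    intro h4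
    rw [h4, Subgroup.index_top] at hE0
    have := hp.one_lt
    nlinarith
  obtain ⟨L, hL1, hL2⟩ := exists_index_p hp (hP.to_subgroup M) hE0ne
  set D := L.map M.subtype with hDdef
  have hED : E ≤ D := fun b hb => ⟨⟨b, hEM hb⟩, hL1 hb, rfl⟩
  have hDM : D ≤ M := Subgroup.map_subtype_le L
  have hD : D.relIndex M = p := by
    show ((L.map M.subtype).comap M.subtype).index = p
    rw [Subgroup.comap_map_eq_self_of_injective M.subtype_injective]
    exact hL2
  have hEneD : E ≠ D := by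
    intro h4
    rw [← h4, hEMidx'] at hD
    exact hNp hD
  have hLt : L ≠ ⊤ := by
    rintro rfl
    rw [Subgroup.index_top] at hL2
    exact hp.one_lt.ne hL2
  have hgN : ∀ g (hg : g ∈ (N₁ : Subgroup P)), (⟨g, hNM hg⟩ : M) ∈ normalizer ((E.subgroupOf M : Subgroup M) : Set M) := by
    intro g hg
    rw [Subgroup.mem_normalizer_iff]
    intro b
    exact Subgroup.mem_normalizer_iff.mp hg (b : P)
  have hMd : ∀ a ∈ E, ∀ g ∈ (N₁ : Subgroup P), ∀ k ∈ D, ⁅a, g⁆ * k = k * ⁅a, g⁆ := by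
    rintro a ha g hg _ ⟨k, hk, rfl⟩
    have h4 := hC.comm L hL1 hLt ⟨a, hEM ha⟩ ha ⟨g, hNM hg⟩ (hgN g hg) k hk
    exact congrArg Subtype.val h4
  set T₀ := M ⊓ centralizer (M : Set P) with hT₀def
  haveI : T₀.Normal := by
    rw [hT₀def]
    haveI := hMn
    exact Subgroup.normal_inf_normal M (centralizer (M : Set P))
  have hT₀E : T₀ ≤ E := by
    rintro t ⟨-, ht⟩
    apply hs.mem_of_comm'
    intro b hb
    exact Subgroup.mem_centralizer_iff.mp ht b (hEM hb)
  have hT₀ne : T₀ ≠ ⊥ := by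
    have hMne : M ≠ ⊥ := by
      intro h4
      rw [h4] at hEM
      exact soft_ne_bot hs h2 (le_bot_iff.mp hEM)
    haveI : Nontrivial M := (Subgroup.nontrivial_iff_ne_bot M).mpr hMne
    haveI := (hP.to_subgroup M).center_nontrivial
    obtain ⟨z, hz⟩ := exists_ne (1 : center M)
    intro h4
    have h5 : ((z : M) : P) ∈ T₀ := by
      refine ⟨(z : M).2, ?_⟩
      show _ ∈ centralizer _
      rw [Subgroup.mem_centralizer_iff]
      intro m hm
      have := (Subgroup.mem_center_iff.mp z.2) ⟨m, hm⟩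
      exact congrArg Subtype.val this
    rw [h4] at h5
    apply hz
    apply Subtype.ext
    apply Subtype.ext
    exact h5
  refine core_step hs hP hEM hMn hMtop hED hDM hD hEneD hchain hMd T₀ rfl hT₀E ?_ ha hg h
  intro hsq
  apply hIH (P ⧸ T₀) (card_quot_lt hT₀ne) (hP.to_quotient T₀) _ hsq
  rw [index_map_mk T₀ hT₀E]
  exact h2

end Main

/-- **Main theorem** for soft subgroups. -/
theorem soft_main (p : ℕ) [hpf : Fact p.Prime] (n : ℕ) : ∀ (P : Type u) [Group P] [Finite P], Nat.card P = n →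
    IsPGroup p P → ∀ E : Subgroup P, IsSoft p E → p ^ 2 ≤ E.index → Concl p E := by
  induction n using Nat.strong_induction_on with
  | _ n ih =>
    intro P _ _ hn hP E hs h2
    have hp : p.Prime := hpf.out
    have hIH : ∀ (Q : Type u) [Group Q] [Finite Q], Nat.card Q < Nat.card P → IsPGroup p Q →
        ∀ F : Subgroup Q, IsSoft p F → p ^ 2 ≤ F.index → Concl p F := by
      intro Q _ _ hQ hQp F hF hF2
      exact ih (Nat.card Q) (hn ▸ hQ) Q rfl hQp F hF hF2
    have hR : ∀ (h : P), ∀ a ∈ E, ∀ g ∈ normalizer (E : Set P), ⁅a, g⁆ ∈ cj h E :=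
      fun h a ha g hg => hR_of hs hP h2 hIH ha hg h
    apply concl_of hs hP h2 hR
    intro hNp
    set T := E.normalCore with hTdef
    have hTE : T ≤ E := Subgroup.normalCore_le E
    have hRT : ∀ a ∈ E, ∀ g ∈ normalizer (E : Set P), ⁅a, g⁆ ∈ T := by
      intro a ha g hg b
      have h1 := mem_cj.mp (hR b⁻¹ a ha g hg)
      simpa using h1
    have hN₁ne := hs.normalizer_ne_top h2
    have hTne : T ≠ ⊥ := by
      intro hbot
      obtain ⟨g, hg, hgE⟩ : ∃ g ∈ normalizer (E : Set P), g ∉ E := by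
        by_contra hno
        push Not at hno
        have h3 : (normalizer (E : Set P) : Subgroup P) ≤ E := hno
        have h4 := hs.idx
        rw [Subgroup.relIndex_eq_one.mpr h3] at h4
        exact hp.one_lt.ne h4
      apply hgE
      apply hs.mem_of_comm'
      intro b hb
      have h5 := hRT b hb g hg
      rw [hbot] at h5
      exact commutatorElement_eq_one_iff_mul_comm.mp h5
    apply hIH (P ⧸ T) (card_quot_lt hTne) (hP.to_quotient T) _ (soft_quot hs hP hN₁ne T hTE hRT)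
    rw [index_map_mk T (hTE.trans Subgroup.le_normalizer)]
    exact le_sq_of_index hP hN₁ne hNp

section Lower

theorem class_lower (hs : IsSoft p E) (hC : Concl p E) (h2 : p ^ 2 ≤ E.index) {K : Subgroup P} (hEK : E ≤ K)
    (hKt : K ≠ ⊤) {i : ℕ} (hi : K.index * p ^ i = E.index) [Group.IsNilpotent ↥K] :
    i + 1 ≤ Group.nilpotencyClass ↥K := by
  have hp : p.Prime := hpf.out
  let A : ℕ → Subgroup P := fun j => E ⊔ (Subgroup.upperCentralSeries ↥K j).map K.subtype
  have hEA : ∀ j, E ≤ A j := fun j => le_sup_left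
  have hAK : ∀ j, A j ≤ K := fun j => sup_le hEK (Subgroup.map_subtype_le _)
  have hAmono : ∀ j, A j ≤ A (j + 1) := fun j => sup_le_sup_left
    (Subgroup.map_mono (Subgroup.upperCentralSeries_mono _ (Nat.le_succ j))) _
  have hA1 : A 1 = E := by
    apply le_antisymm _ (hEA 1)
    apply sup_le le_rfl
    rintro _ ⟨z, hz, rfl⟩
    rw [Subgroup.upperCentralSeries_one] at hz
    apply hs.mem_of_comm'
    intro b hb
    have := (Subgroup.mem_center_iff.mp hz) ⟨b, hEK hb⟩
    exact congrArg Subtype.val this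
  have hAstep : ∀ j, A (j + 1) ≤ normalizer (A j : Set P) := by
    intro j
    apply sup_le ((hEA j).trans Subgroup.le_normalizer)
    rintro _ ⟨z, hz, rfl⟩
    apply mem_normalizer_of_conj_le
    intro b hb
    have hbK := hAK j hb
    have h3 := Subgroup.mem_upperCentralSeries_succ_iff.mp hz ⟨b, hbK⟩
    have h4 : (z : P) * b * (z : P)⁻¹ = ((⁅z, (⟨b, hbK⟩ : K)⁆ : K) : P) * b := by
      show (z : P) * b * (z : P)⁻¹ = ((z : P) * b * (z : P)⁻¹ * b⁻¹) * b
      group
    show (z : P) * b * (z : P)⁻¹ ∈ A j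
    rw [h4]
    refine (A j).mul_mem ?_ hb
    exact Subgroup.mem_sup_right ⟨_, h3, rfl⟩
  have hArel : ∀ j, (A j).relIndex (A (j + 1)) ≤ p := by
    intro j
    have hAt : A j ≠ ⊤ := by
      intro h4
      apply hKt
      exact top_le_iff.mp (h4 ▸ hAK j)
    have h3 := hC.nidx (A j) (hEA j) hAt
    have h4 := Subgroup.relIndex_mul_relIndex (A j) (A (j + 1)) (normalizer (A j : Set P)) (hAmono j) (hAstep j)
    rw [h3] at h4
    exact Nat.le_of_dvd hp.pos ⟨_, h4.symm⟩
  have hrel : ∀ j, E.relIndex (A (j + 1)) ≤ p ^ j := by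
    intro j
    induction j with
    | zero =>
      rw [hA1, Subgroup.relIndex_self, pow_zero]
    | succ j ih =>
      have h3 := Subgroup.relIndex_mul_relIndex E (A (j + 1)) (A (j + 1 + 1)) (hEA _) (hAmono _)
      rw [← h3, pow_succ]
      exact Nat.mul_le_mul ih (hArel _)
  set c := Group.nilpotencyClass ↥K with hc
  have hAc : A c = K := by
    apply le_antisymm (hAK c)
    have h3 : Subgroup.upperCentralSeries ↥K c = ⊤ := Subgroup.upperCentralSeries_nilpotencyClass
    show K ≤ E ⊔ (Subgroup.upperCentralSeries ↥K c).map K.subtype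
    rw [h3]
    intro x hx
    exact Subgroup.mem_sup_right ⟨⟨x, hx⟩, Subgroup.mem_top _, rfl⟩
  have hEKi : E.relIndex K = p ^ i := by
    have h3 := Subgroup.relIndex_mul_index hEK
    rw [← hi, mul_comm (K.index)] at h3
    exact Nat.eq_of_mul_eq_mul_right (Nat.pos_of_ne_zero Subgroup.index_ne_zero_of_finite) h3
  rcases hc0 : c with _ | c'
  · exfalso
    rw [hc0] at hAc
    have h3 : Subgroup.upperCentralSeries ↥K 0 = ⊥ := rfl
    have h4 : A 0 = E := by
      show E ⊔ (Subgroup.upperCentralSeries ↥K 0).map K.subtype = E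
      rw [h3, Subgroup.map_bot, sup_bot_eq]
    have h5 : K = E := by rw [← hAc, h4]
    have h6 : Subgroup.upperCentralSeries ↥K c = ⊤ := Subgroup.upperCentralSeries_nilpotencyClass
    rw [hc0, h3] at h6
    have h7 : K = ⊥ := by
      rw [eq_bot_iff]
      intro x hx
      have : (⟨x, hx⟩ : K) ∈ (⊥ : Subgroup K) := by rw [h6]; exact Subgroup.mem_top _
      have h8 : (⟨x, hx⟩ : K) = 1 := this
      exact congrArg Subtype.val h8
    exact soft_ne_bot hs h2 (h5 ▸ h7)
  · rw [hc0] at hAc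
    have h3 := hrel c'
    rw [hAc, hEKi] at h3
    have := (Nat.pow_le_pow_iff_right hp.one_lt).mp h3
    omega

end Lower

end Soft

end Cfsg.Agent.Lib.Coprime.Soft
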