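import Mathlib
import Cfsg.Agent.Lib.Struct.HallPetrescu
import Cfsg.Agent.Lib.Struct.Blackburn
import Cfsg.Agent.Lib.Transfer.MaxClass2
import Cfsg.Agent.Lib.Coprime.Soft

/-!
# `p`-th powers in `p`-groups of maximal class (after Blackburn)

In a `p`-group of maximal class, `x ∈ γ_i` with `i ≥ 2` gives `x ^ p ∈ γ_{i + p - 1}`.
-/

set_option autoImplicit false
set_option linter.unusedSectionVars false
set_option linter.style.haveILetI false

namespace Cfsg.Agent.Lib.Coprime.MaxClassPow

open Subgroup Cfsg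
open scoped commutatorElement
open Cfsg.Agent.Lib.Struct.HallPetrescu (gam gam_anti gam_normal gam_comm mul_pow_eq)
open Cfsg.Agent.Lib.Coprime.Soft (le_of_mem_not_mem cS mem_cS comm_symm_mem comm_mem_of_comm)

variable {S : Type*} [Group S]

theorem gam_comm' [Finite S] {a b : ℕ} {u v : S} (hu : u ∈ gam S a) (hv : v ∈ gam S b) :
    ⁅u, v⁆ ∈ gam S (a + b) := by
  have h := gam_comm S a b u⁻¹ v⁻¹ (inv_mem hu) (inv_mem hv)
  simpa [commutatorElement_def] using h

/-- The filtration on `H`. -/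
def Gam (H : Subgroup S) (w : ℕ) : ℕ → Subgroup H
  | 0 => ⊤
  | 1 => ⊤
  | (j + 2) => (gam S ((j + 2) * w + 1)).subgroupOf H

/-- Hall--Petrescu modulo a term of the lower central series. -/
theorem hp_mod [Finite S] {p : ℕ} (hp : p.Prime) [hnil : Group.IsNilpotent S] {H : Subgroup S} {w t : ℕ}
    (hw : 1 ≤ w) (hH : H ≤ gam S w) (hHH : ∀ x ∈ H, ∀ y ∈ H, ⁅x, y⁆ ∈ gam S (2 * w + 1))
    (hexp : ∀ g ∈ gam S (2 * w + 1), g ^ p ∈ gam S (t + 1)) (ht : t ≤ p * w) {x y : S} (hx : x ∈ H)
    (hy : y ∈ H) : ∃ τ ∈ gam S (t + 1), (x * y) ^ p = x ^ p * y ^ p * τ := by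
  have hanti : Antitone (Gam H w) := by
    intro a b hab
    rcases a with _ | _ | a
    · exact le_top
    · exact le_top
    · rcases b with _ | _ | b
      · omega
      · omega
      · intro g hg
        exact gam_anti S (Nat.add_le_add_right (Nat.mul_le_mul_right w hab) 1) hg
  have hn : ∀ j, (Gam H w j).Normal := by
    intro j
    rcases j with _ | _ | j
    · exact (inferInstance : (⊤ : Subgroup H).Normal)
    · exact (inferInstance : (⊤ : Subgroup H).Normal)
    · show ((gam S _).subgroupOf H).Normal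
      haveI := gam_normal S ((j + 2) * w + 1)
      infer_instance
  have hcomm : ∀ (a b : ℕ) (u v : H), u ∈ Gam H w a → v ∈ Gam H w b →
      u⁻¹ * v⁻¹ * u * v ∈ Gam H w (a + b) := by
    intro a b u v hu hv
    rcases a with _ | _ | a
    · rw [zero_add]
      have h1 := (hn b).conj_mem v⁻¹ (inv_mem hv) u⁻¹
      have h2 := mul_mem h1 hv
      simpa using h2
    · rcases b with _ | _ | b
      · exact Subgroup.mem_top _
      · have h1 := hHH _ (inv_mem u.2) _ (inv_mem v.2)
        have h2 : ((u⁻¹ * v⁻¹ * u * v : H) : S) ∈ gam S (2 * w + 1) := by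
          convert h1 using 1
          simp [commutatorElement_def]
        exact h2
      · have h1 : (v : S) ∈ gam S ((b + 2) * w + 1) := hv
        have h2 := gam_comm' (inv_mem (hH u.2)) (inv_mem h1)
        have h3 : ((u⁻¹ * v⁻¹ * u * v : H) : S) ∈ gam S (w + ((b + 2) * w + 1)) := by
          convert h2 using 1
          simp [commutatorElement_def]
        have h4 : w + ((b + 2) * w + 1) = (b + 1 + 2) * w + 1 := by ring
        rw [h4] at h3
        have h5 : 0 + 1 + (b + 1 + 1) = (b + 1) + 2 := by omega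
        rw [h5]
        exact h3
    · rcases b with _ | _ | b
      · have h1 : (u : S) ∈ gam S ((a + 2) * w + 1) := hu
        have h2 := (gam_normal S ((a + 2) * w + 1)).conj_mem u h1 (v⁻¹ : S)
        show ((u⁻¹ * v⁻¹ * u * v : H) : S) ∈ gam S ((a + 2) * w + 1)
        have h3 := mul_mem (inv_mem h1) h2
        convert h3 using 1
        simp [mul_assoc]
      · have h1 : (u : S) ∈ gam S ((a + 2) * w + 1) := hu
        have h2 := gam_comm' (inv_mem h1) (inv_mem (hH v.2))
        have h3 : ((u⁻¹ * v⁻¹ * u * v : H) : S) ∈ gam S ((a + 2) * w + 1 + w) := by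
          convert h2 using 1
          simp [commutatorElement_def]
        have h4 : (a + 2) * w + 1 + w = (a + 1 + 2) * w + 1 := by ring
        rw [h4] at h3
        have h5 : a + 1 + 1 + (0 + 1) = (a + 1) + 2 := by omega
        rw [h5]
        exact h3
      · have h1 : (u : S) ∈ gam S ((a + 2) * w + 1) := hu
        have h1' : (v : S) ∈ gam S ((b + 2) * w + 1) := hv
        have h2 := gam_comm' (inv_mem h1) (inv_mem h1')
        have h3 : ((u⁻¹ * v⁻¹ * u * v : H) : S) ∈ gam S ((a + 2) * w + 1 + ((b + 2) * w + 1)) := by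
          convert h2 using 1
          simp [commutatorElement_def]
        have h5 : a + 1 + 1 + (b + 1 + 1) = (a + b + 2) + 2 := by omega
        rw [h5]
        refine gam_anti S ?_ h3
        have h6 : (a + b + 2 + 2) * w + 1 = (a + 2) * w + (b + 2) * w + 1 := by ring
        omega
  -- vanishing
  have hc₀ : (⊤ : Subgroup S).lowerCentralSeries (Group.nilpotencyClass S) = ⊥ :=
    Subgroup.lowerCentralSeries_nilpotencyClass
  set c₀ := Group.nilpotencyClass S with hc₀def
  have hc : Gam H w (c₀ + 2) = ⊥ := by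
    show (gam S ((c₀ + 2) * w + 1)).subgroupOf H = ⊥
    have h1 : gam S (c₀ + 1) = ⊥ := hc₀
    have h2 : gam S ((c₀ + 2) * w + 1) ≤ gam S (c₀ + 1) := gam_anti S (by nlinarith)
    rw [h1] at h2
    rw [le_bot_iff.mp h2]
    exact Subgroup.bot_subgroupOf H
  have hcp : ∀ i, i < p → 2 ≤ i → ∃ e, p.choose i = p * e := by
    intro i hip hi
    exact hp.dvd_choose_self (by omega) hip
  have hK : ∀ i, 2 ≤ i → ∀ g ∈ Gam H w i, g ^ p.choose i ∈ (gam S (t + 1)).subgroupOf H := by
    intro i hi g hg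
    rcases i with _ | _ | i
    · omega
    · omega
    have hg' : (g : S) ∈ gam S ((i + 2) * w + 1) := hg
    by_cases hip : i + 2 < p
    · obtain ⟨e, he⟩ := hcp (i + 2) hip hi
      rw [he, pow_mul]
      apply pow_mem
      show ((g : S)) ^ p ∈ gam S (t + 1)
      apply hexp
      refine gam_anti S ?_ hg'
      have : (i + 2) * w = i * w + 2 * w := by ring
      omega
    · by_cases hip2 : i + 2 = p
      · rw [hip2, Nat.choose_self, pow_one]
        show (g : S) ∈ gam S (t + 1)
        refine gam_anti S ?_ hg'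
        rw [hip2]
        omega
      · rw [Nat.choose_eq_zero_of_lt (by omega), pow_zero]
        exact one_mem _
  obtain ⟨τ, hτ, he⟩ := mul_pow_eq hanti hcomm rfl hc ((gam S (t + 1)).subgroupOf H) p hK
    (⟨x, hx⟩ : H) ⟨y, hy⟩
  refine ⟨τ, hτ, ?_⟩
  have := congrArg Subtype.val he
  simpa using this

/-- A group which is the join of a cyclic group and a subgroup commuting with it modulo `N`. -/
theorem comm_of_sup (N : Subgroup S) [N.Normal] (U : Subgroup S) (x₀ : S)
    (hU : ∀ u ∈ U, ∀ h ∈ zpowers x₀ ⊔ U, ⁅u, h⁆ ∈ N) {x y : S} (hx : x ∈ zpowers x₀ ⊔ U)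
    (hy : y ∈ zpowers x₀ ⊔ U) : ⁅x, y⁆ ∈ N := by
  have hx₀ : x₀ ∈ zpowers x₀ ⊔ U := Subgroup.mem_sup_left (Subgroup.mem_zpowers x₀)
  have h1 : zpowers x₀ ⊔ U ≤ cS N x₀ := by
    apply sup_le
    · rw [Subgroup.zpowers_le]
      exact mem_cS.mpr (comm_mem_of_comm rfl)
    · intro u hu
      exact mem_cS.mpr (hU u hu x₀ hx₀)
  have h2 : zpowers x₀ ⊔ U ≤ cS N y := by
    apply sup_le
    · rw [Subgroup.zpowers_le]
      exact mem_cS.mpr (comm_symm_mem (mem_cS.mp (h1 hy)))
    · intro u hu
      exact mem_cS.mpr (hU u hu y hy)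
  exact mem_cS.mp (h2 hx)

section MC

variable [Finite S] {p n : ℕ} [hpf : Fact p.Prime]

/-- Cardinalities of the lower central series of a `p`-group of maximal class. -/
theorem card_gam (hcard : Nat.card S = p ^ n) (hmax : Group.nilpotencyClass S = n - 1) (hn : 3 ≤ n) :
    ∀ i, 2 ≤ i → i ≤ n → Nat.card (gam S i) = p ^ (n - i) := by
  have hP : IsPGroup p S := IsPGroup.of_card hcard
  haveI hnil : Group.IsNilpotent S := hP.isNilpotent
  have hp : p.Prime := hpf.out
  have hstep : ∀ j, j < n - 1 → p * Nat.card ((⊤ : Subgroup S).lowerCentralSeries (j + 1)) ≤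
      Nat.card ((⊤ : Subgroup S).lowerCentralSeries j) := fun j hj =>
    Cfsg.Agent.Lib.Transfer.mul_card_le_of_lt hP (Cfsg.Agent.Lib.Transfer.lcs_lt_of_lt_class (hmax ▸ hj))
  have hlow : ∀ d, d ≤ n - 1 → p ^ d ≤ Nat.card ((⊤ : Subgroup S).lowerCentralSeries (n - 1 - d)) := by
    intro d
    induction d with
    | zero =>
      intro _
      rw [pow_zero]
      exact Nat.card_pos
    | succ d ih =>
      intro hd
      have h1 := ih (by omega)
      have h2 := hstep (n - 1 - (d + 1)) (by omega)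
      have h3 : n - 1 - (d + 1) + 1 = n - 1 - d := by omega
      rw [h3] at h2
      rw [pow_succ']
      exact (Nat.mul_le_mul_left p h1).trans h2
  have hidx : p ^ 2 ≤ (commutator S).index := by
    obtain ⟨k, hk⟩ := IsPGroup.iff_card.mp hP
    have h1 : (commutator S).index ∣ p ^ k := hk ▸ (commutator S).index_dvd_card
    obtain ⟨j, -, hj⟩ := (Nat.dvd_prime_pow hp).mp h1
    have h2 := Cfsg.Agent.Lib.Transfer.not_isCyclic_abelianization hP (p := p) (by rw [hmax]; omega)
    have hcardq : Nat.card (S ⧸ commutator S) = p ^ j := hj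
    rw [hj]
    apply Nat.pow_le_pow_right hp.pos
    by_contra hlt
    apply h2
    have hj' : j = 0 ∨ j = 1 := by omega
    rcases hj' with rfl | rfl
    · rw [pow_zero] at hcardq
      haveI : Subsingleton (S ⧸ commutator S) := (Nat.card_eq_one_iff_unique.mp hcardq).1
      exact isCyclic_of_subsingleton
    · rw [pow_one] at hcardq
      exact isCyclic_of_prime_card hcardq
  have hc1 : Nat.card (commutator S) * p ^ 2 ≤ p ^ n := by
    have h1 := (commutator S).card_mul_index
    rw [hcard] at h1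
    rw [← h1]
    exact Nat.mul_le_mul_left _ hidx
  have hup : ∀ j, j ≤ n - 2 → Nat.card ((⊤ : Subgroup S).lowerCentralSeries (j + 1)) * p ^ j ≤ p ^ (n - 2) := by
    intro j
    induction j with
    | zero =>
      intro _
      rw [pow_zero, mul_one]
      have h1 : (⊤ : Subgroup S).lowerCentralSeries 1 = commutator S := Subgroup.top_lowerCentralSeries_one
      rw [h1]
      have h2 : p ^ n = p ^ (n - 2) * p ^ 2 := by
        rw [← pow_add]
        congr 1
        omega
      rw [h2] at hc1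
      exact Nat.le_of_mul_le_mul_right hc1 (pow_pos hp.pos 2)
    | succ j ih =>
      intro hj
      have h1 := ih (by omega)
      have h2 := hstep (j + 1) (by omega)
      refine le_trans ?_ h1
      rw [pow_succ, ← mul_assoc]
      calc Nat.card ((⊤ : Subgroup S).lowerCentralSeries (j + 1 + 1)) * p ^ j * p
          = (p * Nat.card ((⊤ : Subgroup S).lowerCentralSeries (j + 1 + 1))) * p ^ j := by ring
        _ ≤ _ := Nat.mul_le_mul_right _ h2
  intro i hi hin
  obtain ⟨j, rfl⟩ : ∃ j, i = j + 2 := ⟨i - 2, by omega⟩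
  have h1 := hlow (n - 1 - (j + 1)) (by omega)
  have h2 := hup j (by omega)
  have h3 : n - 1 - (n - 1 - (j + 1)) = j + 1 := by omega
  rw [h3] at h1
  have h4 : n - 1 - (j + 1) = n - (j + 2) := by omega
  rw [h4] at h1
  show Nat.card ((⊤ : Subgroup S).lowerCentralSeries (j + 1)) = p ^ (n - (j + 2))
  apply le_antisymm _ h1
  have h5 : p ^ (n - 2) = p ^ (n - (j + 2)) * p ^ j := by
    rw [← pow_add]
    congr 1
    omega
  rw [h5] at h2
  exact Nat.le_of_mul_le_mul_right h2 (pow_pos hp.pos j)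

/-- The data of a `p`-group of maximal class. -/
structure MC (p n : ℕ) (S : Type*) [Group S] : Prop where
  three : 3 ≤ n
  top : Nat.card S = p ^ n
  card : ∀ i, 2 ≤ i → i ≤ n → Nat.card (gam S i) = p ^ (n - i)

theorem MC.pg (h : MC p n S) : IsPGroup p S := IsPGroup.of_card h.top

theorem MC.eq_bot (h : MC p n S) {i : ℕ} (hi : n ≤ i) : gam S i = ⊥ := by
  have h1 := h.card n (by have := h.three; omega) le_rfl
  rw [Nat.sub_self, pow_zero] at h1
  have h2 : gam S n = ⊥ := Subgroup.eq_bot_of_card_eq _ h1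
  exact le_bot_iff.mp (h2 ▸ gam_anti S hi)

theorem MC.relIndex (h : MC p n S) {i : ℕ} (h2 : 2 ≤ i) (hi : i < n) :
    (gam S (i + 1)).relIndex (gam S i) = p := by
  have hp : p.Prime := hpf.out
  have h1 := Subgroup.relIndex_mul_index (gam_anti S (Nat.le_succ i))
  have h3 := (gam S (i + 1)).card_mul_index
  have h4 := (gam S i).card_mul_index
  rw [h.card _ (by omega) (by omega)] at h3 h4
  rw [h.top] at h3 h4
  rw [← h1] at h3
  have h5 : n - i = (n - (i + 1)) + 1 := by omega
  rw [h5, pow_succ] at h4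
  have h6 : 0 < (gam S i).index := Nat.pos_of_ne_zero Subgroup.index_ne_zero_of_finite
  have h7 : p ^ (n - (i + 1)) * ((gam S (i + 1)).relIndex (gam S i) * (gam S i).index) =
      (p ^ (n - (i + 1)) * p) * (gam S i).index := by rw [h3, h4]
  rw [mul_assoc (p ^ (n - (i + 1))) p] at h7
  have h8 := Nat.eq_of_mul_eq_mul_left (pow_pos hp.pos _) h7
  exact Nat.eq_of_mul_eq_mul_right h6 h8

theorem MC.exists_not_mem (h : MC p n S) {i : ℕ} (h2 : 2 ≤ i) (hi : i < n) :
    ∃ x ∈ gam S i, x ∉ gam S (i + 1) := by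
  by_contra hcon
  push Not at hcon
  have h1 := h.relIndex h2 hi
  rw [Subgroup.relIndex_eq_one.mpr hcon] at h1
  exact hpf.out.one_lt.ne h1

theorem MC.le_sup (h : MC p n S) {i : ℕ} (h2 : 2 ≤ i) (hi : i < n) {x : S} (hx : x ∈ gam S i)
    (hx' : x ∉ gam S (i + 1)) : gam S i ≤ zpowers x ⊔ gam S (i + 1) :=
  le_of_mem_not_mem hpf.out (gam_anti S (Nat.le_succ i)) (h.relIndex h2 hi) le_sup_right hx
    (Subgroup.mem_sup_left (Subgroup.mem_zpowers x)) hx'

theorem MC.comm_self (h : MC p n S) {i : ℕ} (h2 : 2 ≤ i) {x y : S} (hx : x ∈ gam S i) (hy : y ∈ gam S i) :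
    ⁅x, y⁆ ∈ gam S (2 * i + 1) := by
  by_cases hi : i < n
  · obtain ⟨x₁, hx₁, hx₁'⟩ := h.exists_not_mem h2 hi
    have hle := h.le_sup h2 hi hx₁ hx₁'
    haveI := gam_normal S (2 * i + 1)
    refine comm_of_sup (gam S (2 * i + 1)) (gam S (i + 1)) x₁ ?_ (hle hx) (hle hy)
    intro u hu t ht
    have ht' : t ∈ gam S i := by
      refine sup_le ?_ (gam_anti S (Nat.le_succ i)) ht
      rwa [Subgroup.zpowers_le]
    have h3 := gam_comm' hu ht'
    have h4 : i + 1 + i = 2 * i + 1 := by ring
    rwa [h4] at h3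
  · have h1 := h.eq_bot (i := i) (by omega)
    rw [h1, Subgroup.mem_bot] at hx
    rw [hx, commutatorElement_one_left]
    exact one_mem _

theorem gam_succ_of_pos {w : ℕ} (hw : 1 ≤ w) : gam S (w + 1) = ⁅gam S w, (⊤ : Subgroup S)⁆ := by
  obtain ⟨w', rfl⟩ : ∃ w', w = w' + 1 := ⟨w - 1, by omega⟩
  rfl

theorem MC.exists_comm (h : MC p n S) {w : ℕ} (hw : 1 ≤ w) (hi : w + 1 < n) :
    ∃ x' ∈ gam S w, ∃ b : S, ⁅x', b⁆ ∉ gam S (w + 2) := by
  by_contra hcon
  push Not at hcon
  obtain ⟨x, hx, hx'⟩ := h.exists_not_mem (i := w + 1) (by omega) hi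
  apply hx'
  rw [gam_succ_of_pos hw] at hx
  have h1 : ⁅gam S w, (⊤ : Subgroup S)⁆ ≤ gam S (w + 2) := by
    rw [Subgroup.commutator_le]
    intro u hu v _
    exact hcon u hu v
  exact h1 hx

theorem comm_top_mem {t : ℕ} {u : S} (hu : u ∈ gam S t) (v : S) : ⁅u, v⁆ ∈ gam S (t + 1) := by
  have h1 : v ∈ gam S 1 := Subgroup.mem_top v
  exact gam_comm' hu h1

theorem MC.index_two (h : MC p n S) : (gam S 2).index = p ^ 2 := by
  have hp : p.Prime := hpf.out
  have h3 := h.three
  have h1 := (gam S 2).card_mul_index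
  rw [h.card 2 le_rfl (by omega), h.top] at h1
  have h2 : p ^ n = p ^ (n - 2) * p ^ 2 := by
    rw [← pow_add]
    congr 1
    omega
  rw [h2] at h1
  exact Nat.eq_of_mul_eq_mul_left (pow_pos hp.pos _) h1

theorem MC.pow_mem_two (h : MC p n S) (a : S) : a ^ p ∈ gam S 2 := by
  have hp : p.Prime := hpf.out
  have hP := h.pg
  have h3 := h.three
  have hg2 : gam S 2 = commutator S := Subgroup.top_lowerCentralSeries_one
  have hcardq : Nat.card (S ⧸ commutator S) = p ^ 2 := by
    have := h.index_two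
    rwa [hg2] at this
  have hncyc : ¬ IsCyclic (S ⧸ commutator S) := by
    intro hcyc
    have hcomm := Cfsg.Agent.Lib.Transfer.comm_of_isCyclic_quotient_commutator hP hcyc
    have h4 : commutator S = ⊥ := by
      rw [_root_.commutator_def, Subgroup.commutator_eq_bot_iff_le_centralizer]
      intro x _
      rw [Subgroup.mem_centralizer_iff]
      intro y _
      exact hcomm y x
    have h5 := h.card 2 le_rfl (by omega)
    rw [hg2, h4, Subgroup.card_bot] at h5
    have h6 : 1 < p ^ (n - 2) := Nat.one_lt_pow (by omega) hp.one_lt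
    omega
  have h1 : orderOf (QuotientGroup.mk' (commutator S) a) ∣ p ^ 2 := by
    rw [← hcardq]
    exact orderOf_dvd_natCard _
  obtain ⟨j, hj2, hj⟩ := (Nat.dvd_prime_pow hp).mp h1
  have hj3 : j ≠ 2 := by
    rintro rfl
    apply hncyc
    exact isCyclic_of_orderOf_eq_card _ (by rw [hj, hcardq])
  have h2 : (QuotientGroup.mk' (commutator S) a) ^ p = 1 := by
    rw [← orderOf_dvd_iff_pow_eq_one, hj]
    exact pow_dvd_pow _ (by omega : j ≤ 1) |>.trans (by rw [pow_one])
  rw [← map_pow] at h2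
  rw [hg2]
  exact (QuotientGroup.eq_one_iff _).mp h2

theorem exists_not_mem_family {L : Finset ℕ} (T : ℕ → Subgroup S) (hL : L.card < p) (hT : ∀ l ∈ L, T l ≠ ⊤)
    (hP : IsPGroup p S) : ∃ a : S, ∀ l ∈ L, a ∉ T l := by
  classical
  have hp : p.Prime := hpf.out
  haveI := Fintype.ofFinite S
  by_contra hcon
  push Not at hcon
  let f : ℕ → Finset S := fun l => Finset.univ.filter (· ∈ T l)
  have h1 : (Finset.univ : Finset S) ⊆ L.biUnion f := by
    intro a _
    obtain ⟨l, hl, hal⟩ := hcon a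
    exact Finset.mem_biUnion.mpr ⟨l, hl, Finset.mem_filter.mpr ⟨Finset.mem_univ _, hal⟩⟩
  have h2 := (Finset.card_le_card h1).trans Finset.card_biUnion_le
  have hfc : ∀ l ∈ L, (f l).card * p ≤ Nat.card S := by
    intro l hl
    have h3 : (f l).card = Nat.card (T l) := by
      rw [Nat.card_eq_fintype_card, Fintype.card_subtype]
    rw [h3]
    have h4 := (T l).card_mul_index
    rw [← h4]
    apply Nat.mul_le_mul_left
    obtain ⟨k, hk⟩ := IsPGroup.iff_card.mp hP
    have h5 : (T l).index ∣ p ^ k := hk ▸ (T l).index_dvd_card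
    obtain ⟨j, -, hj⟩ := (Nat.dvd_prime_pow hp).mp h5
    rw [hj]
    have hj0 : j ≠ 0 := by
      rintro rfl
      rw [pow_zero, Subgroup.index_eq_one] at hj
      exact hT l hl hj
    calc p = p ^ 1 := (pow_one p).symm
      _ ≤ p ^ j := Nat.pow_le_pow_right hp.pos (by omega)
  have h3 : (∑ l ∈ L, (f l).card) * p ≤ L.card * Nat.card S := by
    rw [Finset.sum_mul]
    calc ∑ l ∈ L, (f l).card * p ≤ ∑ _l ∈ L, Nat.card S := Finset.sum_le_sum hfc
      _ = L.card * Nat.card S := by simp
  rw [Finset.card_univ, ← Nat.card_eq_fintype_card] at h2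
  have h4 : Nat.card S * p ≤ L.card * Nat.card S := (Nat.mul_le_mul_right p h2).trans h3
  have h5 : 0 < Nat.card S := Nat.card_pos
  nlinarith

/-- The elements centralizing `γ_l / γ_{l + 2}`. -/
def Sl (S : Type*) [Group S] (l : ℕ) : Subgroup S :=
  Subgroup.comap (QuotientGroup.mk' (gam S (l + 2)))
    (centralizer (((gam S l).map (QuotientGroup.mk' (gam S (l + 2))) : Subgroup _) : Set (S ⧸ gam S (l + 2))))

theorem mem_Sl {l : ℕ} {a : S} : a ∈ Sl S l ↔ gam S l ≤ cS (gam S (l + 2)) a := by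
  constructor
  · intro h y hy
    have h1 := Subgroup.mem_centralizer_iff.mp h _ (⟨y, hy, rfl⟩ :
      QuotientGroup.mk' (gam S (l + 2)) y ∈ (gam S l).map (QuotientGroup.mk' (gam S (l + 2))))
    exact mem_cS.mpr ((Cfsg.Agent.Lib.Coprime.Soft.mk_comm_iff _).mp h1)
  · intro h
    show _ ∈ centralizer _
    rw [Subgroup.mem_centralizer_iff]
    rintro _ ⟨y, hy, rfl⟩
    exact (Cfsg.Agent.Lib.Coprime.Soft.mk_comm_iff _).mpr (mem_cS.mp (h hy))

theorem MC.Sl_ne_top (h : MC p n S) {l : ℕ} (hl : 2 ≤ l) (hn : l + 2 ≤ n) : Sl S l ≠ ⊤ := by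
  intro htop
  obtain ⟨x, hx, hx'⟩ := h.exists_not_mem (i := l + 1) (by omega) (by omega)
  apply hx'
  rw [gam_succ_of_pos (by omega)] at hx
  have h1 : ⁅gam S l, (⊤ : Subgroup S)⁆ ≤ gam S (l + 1 + 1) := by
    rw [Subgroup.commutator_le]
    intro u hu v _
    have h2 : v ∈ Sl S l := by rw [htop]; exact Subgroup.mem_top v
    exact mem_cS.mp (mem_Sl.mp h2 hu)
  exact h1 hx

theorem MC.gam_two_ne_top (h : MC p n S) : gam S 2 ≠ ⊤ := by
  intro htop
  have h1 := h.index_two
  rw [htop, Subgroup.index_top] at h1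
  have := hpf.out.one_lt
  nlinarith

theorem MC.exists_a (h : MC p n S) (hp3 : 3 ≤ p) :
    ∃ a : S, a ∉ gam S 2 ∧ ∀ l, 2 ≤ l → l + 1 ≤ p → l + 2 ≤ n → ¬ (gam S l ≤ cS (gam S (l + 2)) a) := by
  classical
  let L : Finset ℕ := insert 0 ((Finset.Icc 2 (p - 1)).filter (fun l => l + 2 ≤ n))
  let T : ℕ → Subgroup S := fun l => if l = 0 then gam S 2 else Sl S l
  have hL : L.card < p := by
    have h1 : L.card ≤ ((Finset.Icc 2 (p - 1)).filter (fun l => l + 2 ≤ n)).card + 1 := Finset.card_insert_le _ _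
    have h2 := Finset.card_filter_le (Finset.Icc 2 (p - 1)) (fun l => l + 2 ≤ n)
    rw [Nat.card_Icc] at h2
    omega
  have hT : ∀ l ∈ L, T l ≠ ⊤ := by
    intro l hl
    rcases Finset.mem_insert.mp hl with rfl | hl2
    · simpa [T] using h.gam_two_ne_top
    · have hl3 := Finset.mem_filter.mp hl2
      have hl4 := Finset.mem_Icc.mp hl3.1
      have hl0 : l ≠ 0 := by omega
      simp only [T, if_neg hl0]
      exact h.Sl_ne_top hl4.1 hl3.2
  obtain ⟨a, ha⟩ := exists_not_mem_family T hL hT h.pg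
  refine ⟨a, ?_, ?_⟩
  · have := ha 0 (Finset.mem_insert_self _ _)
    simpa [T] using this
  · intro l hl hlp hln hle
    have hmem : l ∈ L := Finset.mem_insert_of_mem (Finset.mem_filter.mpr ⟨Finset.mem_Icc.mpr ⟨hl, by omega⟩, hln⟩)
    have := ha l hmem
    have hl0 : l ≠ 0 := by omega
    simp only [T, if_neg hl0] at this
    exact this (mem_Sl.mpr hle)

theorem MC.pow_a (h : MC p n S) {a : S}
    (ha : ∀ l, 2 ≤ l → l + 1 ≤ p → l + 2 ≤ n → ¬ (gam S l ≤ cS (gam S (l + 2)) a)) :
    ∀ t, 2 ≤ t → t ≤ p → t + 1 ≤ n → a ^ p ∈ gam S t := by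
  intro t ht
  induction t, ht using Nat.le_induction with
  | base =>
    intro _ _
    exact h.pow_mem_two a
  | succ l hl ih =>
    intro hlp hln
    have h1 := ih (by omega) (by omega)
    by_contra hnot
    apply ha l hl hlp (by omega)
    refine le_of_mem_not_mem hpf.out (gam_anti S (Nat.le_succ l)) (h.relIndex hl (by omega)) ?_ h1 ?_ hnot
    · intro y hy
      exact mem_cS.mpr (comm_top_mem hy a)
    · exact mem_cS.mpr (comm_mem_of_comm (by
        rw [← pow_succ', pow_succ]))

theorem MC.exists_b (h : MC p n S) {a : S} (ha : a ∉ gam S 2) : ∃ b : S, ⁅a, b⁆ ∉ gam S 3 := by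
  have hp : p.Prime := hpf.out
  have h3 := h.three
  by_contra hcon
  push Not at hcon
  obtain ⟨x, hx, hx'⟩ := h.exists_not_mem (i := 2) le_rfl (by omega)
  have hall : ∀ x y : S, x ∈ (⊤ : Subgroup S) → y ∈ (⊤ : Subgroup S) → ⁅x, y⁆ ∈ gam S 3 → ⁅x, y⁆ ∈ gam S 3 := fun _ _ _ _ h => h
  -- `U`
  set U := zpowers a ⊔ gam S 2 with hU
  have hUle : ∀ t : S, U ≤ cS (gam S 3) t := by
    intro t
    apply sup_le
    · rw [Subgroup.zpowers_le]
      exact mem_cS.mpr (hcon t)
    · intro u hu
      exact mem_cS.mpr (comm_top_mem hu t)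
  have hfin : ∀ H : Subgroup S, (zpowers (1 : S) ⊔ H = H) := by
    intro H
    simp
  have hcontr : ∀ b : S, zpowers b ⊔ U = ⊤ → False := by
    intro b hb
    apply hx'
    have h1 : commutator S ≤ gam S 3 := by
      rw [_root_.commutator_def, Subgroup.commutator_le]
      intro u _ v _
      refine comm_of_sup (gam S 3) U b ?_ (by rw [hb]; exact Subgroup.mem_top u) (by rw [hb]; exact Subgroup.mem_top v)
      intro u hu t _
      exact mem_cS.mp (hUle t hu)
    have hg2 : gam S 2 = commutator S := Subgroup.top_lowerCentralSeries_one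
    rw [hg2] at hx
    exact h1 hx
  have hUne : U ≠ ⊤ := by
    intro hUt
    apply hcontr 1
    rw [hUt]
    simp
  obtain ⟨b, hb⟩ : ∃ b, b ∉ U := by
    by_contra hno
    push Not at hno
    exact hUne (eq_top_iff.mpr fun b _ => hno b)
  apply hcontr b
  -- index computation
  have h2U : gam S 2 ≤ U := le_sup_right
  have haU : a ∈ U := Subgroup.mem_sup_left (Subgroup.mem_zpowers a)
  have h1 := Subgroup.relIndex_mul_index h2U
  rw [h.index_two] at h1
  have hdvd : U.index ∣ p ^ 2 := ⟨_, by rw [← h1, mul_comm]⟩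
  obtain ⟨j, hj2, hj⟩ := (Nat.dvd_prime_pow hp).mp hdvd
  have hj0 : j ≠ 0 := by
    rintro rfl
    rw [pow_zero, Subgroup.index_eq_one] at hj
    exact hUne hj
  have hj1 : j ≠ 2 := by
    rintro rfl
    rw [hj] at h1
    have h5 : (gam S 2).relIndex U = 1 := by
      have h6 : 0 < p ^ 2 := pow_pos hp.pos 2
      exact Nat.eq_of_mul_eq_mul_right h6 (by rw [h1, one_mul])
    exact ha (Subgroup.relIndex_eq_one.mp h5 haU)
  have hj' : j = 1 := by omega
  rw [hj', pow_one] at hj
  apply top_le_iff.mp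
  refine le_of_mem_not_mem hp le_top (by rw [Subgroup.relIndex_top_right]; exact hj) le_sup_right
    (Subgroup.mem_top b) (Subgroup.mem_sup_left (Subgroup.mem_zpowers b)) hb

/-- **Blackburn**: `γ_i ^ p ≤ γ_{i + p - 1}` for `i ≥ 2`. -/
theorem MC.pow_mem (h : MC p n S) (hp3 : 3 ≤ p) :
    ∀ t i, 2 ≤ i → t + 1 ≤ i + p → ∀ x ∈ gam S i, x ^ p ∈ gam S t := by
  have hp : p.Prime := hpf.out
  have hP := h.pg
  haveI hnil : Group.IsNilpotent S := hP.isNilpotent
  obtain ⟨a, ha2, ha⟩ := h.exists_a hp3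
  intro t
  induction t with
  | zero =>
    intro i _ _ x _
    exact Subgroup.mem_top _
  | succ t ih =>
    intro i hi hti x hx
    by_cases htn : n ≤ t
    · have h1 := ih i hi (by omega) x hx
      rw [h.eq_bot htn, Subgroup.mem_bot] at h1
      rw [h1]
      exact one_mem _
    have key : ∀ d i, t + 1 ≤ i + d → 2 ≤ i → t + 2 ≤ i + p → ∀ x ∈ gam S i, x ^ p ∈ gam S (t + 1) := by
      intro d
      induction d with
      | zero =>
        intro i hid _ _ x hx
        exact _root_.pow_mem (gam_anti S (by omega) hx) p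
      | succ d ihd =>
        intro i hid hi2 hip x hx
        by_cases hit : t + 1 ≤ i
        · exact _root_.pow_mem (gam_anti S hit hx) p
        have hexp : ∀ g ∈ gam S (i + 1), g ^ p ∈ gam S (t + 1) :=
          ihd (i + 1) (by omega) (by omega) (by omega)
        have hin : i < n := by omega
        obtain ⟨w, rfl⟩ : ∃ w, i = w + 1 := ⟨i - 1, by omega⟩
        have hw : 1 ≤ w := by omega
        obtain ⟨x', hx', b, hb, hx'p⟩ : ∃ x' ∈ gam S w, ∃ b, ⁅x', b⁆ ∉ gam S (w + 2) ∧ x' ^ p ∈ gam S t := by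
          by_cases hw1 : w = 1
          · subst hw1
            obtain ⟨b, hb⟩ := h.exists_b ha2
            refine ⟨a, Subgroup.mem_top a, b, hb, ?_⟩
            exact h.pow_a ha t (by omega) (by omega) (by omega)
          · obtain ⟨x', hx', b, hb⟩ := h.exists_comm hw hin
            exact ⟨x', hx', b, hb, ih w (by omega) (by omega) x' hx'⟩
        set x₀ := ⁅x', b⁆ with hx₀def
        have hx₀ : x₀ ∈ gam S (w + 1) := comm_top_mem hx' b
        have ht1 : t ≤ p * w := by
          obtain ⟨w', rfl⟩ : ∃ w', w = w' + 1 := ⟨w - 1, by omega⟩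
          obtain ⟨p', hp'⟩ : ∃ p', p = p' + 1 := ⟨p - 1, by omega⟩
          rw [hp'] at hip ⊢
          nlinarith
        -- step 1
        have hx₀p : x₀ ^ p ∈ gam S (t + 1) := by
          set H₁ := zpowers x' ⊔ gam S (w + 1) with hH₁
          have hH : H₁ ≤ gam S w :=
            sup_le (by rwa [Subgroup.zpowers_le]) (gam_anti S (Nat.le_succ w))
          have hHH : ∀ u ∈ H₁, ∀ v ∈ H₁, ⁅u, v⁆ ∈ gam S (2 * w + 1) := by
            intro u hu v hv
            haveI := gam_normal S (2 * w + 1)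
            refine comm_of_sup (gam S (2 * w + 1)) (gam S (w + 1)) x' ?_ hu hv
            intro e he f hf
            have h3 := gam_comm' he (hH hf)
            have h4 : w + 1 + w = 2 * w + 1 := by ring
            rwa [h4] at h3
          have hexp1 : ∀ g ∈ gam S (2 * w + 1), g ^ p ∈ gam S (t + 1) := fun g hg =>
            hexp g (gam_anti S (by omega) hg)
          have hx'H : x' ∈ H₁ := Subgroup.mem_sup_left (Subgroup.mem_zpowers x')
          have hx₀H : x₀ ∈ H₁ := Subgroup.mem_sup_right hx₀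
          have hyH : b * x'⁻¹ * b⁻¹ ∈ H₁ := by
            have e : b * x'⁻¹ * b⁻¹ = x'⁻¹ * x₀ := by
              rw [hx₀def, commutatorElement_def]
              group
            rw [e]
            exact H₁.mul_mem (H₁.inv_mem hx'H) hx₀H
          obtain ⟨τ, hτ, he⟩ := hp_mod hp hw hH hHH hexp1 ht1 hx'H hyH
          have e2 : x' * (b * x'⁻¹ * b⁻¹) = x₀ := by
            rw [hx₀def, commutatorElement_def]
            group
          rw [e2, conj_pow, inv_pow] at he
          rw [he]
          refine mul_mem ?_ hτ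
          have e3 : x' ^ p * (b * (x' ^ p)⁻¹ * b⁻¹) = ⁅x' ^ p, b⁆ := by
            rw [commutatorElement_def]
            group
          rw [e3]
          exact comm_top_mem hx'p b
        -- step 2
        have hself : ∀ u ∈ gam S (w + 1), ∀ v ∈ gam S (w + 1), ∃ τ ∈ gam S (t + 1), (u * v) ^ p = u ^ p * v ^ p * τ := by
          intro u hu v hv
          refine hp_mod hp (by omega) le_rfl (fun x hx y hy => h.comm_self (by omega) hx hy) ?_ ?_ hu hv
          · intro g hg
            exact hexp g (gam_anti S (by omega) hg)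
          · nlinarith
        let B : Subgroup S :=
          { carrier := {u | u ∈ gam S (w + 1) ∧ u ^ p ∈ gam S (t + 1)}
            mul_mem' := by
              rintro u v ⟨hu, hu'⟩ ⟨hv, hv'⟩
              refine ⟨mul_mem hu hv, ?_⟩
              obtain ⟨τ, hτ, he⟩ := hself u hu v hv
              rw [he]
              exact mul_mem (mul_mem hu' hv') hτ
            one_mem' := ⟨one_mem _, by rw [one_pow]; exact one_mem _⟩
            inv_mem' := by
              rintro u ⟨hu, hu'⟩
              refine ⟨inv_mem hu, ?_⟩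
              rw [inv_pow]
              exact inv_mem hu' }
        have hle := h.le_sup (i := w + 1) (by omega) hin hx₀ hb
        have hBle : zpowers x₀ ⊔ gam S (w + 1 + 1) ≤ B := by
          apply sup_le
          · rw [Subgroup.zpowers_le]
            exact ⟨hx₀, hx₀p⟩
          · intro g hg
            exact ⟨gam_anti S (Nat.le_succ _) hg, hexp g hg⟩
        exact (hBle (hle hx)).2
    exact key (t + 1) i (by omega) hi (by omega) x hx

end MC

/-- **Sectional rank bound** for `p`-groups of maximal class. -/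
theorem card_le_of_sectional {p : ℕ} [hpf : Fact p.Prime] (n : ℕ) (hn : 2 ≤ n) [Finite S] (hcard : Nat.card S = p ^ n)
    (hmax : Group.nilpotencyClass S = n - 1) (k : ℕ) (hk : 1 ≤ k) (hsr : SectionalPRankLE p k S)
    (hpk : k + 2 ≤ p) : Nat.card S ≤ p ^ (2 * k) := by
  have hp : p.Prime := hpf.out
  rw [hcard]
  by_contra hcon
  have hnk : 2 * k + 1 ≤ n := by
    by_contra hlt
    apply hcon
    exact Nat.pow_le_pow_right hp.pos (by omega)
  have h : MC p n S := ⟨by omega, hcard, card_gam hcard hmax (by omega)⟩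
  rcases Nat.lt_or_ge k 2 with hk1 | hk2
  · -- `k = 1`
    have hk' : k = 1 := by omega
    subst hk'
    have h1 := Cfsg.Agent.Lib.Struct.Blackburn.prank_quot hsr (gam S 2)
      (⊤ : Subgroup (S ⧸ gam S 2)) ⟨⟨?_⟩⟩ ?_
    · rw [Subgroup.card_top] at h1
      have h2 : Nat.card (S ⧸ gam S 2) = p ^ 2 := h.index_two
      rw [h2, pow_one] at h1
      have := hp.one_lt
      nlinarith
    · rintro ⟨a, -⟩ ⟨b, -⟩
      apply Subtype.ext
      obtain ⟨a, rfl⟩ := QuotientGroup.mk'_surjective _ a
      obtain ⟨b, rfl⟩ := QuotientGroup.mk'_surjective _ b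
      exact (Cfsg.Agent.Lib.Coprime.Soft.mk_comm_iff _).mpr (by
        have hg2 : gam S 2 = commutator S := Subgroup.top_lowerCentralSeries_one
        rw [hg2]
        exact Subgroup.commutator_mem_commutator (Subgroup.mem_top _) (Subgroup.mem_top _))
    · intro a _
      obtain ⟨a, rfl⟩ := QuotientGroup.mk'_surjective _ a
      rw [← map_pow]
      exact (QuotientGroup.eq_one_iff _).mpr (h.pow_mem_two a)
  · -- `k ≥ 2`
    have hp3 : 3 ≤ p := by omega
    haveI := gam_normal S (2 * k + 1)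
    have hle : gam S (2 * k + 1) ≤ gam S k := gam_anti S (by omega)
    have h1 := Cfsg.Agent.Lib.Struct.Blackburn.prank_quot hsr (gam S (2 * k + 1))
      ((gam S k).map (QuotientGroup.mk' (gam S (2 * k + 1)))) ⟨⟨?_⟩⟩ ?_
    · have h2 := Cfsg.Agent.Lib.Transfer.card_map_mk_mul (gam S (2 * k + 1)) (gam S k) hle
      rw [h.card k hk2 (by omega), h.card (2 * k + 1) (by omega) hnk] at h2
      have h3 : n - k = (k + 1) + (n - (2 * k + 1)) := by omega
      rw [h3, pow_add] at h2
      have h4 : Nat.card ((gam S k).map (QuotientGroup.mk' (gam S (2 * k + 1)))) = p ^ (k + 1) :=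
        Nat.eq_of_mul_eq_mul_right (pow_pos hp.pos _) h2
      rw [h4] at h1
      have := (Nat.pow_le_pow_iff_right hp.one_lt).mp h1
      omega
    · rintro ⟨_, a, ha, rfl⟩ ⟨_, b, hb, rfl⟩
      apply Subtype.ext
      exact (Cfsg.Agent.Lib.Coprime.Soft.mk_comm_iff _).mpr (h.comm_self hk2 ha hb)
    · rintro _ ⟨a, ha, rfl⟩
      rw [← map_pow]
      apply (QuotientGroup.eq_one_iff _).mpr
      exact h.pow_mem hp3 _ k hk2 (by omega) a ha

end Cfsg.Agent.Lib.Coprime.MaxClassPow
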