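import Mathlib
import Cfsg.Prelude.Def_Transfer
import Cfsg.Prelude.Def_LocalStructure
import Cfsg.Agent.Lib.Coprime.Irred
import Cfsg.Agent.Lib.Basic.Glauberman
import Cfsg.Agent.Lib.Transfer.Frattini

/-!
Shared final step of the structure theorems for minimal non-`p`-closed and minimal
non-`p`-exponent-closed groups: `G = N ⋊ ⟨x⟩`, `x` of order `p` acts on `N` nontrivially and
trivially on every proper invariant subgroup, and `N` is minimal normal.
-/

set_option autoImplicit false

namespace Cfsg.Agent.Lib.Coprime.MinClosed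

open Subgroup

variable {G : Type*} [Group G] [Finite G]

/-- `p`-groups are `p`-closed. -/
theorem pClosed_of_isPGroup {H : Type*} [Group H] [Finite H] {p : ℕ} [Fact p.Prime]
    (h : IsPGroup p H) : Cfsg.IsPClosed p H := by
  intro P
  have h1 : (P : Subgroup H) = ⊤ := P.is_maximal' (h.to_subgroup ⊤) le_top |>.symm
  rw [h1]
  infer_instance

/-- Existence of a proper minimal normal subgroup in a nontrivial non-simple group. -/
theorem exists_minimal_normal (hns : ¬ IsSimpleGroup G) (hnt : Nontrivial G) :
    ∃ N : Subgroup G, N.Normal ∧ N ≠ ⊥ ∧ N ≠ ⊤ ∧ ∀ B : Subgroup G, B.Normal → B ≤ N → B = ⊥ ∨ B = N := by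
  classical
  have hex : ∃ M : Subgroup G, M.Normal ∧ M ≠ ⊥ ∧ M ≠ ⊤ := by
    by_contra hno
    push Not at hno
    apply hns
    refine ⟨fun H hH => ?_⟩
    by_cases h : H = ⊥
    · exact Or.inl h
    · exact Or.inr (hno H hH h)
  obtain ⟨M, hM⟩ := hex
  obtain ⟨N, hN⟩ := (Set.toFinite {B : Subgroup G | B.Normal ∧ B ≠ ⊥ ∧ B ≠ ⊤}).exists_minimal ⟨M, hM⟩
  refine ⟨N, hN.1.1, hN.1.2.1, hN.1.2.2, ?_⟩
  intro B hB hBN
  by_cases h : B = ⊥
  · exact Or.inl h
  · right
    have hBtop : B ≠ ⊤ := by
      rintro rfl
      exact hN.1.2.2 (top_le_iff.mp hBN)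
    exact le_antisymm hBN (hN.2 ⟨hB, h, hBtop⟩ hBN)

/-- Commuting from a normal subgroup disjoint from an invariant one. -/
theorem comm_of_normal_disjoint {K T R : Subgroup G} (hTn : K ≤ normalizer (T : Set G))
    (hRK : R ≤ K) (hdisj : Disjoint T R) {y : G} (hy : y ∈ T)
    (hyR : y ∈ normalizer (R : Set G)) : y ∈ centralizer (R : Set G) := by
  rw [mem_centralizer_iff]
  intro r hr
  have h1 : y * r * y⁻¹ * r⁻¹ ∈ R :=
    R.mul_mem ((mem_normalizer_iff.mp hyR r).mp hr) (R.inv_mem hr)
  have h2 : y * r * y⁻¹ * r⁻¹ ∈ T := by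
    have h3 : r * y⁻¹ * r⁻¹ ∈ T :=
      (mem_normalizer_iff.mp (hTn (hRK hr)) y⁻¹).mp (T.inv_mem hy)
    have h4 := T.mul_mem hy h3
    simpa [mul_assoc] using h4
  have h5 : y * r * y⁻¹ * r⁻¹ = 1 := Subgroup.disjoint_def.mp hdisj h2 h1
  have h7 : y * r * y⁻¹ = r := by rwa [mul_inv_eq_one] at h5
  have h6 : y * r = r * y := by
    conv_rhs => rw [← h7]
    group
  exact h6.symm

/-- Complement from a join with a normal subgroup of coprime order. -/
theorem complement_of_sup_eq_top {N K : Subgroup G} [N.Normal] (hcop : (Nat.card N).Coprime (Nat.card K))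
    (hsup : N ⊔ K = ⊤) : IsComplement' N K := by
  refine isComplement'_of_disjoint_and_mul_eq_univ (Subgroup.disjoint_of_coprime_natCard hcop) ?_
  rw [← Subgroup.normal_mul, hsup]
  rfl

/-- Generic counting for a module over `𝔽_q`. -/
theorem card_of_module {p q : ℕ} [Fact p.Prime] [Fact q.Prime] (hqp : q ≠ p)
    {V : Type*} [AddCommGroup V] [Module (ZMod q) V] [Finite V] (φ : V →+ V)
    (hφp : ∀ v, φ^[p] v = v) (hφ1 : ∃ v, φ v ≠ v)
    (hirr : ∀ W : AddSubgroup V, (∀ v ∈ W, φ v ∈ W) → W = ⊥ ∨ W = ⊤) :
    Nat.card V = q ^ orderOf (q : ZMod p) := by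
  classical
  let T : V →ₗ[ZMod q] V := φ.toZModLinearMap q
  have hT : ∀ v : V, T v = φ v := fun v => rfl
  have hpow : ∀ (n : ℕ) (v : V), (T ^ n) v = φ^[n] v := by
    intro n
    induction n with
    | zero => intro v; simp
    | succ n ih =>
      intro v
      rw [pow_succ, Module.End.mul_apply, ih, hT, Function.iterate_succ_apply]
  refine Irred.card_eq_of_irred hqp T ?_ ?_ ?_
  · apply LinearMap.ext
    intro v
    rw [hpow, hφp]
    rfl
  · intro h1
    obtain ⟨v, hv⟩ := hφ1
    apply hv
    have h2 := hT v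
    rw [h1] at h2
    exact h2.symm
  · intro W hW
    rcases hirr W.toAddSubgroup (fun v hv => hW v hv) with h0 | h0
    · left
      rw [Submodule.eq_bot_iff]
      intro v hv
      have h3 : v ∈ W.toAddSubgroup := hv
      rw [h0, AddSubgroup.mem_bot] at h3
      exact h3
    · right
      rw [Submodule.eq_top_iff']
      intro v
      have h3 : v ∈ W.toAddSubgroup := by
        rw [h0]; exact AddSubgroup.mem_top _
      exact h3

/-- Generic counting for a commutative group of exponent `q`. -/
theorem card_of_comm {p q : ℕ} [Fact p.Prime] [Fact q.Prime] (hqp : q ≠ p)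
    {V : Type*} [CommGroup V] [Finite V] (hexp : ∀ v : V, v ^ q = 1) (φ : V →* V)
    (hφp : ∀ v, φ^[p] v = v) (hφ1 : ∃ v, φ v ≠ v)
    (hirr : ∀ W : Subgroup V, (∀ v ∈ W, φ v ∈ W) → W = ⊥ ∨ W = ⊤) :
    Nat.card V = q ^ orderOf (q : ZMod p) := by
  classical
  have hsm : ∀ v : Additive V, q • v = 0 := fun v => hexp v.toMul
  have hiter : ∀ (n : ℕ) (v : V), (φ.toAdditive)^[n] (Additive.ofMul v) = Additive.ofMul (φ^[n] v) := by
    intro n
    induction n with
    | zero => intro v; rfl
    | succ n ih =>
      intro v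
      rw [Function.iterate_succ_apply, Function.iterate_succ_apply]
      exact ih (φ v)
  have hcardV : Nat.card (Additive V) = q ^ orderOf (q : ZMod p) := by
    refine @card_of_module p q _ _ hqp (Additive V) _ (AddCommGroup.zmodModule hsm) _ φ.toAdditive
      ?_ ?_ ?_
    · intro v
      have h0 := hiter p v.toMul
      rw [hφp] at h0
      exact h0
    · obtain ⟨v, hv⟩ := hφ1
      exact ⟨Additive.ofMul v, fun h => hv (Additive.ofMul.injective h)⟩
    · intro W hW
      rcases hirr (AddSubgroup.toSubgroup' W) (fun v hv => hW (Additive.ofMul v) hv) with h0 | h0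
      · left
        rw [eq_bot_iff]
        intro v hv
        have h3 : v.toMul ∈ AddSubgroup.toSubgroup' W := hv
        rw [h0, Subgroup.mem_bot] at h3
        exact h3
      · right
        rw [eq_top_iff]
        intro v _
        have h3 : v.toMul ∈ AddSubgroup.toSubgroup' W := by
          rw [h0]; exact Subgroup.mem_top _
        exact h3
  rw [← hcardV]
  exact (Nat.card_congr Additive.ofMul).symm

/-- `x` acting irreducibly and nontrivially on an elementary abelian normal subgroup. -/
theorem card_of_irred_action {p q : ℕ} [Fact p.Prime] [Fact q.Prime] (hqp : q ≠ p)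
    {A : Subgroup G} [hAn : A.Normal] (hA : Cfsg.IsElementaryAbelian q A)
    (x : G) (hxp : x ^ p = 1) (hxA : x ∉ centralizer (A : Set G))
    (hirr : ∀ B : Subgroup G, B ≤ A → x ∈ normalizer (B : Set G) → B = ⊥ ∨ B = A) :
    Nat.card A = q ^ orderOf (q : ZMod p) := by
  classical
  letI cg : CommGroup A := { (inferInstance : Group A) with
    mul_comm := fun a b => hA.1.is_comm.comm a b }
  let φ : A →* A :=
    { toFun := fun a => ⟨x * a * x⁻¹, hAn.conj_mem _ a.2 x⟩
      map_one' := by apply Subtype.ext; simp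
      map_mul' := by
        intro a b
        apply Subtype.ext
        show x * ((a : G) * b) * x⁻¹ = x * a * x⁻¹ * (x * b * x⁻¹)
        group }
  have hT : ∀ v : A, ((φ v : A) : G) = x * (v : G) * x⁻¹ := fun v => rfl
  have hpow : ∀ (n : ℕ) (v : A), ((φ^[n] v : A) : G) = x ^ n * (v : G) * (x ^ n)⁻¹ := by
    intro n
    induction n with
    | zero => intro v; simp
    | succ n ih =>
      intro v
      rw [Function.iterate_succ_apply, ih, hT]
      group
  refine card_of_comm hqp (fun v => ?_) φ ?_ ?_ ?_
  · apply Subtype.ext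
    exact hA.2 _ v.2
  · intro v
    apply Subtype.ext
    rw [hpow, hxp]
    simp
  · by_contra hno
    push Not at hno
    apply hxA
    rw [mem_centralizer_iff]
    intro a ha
    have h3 : x * a * x⁻¹ = a := congrArg (fun z : A => (z : G)) (hno ⟨a, ha⟩)
    have h4 : x * a = a * x := by
      conv_rhs => rw [← h3]
      group
    exact h4.symm
  · intro W hW
    let B : Subgroup G := W.map A.subtype
    have hBA : B ≤ A := map_subtype_le _
    have hBx : ∀ g ∈ B, x * g * x⁻¹ ∈ B := by
      rintro g ⟨a, ha, rfl⟩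
      exact ⟨φ a, hW a ha, rfl⟩
    have hxB : x ∈ normalizer (B : Set G) := by
      rw [mem_normalizer_iff]
      intro h
      refine ⟨hBx h, ?_⟩
      intro hh
      have hinj : Function.Injective (fun b : B => (⟨x * b * x⁻¹, hBx b b.2⟩ : B)) := by
        intro a b hab
        have := congrArg (fun z : B => (z : G)) hab
        apply Subtype.ext
        simpa using this
      obtain ⟨b, hb⟩ := (Finite.injective_iff_surjective.mp hinj) ⟨_, hh⟩
      have h5 : x * (b : G) * x⁻¹ = x * h * x⁻¹ := congrArg (fun z : B => (z : G)) hb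
      have h6 : (b : G) = h := by simpa using h5
      rw [← h6]
      exact b.2
    rcases hirr B hBA hxB with h0 | h0
    · left
      rw [eq_bot_iff]
      intro v hv
      have hmem : (v : G) ∈ B := ⟨v, hv, rfl⟩
      rw [h0, Subgroup.mem_bot] at hmem
      rw [Subgroup.mem_bot]
      exact Subtype.ext hmem
    · right
      rw [eq_top_iff]
      intro v _
      have hmem : (v : G) ∈ B := by rw [h0]; exact v.2
      obtain ⟨w, hw, hwv⟩ := hmem
      have : w = v := Subtype.ext hwv
      rwa [← this]

/-- The shared final step. -/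
theorem final_structure {p : ℕ} [Fact p.Prime] (N : Subgroup G) [hNn : N.Normal] (x : G)
    (hxo : orderOf x = p) (hcop : (Nat.card N).Coprime p) (hcard : Nat.card G = p * Nat.card N)
    (hQ : ∀ Q : Subgroup G, Q ≤ N → x ∈ normalizer (Q : Set G) → Q ≠ N → x ∈ centralizer (Q : Set G))
    (hxN : x ∉ centralizer (N : Set G))
    (hmin : ∀ B : Subgroup G, B.Normal → B ≤ N → B = ⊥ ∨ B = N) :
    ∃ q : ℕ, q.Prime ∧ q ≠ p ∧ Nat.card G = p * q ^ orderOf (q : ZMod p) ∧
      ∃ A : Subgroup G, A.Normal ∧ Nat.card ↥A = q ^ orderOf (q : ZMod p) ∧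
        Cfsg.IsElementaryAbelian q A ∧
        ∀ B : Subgroup G, B.Normal → B ≤ A → B = ⊥ ∨ B = A := by
  classical
  have hp : p.Prime := Fact.out
  have hNne : N ≠ ⊥ := by
    rintro rfl
    apply hxN
    rw [mem_centralizer_iff]
    intro a ha
    have ha' : a = 1 := ha
    simp [ha']
  have hxcard : Nat.card (zpowers x) = p := by rw [Nat.card_zpowers, hxo]
  -- `G = N ⟨x⟩`
  have hcompl : IsComplement' N (zpowers x) :=
    Subgroup.isComplement'_of_coprime (by rw [hxcard, hcard, mul_comm]) (by rw [hxcard]; exact hcop)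
  have hsup : N ⊔ zpowers x = ⊤ := hcompl.sup_eq_top
  have hxnorm : zpowers x ≤ normalizer (N : Set G) := by
    rw [normalizer_eq_top_iff.mpr hNn]; exact le_top
  have hcop' : (Nat.card (zpowers x)).Coprime (Nat.card N) := by rw [hxcard]; exact hcop.symm
  have hzs : Group.IsSolvable (zpowers x) := by
    haveI : IsCyclic (zpowers x) := inferInstance
    infer_instance
  -- Step 1: `N` is a `q`-group
  obtain ⟨q, hq, hNq⟩ : ∃ q, q.Prime ∧ IsPGroup q N := by
    by_contra hno
    push Not at hno
    apply hxN
    let C : Subgroup N := (centralizer ({x} : Set G)).subgroupOf N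
    have hCidx : C.index = 1 := by
      by_contra hne
      obtain ⟨r, hr, hrd⟩ := Nat.exists_prime_and_dvd hne
      haveI : Fact r.Prime := ⟨hr⟩
      obtain ⟨P, hP⟩ := Cfsg.Agent.Lib.Basic.exists_invariant_sylow hxnorm hcop' (Or.inl hzs) r
      have hxP : x ∈ normalizer ((((P : Subgroup N).map N.subtype : Subgroup G)) : Set G) :=
        hP (mem_zpowers x)
      have hPle : (P : Subgroup N).map N.subtype ≤ N := map_subtype_le _
      have hPne : (P : Subgroup N).map N.subtype ≠ N := by
        intro h
        apply hno r hr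
        have h2 : (P : Subgroup N) = ⊤ := by
          rw [eq_top_iff]
          intro a _
          have h3 : (a : G) ∈ (P : Subgroup N).map N.subtype := by rw [h]; exact a.2
          obtain ⟨b, hb, hab⟩ := h3
          have h4 : b = a := Subtype.ext hab
          rwa [← h4]
        have h5 := P.isPGroup'
        rw [h2] at h5
        exact h5.of_equiv Subgroup.topEquiv
      have hcent := hQ _ hPle hxP hPne
      have hPC : (P : Subgroup N) ≤ C := by
        intro a ha
        rw [Subgroup.mem_subgroupOf, mem_centralizer_singleton_iff]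
        have h6 := (mem_centralizer_iff.mp hcent) (a : G) ⟨a, ha, rfl⟩
        exact h6
      have h7 : C.index ∣ (P : Subgroup N).index := Subgroup.index_dvd_of_le hPC
      exact P.not_dvd_index (hrd.trans h7)
    have hCtop : C = ⊤ := Subgroup.index_eq_one.mp hCidx
    rw [mem_centralizer_iff]
    intro a ha
    have h8 : (⟨a, ha⟩ : N) ∈ C := by rw [hCtop]; exact mem_top _
    rw [Subgroup.mem_subgroupOf, mem_centralizer_singleton_iff] at h8
    exact h8
  haveI : Fact q.Prime := ⟨hq⟩
  have hNntriv : Nontrivial N := (Subgroup.nontrivial_iff_ne_bot N).mpr hNne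
  have hqdvd : q ∣ Nat.card N := by
    obtain ⟨k, hk⟩ := IsPGroup.iff_card.mp hNq
    have h1 : Nat.card N ≠ 1 := fun h => hNne (Subgroup.card_eq_one.mp h)
    have h2 : k ≠ 0 := by
      rintro rfl
      exact h1 (by simpa using hk)
    rw [hk]
    exact dvd_pow_self _ h2
  have hqp : q ≠ p := by
    rintro rfl
    exact hq.one_lt.ne' (Nat.eq_one_of_dvd_coprimes hcop hqdvd (dvd_refl _))
  -- Step 2: `N` is abelian
  have hNabel : ∀ a ∈ N, ∀ b ∈ N, a * b = b * a := by
    let Z : Subgroup G := N ⊓ centralizer (N : Set G)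
    haveI hZn : Z.Normal := by
      haveI : (centralizer (N : Set G)).Normal := Subgroup.normal_centralizer
      exact Subgroup.normal_inf_normal _ _
    have hZ : Z = N := by
      rcases hmin Z hZn inf_le_left with h0 | h0
      · exfalso
        haveI : Nontrivial N := hNntriv
        haveI : Nontrivial (center N) := hNq.center_nontrivial
        obtain ⟨z, hz⟩ := exists_ne (1 : center N)
        have hzm : ((z : N) : G) ∈ Z := by
          refine Subgroup.mem_inf.mpr ⟨(z : N).2, ?_⟩
          rw [mem_centralizer_iff]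
          intro a ha
          have h3 := (mem_center_iff.mp z.2) ⟨a, ha⟩
          exact congrArg (fun w : N => (w : G)) h3
        rw [h0, Subgroup.mem_bot] at hzm
        apply hz
        apply Subtype.ext
        apply Subtype.ext
        exact hzm
      · exact h0
    intro a ha b hb
    have h1 : b ∈ Z := by rw [hZ]; exact hb
    have h2 := (mem_centralizer_iff.mp (Subgroup.mem_inf.mp h1).2) a ha
    exact h2
  -- Step 3: `N` has exponent `q`
  have hNexp : ∀ a ∈ N, a ^ q = 1 := by
    let Om : Subgroup G :=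
      { carrier := {g | g ∈ N ∧ g ^ q = 1}
        one_mem' := ⟨N.one_mem, one_pow _⟩
        mul_mem' := by
          rintro a b ⟨ha, ha'⟩ ⟨hb, hb'⟩
          refine ⟨N.mul_mem ha hb, ?_⟩
          rw [(show Commute a b from hNabel a ha b hb).mul_pow, ha', hb', one_mul]
        inv_mem' := by
          rintro a ⟨ha, ha'⟩
          exact ⟨N.inv_mem ha, by rw [inv_pow, ha', inv_one]⟩ }
    have hOmn : Om.Normal := by
      constructor
      rintro a ⟨ha, ha'⟩ g
      refine ⟨hNn.conj_mem a ha g, ?_⟩
      rw [conj_pow, ha']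
      simp
    have hOm : Om = N := by
      rcases hmin Om hOmn (fun g hg => hg.1) with h0 | h0
      · exfalso
        obtain ⟨c, hc⟩ := exists_prime_orderOf_dvd_card' q hqdvd
        have h1 : (c : G) ∈ Om := by
          refine ⟨c.2, ?_⟩
          have h2 : c ^ q = 1 := by rw [← hc]; exact pow_orderOf_eq_one c
          exact congrArg (fun z : N => (z : G)) h2
        rw [h0, Subgroup.mem_bot] at h1
        have h3 : c = 1 := Subtype.ext h1
        rw [h3, orderOf_one] at hc
        exact hq.one_lt.ne hc
      · exact h0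
    intro a ha
    rw [← hOm] at ha
    exact ha.2
  have hNe : Cfsg.IsElementaryAbelian q N :=
    ⟨⟨⟨fun a b => Subtype.ext (hNabel a a.2 b b.2)⟩⟩, hNexp⟩
  -- Step 4: irreducibility
  have hirr : ∀ B : Subgroup G, B ≤ N → x ∈ normalizer (B : Set G) → B = ⊥ ∨ B = N := by
    intro B hBN hxB
    have hNB : N ≤ normalizer (B : Set G) := by
      intro n hn
      rw [mem_normalizer_iff]
      intro h
      constructor
      · intro hh
        have h1 : n * h * n⁻¹ = h := by
          rw [hNabel n hn h (hBN hh)]
          group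
        rwa [h1]
      · intro hh
        have hhN : n * h * n⁻¹ ∈ N := hBN hh
        have hhN' : h ∈ N := by
          have := hNn.conj_mem _ hhN n⁻¹
          simpa [mul_assoc] using this
        have h1 : n * h * n⁻¹ = h := by
          rw [hNabel n hn h hhN']
          group
        rwa [h1] at hh
    have hxB' : zpowers x ≤ normalizer (B : Set G) := by
      rw [zpowers_le]; exact hxB
    have hBn : B.Normal := by
      rw [← normalizer_eq_top_iff, eq_top_iff, ← hsup]
      exact sup_le hNB hxB'
    exact hmin B hBn hBN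
  have hNcard : Nat.card N = q ^ orderOf (q : ZMod p) :=
    card_of_irred_action hqp hNe x (by rw [← hxo]; exact pow_orderOf_eq_one x) hxN hirr
  exact ⟨q, hq, hqp, by rw [hcard, hNcard], N, hNn, hNcard, hNe, hmin⟩

end Cfsg.Agent.Lib.Coprime.MinClosed
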