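import Cfsg.Agent.Lib.OddLocal.NilParts
import Cfsg.Agent.Lib.Coprime.Conj

/-!
Minimal covers of a group by nilpotent subgroups: structure at a Sylow subgroup which is cyclic, or abelian
but not elementary abelian.
-/

set_option autoImplicit false

namespace Cfsg.Agent.Lib.Coprime

open Subgroup Cfsg
open Cfsg.Agent.Lib.OddLocal

variable {G : Type*} [Group G] [Finite G]

/-- A minimal cover by proper nilpotent subgroups. -/
structure NilCover (𝓐 : Finset (Subgroup G)) : Prop where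
  proper : ∀ A ∈ 𝓐, A ≠ ⊤
  cover : ∀ g : G, ∃ A ∈ 𝓐, g ∈ A
  minimal : ∀ 𝓑 : Finset (Subgroup G), (∀ A ∈ 𝓑, A ≠ ⊤) ∧ (∀ g : G, ∃ A ∈ 𝓑, g ∈ A) → 𝓐.card ≤ 𝓑.card
  nilp : ∀ A ∈ 𝓐, Group.IsNilpotent ↥A

variable {𝓐 : Finset (Subgroup G)}

theorem NilCover.card_le_one_of_le (h : NilCover 𝓐) {𝓑 : Finset (Subgroup G)} (hsub : 𝓑 ⊆ 𝓐) (M : Subgroup G)
    (hM : M ≠ ⊤) (hB : ∀ B ∈ 𝓑, B ≤ M) : 𝓑.card ≤ 1 := by
  classical
  have h1 := h.minimal (insert M (𝓐 \ 𝓑)) ⟨by
      intro A hA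
      rcases Finset.mem_insert.mp hA with rfl | hA
      · exact hM
      · exact h.proper A (Finset.mem_sdiff.mp hA).1, by
      intro g
      obtain ⟨A, hA, hg⟩ := h.cover g
      by_cases hAB : A ∈ 𝓑
      · exact ⟨M, Finset.mem_insert_self _ _, hB A hAB hg⟩
      · exact ⟨A, Finset.mem_insert_of_mem (Finset.mem_sdiff.mpr ⟨hA, hAB⟩), hg⟩⟩
  have h2 : (insert M (𝓐 \ 𝓑)).card ≤ (𝓐 \ 𝓑).card + 1 := Finset.card_insert_le _ _
  have h3 : (𝓐 \ 𝓑).card = 𝓐.card - 𝓑.card := Finset.card_sdiff_of_subset hsub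
  have h4 := Finset.card_le_card hsub
  omega

variable {p : ℕ} [Fact p.Prime]

theorem comm_of_sylow_ab (hab : ∀ Q : Sylow p G, IsMulCommutative ↥(Q : Subgroup G)) {B : Subgroup G}
    (hB : Group.IsNilpotent B) {x : G} (hxB : x ∈ B) {k : ℕ} (hx : x ^ p ^ k = 1) :
    ∀ y ∈ B, y * x = x * y := by
  intro y hy
  obtain ⟨a, ha, b, hb, rfl⟩ := exists_parts p hB hy
  have hx' : x ∈ Oq p B := mem_Oq hB hxB hx
  obtain ⟨Q, hQ⟩ := (Oq_isPGroup p B).exists_le_sylow
  have hc := (hab Q).is_comm.comm ⟨a, hQ ha⟩ ⟨x, hQ hx'⟩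
  have hc' : a * x = x * a := congrArg Subtype.val hc
  have hc2 := Oq_comm_Oq' hB hx' hb
  calc a * b * x = a * (b * x) := by group
    _ = a * (x * b) := by rw [hc2]
    _ = (a * x) * b := by group
    _ = (x * a) * b := by rw [hc']
    _ = x * (a * b) := by group

theorem NilCover.uniq (h : NilCover 𝓐) (hZ : center G = ⊥)
    (hab : ∀ Q : Sylow p G, IsMulCommutative ↥(Q : Subgroup G)) {x : G} {k : ℕ} (hx : x ^ p ^ k = 1) (hx1 : x ≠ 1)
    {B₁ B₂ : Subgroup G} (hB₁ : B₁ ∈ 𝓐) (hB₂ : B₂ ∈ 𝓐) (h1 : x ∈ B₁) (h2 : x ∈ B₂) : B₁ = B₂ := by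
  classical
  have hM : centralizer ({x} : Set G) ≠ ⊤ := by
    intro htop
    have hxZ : x ∈ center G := by
      rw [Subgroup.mem_center_iff]
      intro g
      have hg : g ∈ centralizer ({x} : Set G) := by rw [htop]; trivial
      exact (Subgroup.mem_centralizer_iff.mp hg x rfl).symm
    rw [hZ, Subgroup.mem_bot] at hxZ
    exact hx1 hxZ
  have hcard := h.card_le_one_of_le (𝓑 := 𝓐.filter (fun B => x ∈ B)) (Finset.filter_subset _ _) _ hM (by
    intro B hB y hy
    have hB' := Finset.mem_filter.mp hB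
    rw [Subgroup.mem_centralizer_iff]
    intro z hz
    have hz' : z = x := hz
    rw [hz']
    exact (comm_of_sylow_ab hab (h.nilp B hB'.1) hB'.2 hx y hy).symm)
  exact Finset.card_le_one.mp hcard B₁ (Finset.mem_filter.mpr ⟨hB₁, h1⟩) B₂ (Finset.mem_filter.mpr ⟨hB₂, h2⟩)

theorem NilCover.exists_member_ge (h : NilCover 𝓐) (hZ : center G = ⊥)
    (hab : ∀ Q : Sylow p G, IsMulCommutative ↥(Q : Subgroup G)) (Q : Sylow p G)
    (hQ : IsCyclic ↥(Q : Subgroup G) ∨ ¬ IsElementaryAbelian p (Q : Subgroup G)) :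
    ∃ A ∈ 𝓐, (Q : Subgroup G) ≤ A := by
  classical
  have hp : p.Prime := Fact.out
  rcases hQ with hc | hne
  · obtain ⟨g, hg⟩ := hc.exists_generator
    obtain ⟨A, hA, hgA⟩ := h.cover g.1
    refine ⟨A, hA, ?_⟩
    intro y hy
    obtain ⟨k, hk⟩ := hg ⟨y, hy⟩
    have h1 : y = g.1 ^ k := by
      have := congrArg Subtype.val hk
      simpa using this.symm
    rw [h1]
    exact zpow_mem hgA k
  · have hex : ∃ w ∈ (Q : Subgroup G), w ^ p ≠ 1 := by
      by_contra hno
      push Not at hno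
      exact hne ⟨hab Q, hno⟩
    obtain ⟨w, hw, hwp⟩ := hex
    obtain ⟨k, hk⟩ := (IsPGroup.iff_orderOf.mp Q.isPGroup') ⟨w, hw⟩
    have hk' : orderOf w = p ^ k := by rw [← hk, Subgroup.orderOf_mk]
    have hk2 : 2 ≤ k := by
      by_contra hlt
      push Not at hlt
      apply hwp
      apply orderOf_dvd_iff_pow_eq_one.mp
      rw [hk']
      calc p ^ k ∣ p ^ 1 := pow_dvd_pow p (by omega)
        _ = p := pow_one p
    have hpow : ∀ (y : G) (b c : ℕ), orderOf y = p ^ b → c ≤ b → orderOf (y ^ p ^ (b - c)) = p ^ c := by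
      intro y b c hy hcb
      have h3 := orderOf_pow_of_dvd (x := y) (n := p ^ (b - c)) (pow_ne_zero _ hp.ne_zero)
        (by rw [hy]; exact pow_dvd_pow p (by omega))
      rw [h3, hy, Nat.pow_div (by omega) hp.pos]
      congr 1
      omega
    let w₂ := w ^ p ^ (k - 2)
    have hw₂ : orderOf w₂ = p ^ 2 := hpow w k 2 hk' hk2
    have hw₂Q : w₂ ∈ (Q : Subgroup G) := pow_mem hw _
    let ω := w₂ ^ p
    have hωp : ω ^ p ^ 1 = 1 := by
      show (w₂ ^ p) ^ p ^ 1 = 1
      rw [← pow_mul, pow_one, ← pow_two, ← hw₂]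
      exact pow_orderOf_eq_one _
    have hω1 : ω ≠ 1 := by
      intro he
      have h3 : orderOf w₂ ∣ p := orderOf_dvd_of_pow_eq_one he
      rw [hw₂] at h3
      have h4 := Nat.le_of_dvd hp.pos h3
      have h5 := hp.two_le
      nlinarith
    obtain ⟨A, hA, hωA⟩ := h.cover ω
    have step : ∀ u : G, u ^ p = ω → u ∈ A := by
      intro u hu
      obtain ⟨A', hA', huA'⟩ := h.cover u
      have h3 : ω ∈ A' := by rw [← hu]; exact pow_mem huA' _
      have h4 := h.uniq hZ hab hωp hω1 hA' hA h3 hωA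
      rw [← h4]
      exact huA'
    have hw₂A : w₂ ∈ A := step w₂ rfl
    have step2 : ∀ z ∈ (Q : Subgroup G), z ^ p = 1 → z ∈ A := by
      intro z hz hzp
      have hc := (hab Q).is_comm.comm ⟨w₂, hw₂Q⟩ ⟨z, hz⟩
      have hc' : Commute w₂ z := congrArg Subtype.val hc
      have h3 : (w₂ * z) ^ p = ω := by
        rw [hc'.mul_pow, hzp, mul_one]
      have h4 := A.mul_mem (A.inv_mem hw₂A) (step _ h3)
      simpa using h4
    refine ⟨A, hA, ?_⟩
    intro z hz
    by_cases hz1 : z = 1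
    · rw [hz1]; exact A.one_mem
    obtain ⟨j, hj⟩ := (IsPGroup.iff_orderOf.mp Q.isPGroup') ⟨z, hz⟩
    have hj' : orderOf z = p ^ j := by rw [← hj, Subgroup.orderOf_mk]
    have hj1 : 1 ≤ j := by
      by_contra hlt
      have : j = 0 := by omega
      rw [this, pow_zero, orderOf_eq_one_iff] at hj'
      exact hz1 hj'
    have hz₁ := hpow z j 1 hj' hj1
    rw [pow_one] at hz₁
    let z₁ := z ^ p ^ (j - 1)
    have hz₁p : z₁ ^ p ^ 1 = 1 := by
      rw [pow_one]
      have := pow_orderOf_eq_one z₁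
      rwa [show orderOf z₁ = p from hz₁] at this
    have hz₁1 : z₁ ≠ 1 := by
      intro he
      have h3 : orderOf z₁ = 1 := orderOf_eq_one_iff.mpr he
      rw [show orderOf z₁ = p from hz₁] at h3
      exact hp.one_lt.ne' h3
    have hz₁A : z₁ ∈ A := step2 z₁ (pow_mem hz _) (by simpa using hz₁p)
    obtain ⟨A', hA', hzA'⟩ := h.cover z
    have h3 : z₁ ∈ A' := pow_mem hzA' _
    have h4 := h.uniq hZ hab hz₁p hz₁1 hA' hA h3 hz₁A
    rw [← h4]
    exact hzA'

/-- A `p`-element normalizing a Sylow subgroup lies in it. -/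
theorem mem_sylow_of_mem_normalizer (Q : Sylow p G) {x : G} (hx : x ∈ normalizer ((Q : Subgroup G) : Set G))
    {k : ℕ} (hxp : x ^ p ^ k = 1) : x ∈ (Q : Subgroup G) := by
  have h1 : IsPGroup p (zpowers x) := by
    rw [Cfsg.Agent.Lib.PGroups.isPGroup_zpowers_iff]
    obtain ⟨j, _, hj⟩ := (Nat.dvd_prime_pow Fact.out).mp (orderOf_dvd_of_pow_eq_one hxp)
    exact ⟨j, hj⟩
  have h2 : IsPGroup p ((Q : Subgroup G) ⊔ zpowers x : Subgroup G) :=
    Q.isPGroup'.to_sup_of_normal_left' h1 (by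
      rw [Subgroup.zpowers_le]
      exact hx)
  have h3 := Q.is_maximal' h2 le_sup_left
  rw [← h3]
  exact (le_sup_right : zpowers x ≤ _) (mem_zpowers x)

theorem centralizer_le_normalizer' (Q : Subgroup G) : centralizer (Q : Set G) ≤ normalizer (Q : Set G) :=
  Subgroup.centralizer_le_normalizer _

theorem NilCover.centralizer_eq (h : NilCover 𝓐) (hZ : center G = ⊥)
    (hab : ∀ Q : Sylow p G, IsMulCommutative ↥(Q : Subgroup G)) (Q : Sylow p G) {A : Subgroup G} (hA : A ∈ 𝓐)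
    (hQA : (Q : Subgroup G) ≤ A) (hQ1 : (Q : Subgroup G) ≠ ⊥) : centralizer ((Q : Subgroup G) : Set G) = A := by
  classical
  have hp : p.Prime := Fact.out
  apply le_antisymm
  · intro y hy
    obtain ⟨a, b, hab', hcomm, ⟨k, hk⟩, hb, ha', hb'⟩ := Cfsg.Agent.Lib.PGroups.exists_pPart p y
    have hyz : zpowers y ≤ centralizer ((Q : Subgroup G) : Set G) := Subgroup.zpowers_le.mpr hy
    have haC := hyz ha'
    have hbC := hyz hb'
    have haQ : a ∈ (Q : Subgroup G) := by
      apply mem_sylow_of_mem_normalizer Q (centralizer_le_normalizer' _ haC) (k := k)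
      rw [← hk]
      exact pow_orderOf_eq_one a
    rcases (Q : Subgroup G).bot_or_exists_ne_one with hb0 | ⟨x, hx, hx1⟩
    · exact absurd hb0 hQ1
    obtain ⟨j, hj⟩ := (IsPGroup.iff_orderOf.mp Q.isPGroup') ⟨x, hx⟩
    have hj' : orderOf x = p ^ j := by rw [← hj, Subgroup.orderOf_mk]
    let m := orderOf b
    have hxb : Commute x b := (Subgroup.mem_centralizer_iff.mp hbC x hx)
    let u := x * b
    obtain ⟨B, hB, huB⟩ := h.cover u
    have hum : u ^ m = x ^ m := by
      show (x * b) ^ m = x ^ m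
      rw [hxb.mul_pow, pow_orderOf_eq_one b, mul_one]
    let x' := x ^ m
    have hx'B : x' ∈ B := by
      show x ^ m ∈ B
      rw [← hum]
      exact pow_mem huB _
    have hx'p : x' ^ p ^ j = 1 := by
      show (x ^ m) ^ p ^ j = 1
      rw [← pow_mul, mul_comm, pow_mul, ← hj', pow_orderOf_eq_one, one_pow]
    have hx'1 : x' ≠ 1 := by
      intro he
      have h3 : orderOf x ∣ m := orderOf_dvd_of_pow_eq_one he
      rw [hj'] at h3
      have hj0 : j ≠ 0 := by
        rintro rfl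
        rw [pow_zero, orderOf_eq_one_iff] at hj'
        exact hx1 hj'
      exact hb ((dvd_pow_self p hj0).trans h3)
    have hx'A : x' ∈ A := pow_mem (hQA hx) _
    have hBA := h.uniq hZ hab hx'p hx'1 hB hA hx'B hx'A
    have huA : u ∈ A := hBA ▸ huB
    have hbA : b ∈ A := by
      have h3 := A.mul_mem (A.inv_mem (hQA hx)) huA
      simpa [u] using h3
    rw [hab']
    exact A.mul_mem (hQA haQ) hbA
  · intro a ha
    rw [Subgroup.mem_centralizer_iff]
    intro x hx
    obtain ⟨j, hj⟩ := (IsPGroup.iff_orderOf.mp Q.isPGroup') ⟨x, hx⟩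
    have hj' : orderOf x = p ^ j := by rw [← hj, Subgroup.orderOf_mk]
    have hxp : x ^ p ^ j = 1 := by rw [← hj']; exact pow_orderOf_eq_one x
    exact (comm_of_sylow_ab hab (h.nilp A hA) (hQA hx) hxp a ha).symm

theorem sylow_eq_of_le_centralizer (Q₁ Q₂ : Sylow p G)
    (hle : (Q₁ : Subgroup G) ≤ centralizer ((Q₂ : Subgroup G) : Set G)) : Q₁ = Q₂ := by
  apply Sylow.ext
  apply le_antisymm
  · intro x hx
    obtain ⟨j, hj⟩ := (IsPGroup.iff_orderOf.mp Q₁.isPGroup') ⟨x, hx⟩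
    have hj' : orderOf x = p ^ j := by rw [← hj, Subgroup.orderOf_mk]
    exact mem_sylow_of_mem_normalizer Q₂ (centralizer_le_normalizer' _ (hle hx)) (k := j)
      (by rw [← hj']; exact pow_orderOf_eq_one x)
  · intro x hx
    have hle2 : (Q₂ : Subgroup G) ≤ centralizer ((Q₁ : Subgroup G) : Set G) := by
      intro y hy
      rw [Subgroup.mem_centralizer_iff]
      intro z hz
      have := Subgroup.mem_centralizer_iff.mp (hle hz) y hy
      exact this.symm
    obtain ⟨j, hj⟩ := (IsPGroup.iff_orderOf.mp Q₂.isPGroup') ⟨x, hx⟩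
    have hj' : orderOf x = p ^ j := by rw [← hj, Subgroup.orderOf_mk]
    exact mem_sylow_of_mem_normalizer Q₁ (centralizer_le_normalizer' _ (hle2 hx)) (k := j)
      (by rw [← hj']; exact pow_orderOf_eq_one x)

/-- Main structure theorem for a minimal nilpotent cover at a non-normal Sylow subgroup which is cyclic or abelian
not elementary abelian. -/
theorem NilCover.core (h : NilCover 𝓐) (hZ : center G = ⊥) (P : Sylow p G)
    (hP : IsCyclic ↥(P : Subgroup G) ∨ (IsMulCommutative ↥(P : Subgroup G) ∧ ¬ IsElementaryAbelian p (P : Subgroup G)))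
    (hnn : ¬ (P : Subgroup G).Normal) :
    ∃ A ∈ 𝓐, (P : Subgroup G) ≤ A ∧ centralizer ((P : Subgroup G) : Set G) = A ∧
      IsCoatom (normalizer ((P : Subgroup G) : Set G)) ∧
      (∀ M : Subgroup G, IsCoatom M → centralizer ((P : Subgroup G) : Set G) ≤ M →
        M = normalizer ((P : Subgroup G) : Set G)) ∧
      ∀ g : G, g ∉ normalizer ((P : Subgroup G) : Set G) →
        ¬ p ∣ Nat.card ↥(normalizer ((P : Subgroup G) : Set G) ⊓
          (normalizer ((P : Subgroup G) : Set G)).map (MulAut.conj g).toMonoidHom) := by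
  classical
  have hp : p.Prime := Fact.out
  have habP : IsMulCommutative ↥(P : Subgroup G) := by
    rcases hP with hc | hc
    · exact IsCyclic.isMulCommutative
    · exact hc.1
  have hab : ∀ Q : Sylow p G, IsMulCommutative ↥(Q : Subgroup G) := by
    intro Q
    let e := Sylow.equiv Q P
    refine ⟨⟨fun a b => e.injective ?_⟩⟩
    rw [map_mul, map_mul]
    exact habP.is_comm.comm _ _
  have hgood : ∀ Q : Sylow p G, IsCyclic ↥(Q : Subgroup G) ∨ ¬ IsElementaryAbelian p (Q : Subgroup G) := by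
    intro Q
    let e := Sylow.equiv P Q
    rcases hP with hc | hc
    · left
      exact isCyclic_of_surjective e e.surjective
    · right
      intro hE
      apply hc.2
      refine ⟨habP, fun a ha => ?_⟩
      have h1 := hE.2 _ (e ⟨a, ha⟩).2
      have h2 : (e ⟨a, ha⟩) ^ p = 1 := Subtype.ext (by simpa using h1)
      rw [← map_pow, map_eq_one_iff e e.injective] at h2
      have := congrArg Subtype.val h2
      simpa using this
  have hne : ∀ Q : Sylow p G, (Q : Subgroup G) ≠ ⊥ := by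
    intro Q hQ
    apply hnn
    have h1 : Nat.card (P : Subgroup G) = Nat.card (Q : Subgroup G) := Nat.card_congr (Sylow.equiv P Q).toEquiv
    rw [hQ, Subgroup.card_bot] at h1
    rw [Subgroup.eq_bot_of_card_eq _ h1]
    infer_instance
  have hkey : ∀ Q : Sylow p G, ∃ A ∈ 𝓐, (Q : Subgroup G) ≤ A ∧ centralizer ((Q : Subgroup G) : Set G) = A := by
    intro Q
    obtain ⟨A, hA, hQA⟩ := h.exists_member_ge hZ hab Q (hgood Q)
    exact ⟨A, hA, hQA, h.centralizer_eq hZ hab Q hA hQA (hne Q)⟩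
  have hTI : ∀ Q₁ Q₂ : Sylow p G, ∀ x : G, x ∈ (Q₁ : Subgroup G) → x ∈ (Q₂ : Subgroup G) → x ≠ 1 → Q₁ = Q₂ := by
    intro Q₁ Q₂ x h1 h2 hx1
    obtain ⟨A₁, hA₁, hQ₁, hC₁⟩ := hkey Q₁
    obtain ⟨A₂, hA₂, hQ₂, hC₂⟩ := hkey Q₂
    obtain ⟨j, hj⟩ := (IsPGroup.iff_orderOf.mp Q₁.isPGroup') ⟨x, h1⟩
    have hj' : orderOf x = p ^ j := by rw [← hj, Subgroup.orderOf_mk]
    have hxp : x ^ p ^ j = 1 := by rw [← hj']; exact pow_orderOf_eq_one x
    have h3 := h.uniq hZ hab hxp hx1 hA₁ hA₂ (hQ₁ h1) (hQ₂ h2)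
    apply sylow_eq_of_le_centralizer
    rw [hC₂, ← h3]
    exact hQ₁
  obtain ⟨A, hA, hPA, hCA⟩ := hkey P
  have hMN : ∀ M : Subgroup G, M ≠ ⊤ → centralizer ((P : Subgroup G) : Set G) ≤ M →
      M ≤ normalizer ((P : Subgroup G) : Set G) := by
    intro M hM hCM m hm
    obtain ⟨A', hA', hQA', hCA'⟩ := hkey (m • P)
    have hA'M : A' ≤ M := by
      rw [← hCA']
      intro y hy
      have h1 : m⁻¹ * y * m ∈ centralizer ((P : Subgroup G) : Set G) := by
        rw [Subgroup.mem_centralizer_iff]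
        intro x hx
        have h2 : m * x * m⁻¹ ∈ ((m • P : Sylow p G) : Subgroup G) := by
          rw [Sylow.coe_subgroup_smul, Subgroup.mem_pointwise_smul_iff_inv_smul_mem]
          have h9 : (MulAut.conj m)⁻¹ • (m * x * m⁻¹) = x := by
            simp [MulAut.smul_def, MulAut.conj_apply, mul_assoc]
          rw [h9]
          exact hx
        have h3 := Subgroup.mem_centralizer_iff.mp hy _ h2
        calc x * (m⁻¹ * y * m) = m⁻¹ * ((m * x * m⁻¹) * y) * m := by group
          _ = m⁻¹ * (y * (m * x * m⁻¹)) * m := by rw [h3]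
          _ = m⁻¹ * y * m * x := by group
      have h4 := hCM h1
      have h5 := M.mul_mem (M.mul_mem hm h4) (M.inv_mem hm)
      simpa [mul_assoc] using h5
    have hcard := h.card_le_one_of_le (𝓑 := 𝓐.filter (fun B => B ≤ M)) (Finset.filter_subset _ _) M hM (by
      intro B hB
      exact (Finset.mem_filter.mp hB).2)
    have hAA' := Finset.card_le_one.mp hcard A (Finset.mem_filter.mpr ⟨hA, hCA ▸ hCM⟩) A'
      (Finset.mem_filter.mpr ⟨hA', hA'M⟩)
    have hQP : m • P = P := by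
      apply sylow_eq_of_le_centralizer
      rw [hCA, hAA']
      exact hQA'
    exact Sylow.smul_eq_iff_mem_normalizer.mp hQP
  have hNtop : normalizer ((P : Subgroup G) : Set G) ≠ ⊤ := fun ht => hnn (Subgroup.normalizer_eq_top_iff.mp ht)
  have hCN : centralizer ((P : Subgroup G) : Set G) ≤ normalizer ((P : Subgroup G) : Set G) :=
    centralizer_le_normalizer' _
  refine ⟨A, hA, hPA, hCA, ⟨hNtop, ?_⟩, ?_, ?_⟩
  · intro M hlt
    by_contra hM
    exact absurd (hMN M hM (hCN.trans hlt.le)) (not_le_of_gt hlt)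
  · intro M hM hCM
    have h1 := hMN M hM.1 hCM
    by_contra hne'
    have h2 : M < normalizer ((P : Subgroup G) : Set G) := lt_of_le_of_ne h1 hne'
    exact hNtop (hM.2 _ h2)
  · intro g hg hdvd
    obtain ⟨x, hx⟩ := exists_prime_orderOf_dvd_card' p hdvd
    have hxo : orderOf (x : G) = p := by rw [Subgroup.orderOf_coe]; exact hx
    have hx1 : (x : G) ≠ 1 := by
      intro he
      rw [he, orderOf_one] at hxo
      exact hp.one_lt.ne hxo
    have hxp : (x : G) ^ p ^ 1 = 1 := by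
      have h9 := pow_orderOf_eq_one (x : G)
      rw [hxo] at h9
      simpa using h9
    have hxN := (Subgroup.mem_inf.mp x.2).1
    have hxN2 := (mem_conj_map _ g _).mp (Subgroup.mem_inf.mp x.2).2
    have hxP := mem_sylow_of_mem_normalizer P hxN hxp
    have hxP2 : g⁻¹ * (x : G) * g ∈ (P : Subgroup G) := by
      apply mem_sylow_of_mem_normalizer P hxN2 (k := 1)
      have h3 : g⁻¹ * (x : G) * g = (MulAut.conj g⁻¹) (x : G) := by
        simp [MulAut.conj_apply]
      rw [h3, ← map_pow, hxp, map_one]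
    have hxQ : (x : G) ∈ ((g • P : Sylow p G) : Subgroup G) := by
      rw [Sylow.coe_subgroup_smul, Subgroup.mem_pointwise_smul_iff_inv_smul_mem]
      have h9 : (MulAut.conj g)⁻¹ • (x : G) = g⁻¹ * (x : G) * g := by
        simp [MulAut.smul_def, MulAut.conj_apply, mul_assoc]
      rw [h9]
      exact hxP2
    have h4 := hTI (g • P) P x hxQ hxP hx1
    exact hg (Sylow.smul_eq_iff_mem_normalizer.mp h4)

end Cfsg.Agent.Lib.Coprime
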