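import Mathlib
import Cfsg.Agent.Lib.LocalEven.PClosed
import Cfsg.Agent.Lib.LocalEven.PIrr
import Cfsg.Agent.Lib.LocalEven.GFit
import Cfsg.Agent.Lib.Coprime.Conj

/-!
# Families of strongly `p`-irreducible subgroups

Working modulo `O_p(H)`: normal members of a transitive family of subgroups.
-/

set_option autoImplicit false
set_option linter.unusedSectionVars false
set_option linter.unusedVariables false
set_option linter.style.haveILetI false

namespace Cfsg.Agent.Lib.Coprime.PMin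

open Subgroup Cfsg Cfsg.Agent.Lib.Basic Cfsg.Agent.Lib.LocalEven
open scoped commutatorElement

variable {G : Type*} [Group G] [Finite G] {p : ℕ} [hp : Fact p.Prime]

lemma sub_bot (hO : pCore p G = ⊥) {X R : Subgroup G} [hR : R.Normal] (hXR : X ≤ R)
    (hN : R ≤ normalizer (X : Set G)) (hXp : IsPGroup p X) : X = ⊥ := by
  have h1 : X.subgroupOf R ≤ pCore p ↥R := by
    apply Cfsg.Agent.Lib.Components.le_pCore
    · exact (Subgroup.normal_subgroupOf_iff_le_normalizer hXR).mpr hN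
    · exact hXp.comap_subtype
  rw [eq_bot_iff]
  intro x hx
  have h2 : (⟨x, hXR hx⟩ : ↥R) ∈ X.subgroupOf R := hx
  have h3 : x ∈ (pCore p ↥R).map R.subtype := ⟨_, h1 h2, rfl⟩
  have h4 := map_pCore_le_pCore (p := p) R h3
  rwa [hO] at h4

/-- In an abelian subgroup normalized by a normal subgroup there are no `p`-elements. -/
lemma pelem_trivial (hO : pCore p G = ⊥) {R Z : Subgroup G} [hR : R.Normal] (hZR : Z ≤ R)
    (hN : R ≤ normalizer (Z : Set G)) (hc : ∀ x ∈ Z, ∀ y ∈ Z, x * y = y * x) {z : G} (hz : z ∈ Z)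
    {k : ℕ} (hk : z ^ (p ^ k) = 1) : z = 1 := by
  let X : Subgroup G :=
    { carrier := {x | x ∈ Z ∧ ∃ k : ℕ, x ^ (p ^ k) = 1}
      mul_mem' := by
        rintro a b ⟨ha, i, hi⟩ ⟨hb, j, hj⟩
        refine ⟨Z.mul_mem ha hb, i + j, ?_⟩
        have hcm : Commute a b := hc a ha b hb
        rw [hcm.mul_pow, pow_add, pow_mul, hi, one_pow, one_mul, mul_comm (p ^ i), pow_mul, hj, one_pow]
      one_mem' := ⟨Z.one_mem, 0, by simp⟩
      inv_mem' := by
        rintro a ⟨ha, i, hi⟩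
        exact ⟨Z.inv_mem ha, i, by rw [inv_pow, hi, inv_one]⟩ }
  have hXR : X ≤ R := fun x hx => hZR hx.1
  have hXN : R ≤ normalizer (X : Set G) := by
    intro r hr
    apply Cfsg.Agent.Lib.Coprime.mem_normalizer_of_conj_le
    rintro x ⟨hx, i, hi⟩
    refine ⟨(mem_normalizer_iff.mp (hN hr) x).mp hx, i, ?_⟩
    rw [conj_pow, hi]
    simp
  have hXp : IsPGroup p X := by
    rintro ⟨x, hx, i, hi⟩
    exact ⟨i, Subtype.ext hi⟩
  have h := sub_bot hO hXR hXN hXp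
  have hm : z ∈ X := ⟨hz, k, hk⟩
  rw [h] at hm
  exact hm

/-- The hypothesis of strong irreducibility, modulo `O_p`. -/
structure SI (p : ℕ) (D : Subgroup G) : Prop where
  a : ∀ A : Subgroup G, D ≤ normalizer (A : Set G) →
    (∀ a ∈ A ⊓ D, ∀ e ∈ D, a * e = e * a) ∨ (∀ e ∈ D, (orderOf e).Coprime p → e ∈ A)
  b : ⁅⁅D, D⁆, D⁆ ≠ ⊥

/-- The map `e ↦ [e, y]` as a homomorphism. -/
lemma comm_hom {D Z : Subgroup G} {y : G} (hc : ∀ e ∈ D, e * y * e⁻¹ * y⁻¹ ∈ Z)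
    (hZD : ∀ z ∈ Z, ∀ e ∈ D, z * e = e * z) (hZc : ∀ a ∈ Z, ∀ b ∈ Z, a * b = b * a) :
    ∃ φ : ↥D →* ↥Z, ∀ e : ↥D, ((φ e : ↥Z) : G) = (e : G) * y * (e : G)⁻¹ * y⁻¹ := by
  refine ⟨MonoidHom.mk' (fun e : ↥D => ⟨(e : G) * y * (e : G)⁻¹ * y⁻¹, hc e e.2⟩) ?_, fun e => rfl⟩
  intro a b
  apply Subtype.ext
  show ((a * b : ↥D) : G) * y * ((a * b : ↥D) : G)⁻¹ * y⁻¹ =
    ((a : G) * y * (a : G)⁻¹ * y⁻¹) * ((b : G) * y * (b : G)⁻¹ * y⁻¹)
  have h1 := hZD _ (hc b b.2) a a.2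
  have h2 := hZc _ (hc a a.2) _ (hc b b.2)
  rw [h2]
  have h3 : ((a * b : ↥D) : G) * y * ((a * b : ↥D) : G)⁻¹ * y⁻¹ =
      (a : G) * ((b : G) * y * (b : G)⁻¹ * y⁻¹) * (a : G)⁻¹ * ((a : G) * y * (a : G)⁻¹ * y⁻¹) := by
    push_cast
    group
  rw [h3, ← h1, mul_inv_cancel_right]

lemma comm_of_commutator {D Z : Subgroup G} {y : G} (hc : ∀ e ∈ D, e * y * e⁻¹ * y⁻¹ ∈ Z)
    (hZD : ∀ z ∈ Z, ∀ e ∈ D, z * e = e * z) (hZc : ∀ a ∈ Z, ∀ b ∈ Z, a * b = b * a) :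
    ∀ u ∈ ⁅D, D⁆, u * y = y * u := by
  obtain ⟨φ, hφ⟩ := comm_hom hc hZD hZc
  have hle : (⁅D, D⁆ : Subgroup G) ≤ (φ.ker).map D.subtype := by
    rw [Subgroup.commutator_le]
    intro x hx x' hx'
    refine ⟨⁅(⟨x, hx⟩ : ↥D), (⟨x', hx'⟩ : ↥D)⁆, ?_, rfl⟩
    show φ _ = 1
    rw [map_commutatorElement, commutatorElement_eq_one_iff_mul_comm]
    apply Subtype.ext
    exact hZc _ (φ _).2 _ (φ _).2
  intro u hu
  obtain ⟨v, hv, rfl⟩ := hle hu
  have h1 := hφ v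
  have hv1 : φ v = 1 := hv
  rw [hv1] at h1
  have h2 : (v : G) * y * (v : G)⁻¹ * y⁻¹ = 1 := h1.symm
  have h3 : (v : G) * y * (v : G)⁻¹ = y := mul_inv_eq_one.mp h2
  exact mul_inv_eq_iff_eq_mul.mp h3

/-- Main lemma. -/
lemma L (hO : pCore p G = ⊥) {R D A : Subgroup G} [hR : R.Normal] (hDR : D ≤ R)
    (hRD : R ≤ normalizer (D : Set G)) (hSI : SI p D) (hAR : A ≤ R) (hRA : R ≤ normalizer (A : Set G))
    (h : ∀ a ∈ A ⊓ D, ∀ e ∈ D, a * e = e * a) : ∀ e ∈ D, ∀ y ∈ A, e * y = y * e := by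
  intro e he y hy
  set Z := A ⊓ D with hZ
  have hcZ : ∀ e ∈ D, e * y * e⁻¹ * y⁻¹ ∈ Z := by
    intro e he
    refine Subgroup.mem_inf.mpr ⟨A.mul_mem ((mem_normalizer_iff.mp (hRA (hDR he)) y).mp hy) (A.inv_mem hy), ?_⟩
    have h1 : e * y * e⁻¹ * y⁻¹ = e * (y * e⁻¹ * y⁻¹) := by group
    rw [h1]
    exact D.mul_mem he ((mem_normalizer_iff.mp (hRD (hAR hy)) e⁻¹).mp (D.inv_mem he))
  have hZD : ∀ z ∈ Z, ∀ e ∈ D, z * e = e * z := fun z hz e he => h z hz e he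
  have hZc : ∀ a ∈ Z, ∀ b ∈ Z, a * b = b * a := fun a ha b hb => h a ha b (Subgroup.mem_inf.mp hb).2
  have hZR : Z ≤ R := inf_le_right.trans hDR
  have hRZ : R ≤ normalizer (Z : Set G) := by
    intro r hr
    apply Cfsg.Agent.Lib.Coprime.mem_normalizer_of_conj_le
    intro x hx
    obtain ⟨h1, h2⟩ := Subgroup.mem_inf.mp hx
    exact Subgroup.mem_inf.mpr ⟨(mem_normalizer_iff.mp (hRA hr) x).mp h1, (mem_normalizer_iff.mp (hRD hr) x).mp h2⟩
  obtain ⟨φ, hφ⟩ := comm_hom hcZ hZD hZc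
  set A' : Subgroup G := (φ.ker).map D.subtype with hA'
  have hA'D : D ≤ normalizer (A' : Set G) := by
    intro e he
    apply Cfsg.Agent.Lib.Coprime.mem_normalizer_of_conj_le
    rintro _ ⟨x, hx, rfl⟩
    exact ⟨⟨e, he⟩ * x * ⟨e, he⟩⁻¹, (φ.normal_ker).conj_mem x hx _, rfl⟩
  rcases hSI.a A' hA'D with alt | alt
  · exfalso
    apply hSI.b
    rw [eq_bot_iff, Subgroup.commutator_le]
    intro u hu e he
    rw [Subgroup.mem_bot, commutatorElement_eq_one_iff_mul_comm]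
    have hle : (⁅D, D⁆ : Subgroup G) ≤ A' := by
      rw [Subgroup.commutator_le]
      intro x hx x' hx'
      refine ⟨⁅(⟨x, hx⟩ : ↥D), (⟨x', hx'⟩ : ↥D)⁆, ?_, rfl⟩
      show φ _ = 1
      rw [map_commutatorElement, commutatorElement_eq_one_iff_mul_comm]
      apply Subtype.ext
      exact hZc _ (φ _).2 _ (φ _).2
    have huD : u ∈ D := by
      have : (⁅D, D⁆ : Subgroup G) ≤ D := by
        refine le_trans hle ?_
        rintro _ ⟨v, -, rfl⟩
        exact v.2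
      exact this hu
    exact alt u (Subgroup.mem_inf.mpr ⟨hle hu, huD⟩) e he
  · obtain ⟨k, m, hm, hkm⟩ := Nat.exists_eq_pow_mul_and_not_dvd (orderOf_pos e).ne' p hp.out.ne_one
    have hcop : (orderOf (e ^ (p ^ k))).Coprime p := by
      have h1 : orderOf (e ^ (p ^ k)) ∣ m := by
        apply orderOf_dvd_of_pow_eq_one
        rw [← pow_mul, ← hkm]
        exact pow_orderOf_eq_one e
      have h2 : m.Coprime p := ((Nat.Prime.coprime_iff_not_dvd hp.out).mpr hm).symm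
      exact Nat.Coprime.coprime_dvd_left h1 h2
    obtain ⟨v, hv, hve⟩ := alt _ (D.pow_mem he _) hcop
    have hv2 : v = (⟨e, he⟩ : ↥D) ^ (p ^ k) := by
      apply Subtype.ext
      exact hve
    rw [hv2] at hv
    have hv1 : φ ((⟨e, he⟩ : ↥D) ^ (p ^ k)) = 1 := hv
    rw [map_pow] at hv1
    have h2 : ((φ ⟨e, he⟩ : ↥Z) : G) ^ (p ^ k) = 1 := congrArg Subtype.val hv1
    have h3 := pelem_trivial hO hZR hRZ hZc (φ ⟨e, he⟩).2 h2
    rw [hφ] at h3
    have h4 : e * y * e⁻¹ = y := mul_inv_eq_one.mp h3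
    exact mul_inv_eq_iff_eq_mul.mp h4

lemma C {D : Subgroup G} (hSI : SI p D) : ∀ e ∈ D, (orderOf e).Coprime p → e ∈ (⁅D, D⁆ : Subgroup G) := by
  rcases hSI.a ⁅D, D⁆ (le_normalizer_commutator_left D D) with alt | alt
  · exfalso
    apply hSI.b
    rw [eq_bot_iff, Subgroup.commutator_le]
    intro u hu e he
    rw [Subgroup.mem_bot, commutatorElement_eq_one_iff_mul_comm]
    have huD : u ∈ D := by
      have : (⁅D, D⁆ : Subgroup G) ≤ D := by
        rw [Subgroup.commutator_le]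
        intro x hx y hy
        rw [commutatorElement_def]
        exact D.mul_mem (D.mul_mem (D.mul_mem hx hy) (D.inv_mem hx)) (D.inv_mem hy)
      exact this hu
    exact alt u (Subgroup.mem_inf.mpr ⟨hu, huD⟩) e he
  · exact alt

/-- The context. -/
structure Ctx (p : ℕ) (𝒟 : Set (Subgroup G)) (R : Subgroup G) : Prop where
  hO : pCore p G = ⊥
  hRn : R.Normal
  hgen : sSup 𝒟 = R
  hnorm : ∀ D ∈ 𝒟, R ≤ normalizer (D : Set G)
  hres : ∀ g : G, (orderOf g).Coprime p → g ∈ R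
  hconj : ∀ h : G, ∀ D ∈ 𝒟, D.map (MulAut.conj h).toMonoidHom ∈ 𝒟
  htr : ∀ D ∈ 𝒟, ∀ D' ∈ 𝒟, ∃ h : G, D' = D.map (MulAut.conj h).toMonoidHom
  hSI : ∀ D ∈ 𝒟, SI p D

variable {𝒟 : Set (Subgroup G)} {R : Subgroup G}

lemma Ctx.le (C : Ctx p 𝒟 R) {D : Subgroup G} (hD : D ∈ 𝒟) : D ≤ R := by
  rw [← C.hgen]
  exact le_sSup hD

lemma exists_pow_coprime (x : G) : ∃ k : ℕ, (orderOf (x ^ (p ^ k))).Coprime p := by
  obtain ⟨k, m, hm, hkm⟩ := Nat.exists_eq_pow_mul_and_not_dvd (orderOf_pos x).ne' p hp.out.ne_one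
  refine ⟨k, ?_⟩
  have h1 : orderOf (x ^ (p ^ k)) ∣ m := by
    apply orderOf_dvd_of_pow_eq_one
    rw [← pow_mul, ← hkm]
    exact pow_orderOf_eq_one x
  have h2 : m.Coprime p := ((Nat.Prime.coprime_iff_not_dvd hp.out).mpr hm).symm
  exact Nat.Coprime.coprime_dvd_left h1 h2

theorem G_lemma (C : Ctx p 𝒟 R) {Y : Subgroup G} [hY : Y.Normal]
    (hYD : ∀ D ∈ 𝒟, ∀ e ∈ D, (orderOf e).Coprime p → e ∈ Y) : ∀ g : G, (orderOf g).Coprime p → g ∈ Y := by
  intro g hg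
  let π : G →* G ⧸ Y := QuotientGroup.mk' Y
  let Rt : Subgroup (G ⧸ Y) := R.map π
  have hPp : IsPGroup p (pCore p ↥Rt) := pCore_isPGroup p
  have hD : ∀ D ∈ 𝒟, ∀ x ∈ D, ∃ y : ↥Rt, y ∈ pCore p ↥Rt ∧ (y : G ⧸ Y) = π x := by
    intro D hD x hx
    have hle : D.map π ≤ Rt := Subgroup.map_mono (C.le hD)
    have hn : ((D.map π).subgroupOf Rt).Normal := by
      rw [Subgroup.normal_subgroupOf_iff_le_normalizer hle]
      rintro _ ⟨r, hr, rfl⟩
      apply Cfsg.Agent.Lib.Coprime.mem_normalizer_of_conj_le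
      rintro _ ⟨d, hd, rfl⟩
      exact ⟨r * d * r⁻¹, (mem_normalizer_iff.mp (C.hnorm D hD hr) d).mp hd, by simp [map_mul]⟩
    have hpg : IsPGroup p ↥((D.map π).subgroupOf Rt) := by
      rintro ⟨z, hz⟩
      obtain ⟨d, hd, hdz⟩ := hz
      obtain ⟨k, hk⟩ := exists_pow_coprime (p := p) d
      refine ⟨k, ?_⟩
      apply Subtype.ext
      apply Subtype.ext
      have h1 : d ^ (p ^ k) ∈ Y := hYD D hD _ (D.pow_mem hd _) hk
      have h2 : π (d ^ (p ^ k)) = 1 := (QuotientGroup.eq_one_iff _).mpr h1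
      rw [map_pow, hdz] at h2
      exact h2
    have h1 := Cfsg.Agent.Lib.Components.le_pCore hn hpg
    have h2 : π x ∈ Rt := ⟨x, C.le hD hx, rfl⟩
    refine ⟨⟨π x, h2⟩, h1 ?_, rfl⟩
    exact ⟨x, hx, rfl⟩
  have hR : R ≤ ((pCore p ↥Rt).map Rt.subtype).comap π := by
    rw [← C.hgen]
    refine sSup_le fun D hDm x hx => ?_
    obtain ⟨y, hy, hyx⟩ := hD D hDm x hx
    exact ⟨y, hy, hyx⟩
  obtain ⟨y, hy, hyx⟩ := hR (C.hres g hg)
  obtain ⟨k, hk⟩ := hPp ⟨y, hy⟩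
  have hk2 : (π g) ^ (p ^ k) = 1 := by
    have h1 := congrArg (fun z : ↥(pCore p ↥Rt) => ((z : ↥Rt) : G ⧸ Y)) hk
    simp only [SubmonoidClass.mk_pow, OneMemClass.coe_one, SubgroupClass.coe_pow] at h1
    have h2 : ((y : ↥Rt) : G ⧸ Y) = π g := hyx
    rw [← h2]
    exact h1
  have h1 : orderOf (π g) ∣ p ^ k := orderOf_dvd_of_pow_eq_one hk2
  have h2 : orderOf (π g) ∣ orderOf g := orderOf_map_dvd π g
  have h3 : orderOf (π g) = 1 := Nat.eq_one_of_dvd_coprimes (Nat.Coprime.pow_right k hg) h2 h1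
  exact (QuotientGroup.eq_one_iff g).mp (orderOf_eq_one_iff.mp h3)

theorem dich (C : Ctx p 𝒟 R) {D₁ D₂ : Subgroup G} (h₁ : D₁ ∈ 𝒟) (h₂ : D₂ ∈ 𝒟) :
    ⁅D₁, D₂⁆ = ⊥ ∨ ((∀ e ∈ D₁, (orderOf e).Coprime p → e ∈ D₂) ∧ (∀ e ∈ D₂, (orderOf e).Coprime p → e ∈ D₁)) := by
  haveI := C.hRn
  rcases (C.hSI D₁ h₁).a D₂ ((C.le h₁).trans (C.hnorm D₂ h₂)) with a1 | a2
  · left
    have h := L C.hO (C.le h₁) (C.hnorm D₁ h₁) (C.hSI D₁ h₁) (C.le h₂) (C.hnorm D₂ h₂) a1
    rw [eq_bot_iff, Subgroup.commutator_le]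
    intro x hx y hy
    rw [Subgroup.mem_bot, commutatorElement_eq_one_iff_mul_comm]
    exact h x hx y hy
  · rcases (C.hSI D₂ h₂).a D₁ ((C.le h₂).trans (C.hnorm D₁ h₁)) with b1 | b2
    · left
      have h := L C.hO (C.le h₂) (C.hnorm D₂ h₂) (C.hSI D₂ h₂) (C.le h₁) (C.hnorm D₁ h₁) b1
      rw [eq_bot_iff, Subgroup.commutator_le]
      intro x hx y hy
      rw [Subgroup.mem_bot, commutatorElement_eq_one_iff_mul_comm]
      exact (h y hy x hx).symm
    · exact Or.inr ⟨a2, b2⟩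

/-- `B` modulo a normal subgroup being a `p`-group. -/
lemma pq {B A S : Subgroup G} (hBA : B ≤ normalizer (A : Set G)) (hSB : S ≤ B) (hS : ¬ p ∣ S.relIndex B)
    (hq : ∀ x ∈ B, ∃ k : ℕ, x ^ (p ^ k) ∈ A) : B ≤ A ⊔ S := by
  classical
  haveI hn : (A.subgroupOf B).Normal := by
    refine ⟨fun n hn g => ?_⟩
    rw [Subgroup.mem_subgroupOf] at hn ⊢
    exact (mem_normalizer_iff.mp (hBA g.2) n).mp hn
  have hquot : IsPGroup p (↥B ⧸ A.subgroupOf B) := by
    intro x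
    obtain ⟨b, rfl⟩ := QuotientGroup.mk'_surjective _ x
    obtain ⟨k, hk⟩ := hq b b.2
    refine ⟨k, ?_⟩
    rw [← map_pow]
    apply (QuotientGroup.eq_one_iff _).mpr
    rw [Subgroup.mem_subgroupOf]
    exact hk
  obtain ⟨n, hn'⟩ := IsPGroup.iff_card.mp hquot
  have hidx : (A.subgroupOf B).index = p ^ n := by
    rw [Subgroup.index_eq_card]
    exact hn'
  set D := (A ⊔ S).subgroupOf B with hD
  have h1 : D.index ∣ (A.subgroupOf B).index := by
    apply Subgroup.index_dvd_of_le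
    intro x hx
    rw [Subgroup.mem_subgroupOf] at hx
    exact Subgroup.mem_subgroupOf.mpr (Subgroup.mem_sup_left hx)
  have h2 : D.index ∣ S.relIndex B := by
    apply Subgroup.index_dvd_of_le
    intro x hx
    rw [Subgroup.mem_subgroupOf] at hx
    exact Subgroup.mem_subgroupOf.mpr (Subgroup.mem_sup_right hx)
  rw [hidx] at h1
  obtain ⟨j, -, hj⟩ := (Nat.dvd_prime_pow hp.out).mp h1
  have hj0 : j = 0 := by
    by_contra hne
    apply hS
    have : p ∣ D.index := by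
      rw [hj]
      exact dvd_pow_self p hne
    exact this.trans h2
  rw [hj0, pow_zero, Subgroup.index_eq_one] at hj
  intro x hx
  have h3 : (⟨x, hx⟩ : ↥B) ∈ D := by
    rw [hj]
    exact Subgroup.mem_top _
  exact Subgroup.mem_subgroupOf.mp h3

lemma inf_syl (S : Sylow p G) (N : Subgroup G) [N.Normal] : ¬ p ∣ ((S : Subgroup G) ⊓ N).relIndex N := by
  obtain ⟨P, hP⟩ := Cfsg.Agent.Lib.Coprime.exists_sylow_map_eq_inf S N
  have h1 : ((P : Subgroup ↥N).map N.subtype).subgroupOf N = P :=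
    Subgroup.comap_map_eq_self_of_injective N.subtype_injective _
  rw [← hP, Subgroup.relIndex, h1]
  exact P.not_dvd_index

theorem final (C : Ctx p 𝒟 R) {N : Subgroup G} [hN : N.Normal] :
    (∀ g : G, (orderOf g).Coprime p → g ∈ N) ∨ (∀ s ∈ N, (∃ k : ℕ, s ^ (p ^ k) = 1) → s = 1) := by
  classical
  haveI hRn := C.hRn
  set A : Subgroup G := N ⊓ R with hA
  haveI hAn : A.Normal := by
    rw [hA]
    infer_instance
  have hAnorm : ∀ X : Subgroup G, X ≤ normalizer (A : Set G) := by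
    intro X x _
    apply Cfsg.Agent.Lib.Coprime.mem_normalizer_of_conj_le
    intro y hy
    exact hAn.conj_mem y hy x
  by_cases hI : ∃ D ∈ 𝒟, ∀ e ∈ D, (orderOf e).Coprime p → e ∈ A
  · left
    obtain ⟨D₀, hD₀, hD₀A⟩ := hI
    have hall : ∀ D ∈ 𝒟, ∀ e ∈ D, (orderOf e).Coprime p → e ∈ A := by
      intro D hD e he hco
      obtain ⟨h, rfl⟩ := C.htr D₀ hD₀ D hD
      obtain ⟨d, hd, rfl⟩ := he
      have h1 : (MulAut.conj h).toMonoidHom d = h * d * h⁻¹ := rfl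
      rw [h1] at hco ⊢
      rw [orderOf_conj_eq] at hco
      exact hAn.conj_mem d (hD₀A d hd hco) h
    intro g hg
    exact (Subgroup.mem_inf.mp (G_lemma C hall g hg)).1
  · right
    push Not at hI
    have hcomm1 : ∀ D ∈ 𝒟, ∀ e ∈ D, ∀ y ∈ A, e * y = y * e := by
      intro D hD
      rcases (C.hSI D hD).a A (hAnorm D) with a1 | a2
      · exact L C.hO (C.le hD) (C.hnorm D hD) (C.hSI D hD) inf_le_right (hAnorm R) a1
      · exfalso
        obtain ⟨e, he, hco, hne⟩ := hI D hD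
        exact hne (a2 e he hco)
    have hcR : R ≤ centralizer (A : Set G) := by
      rw [← C.hgen]
      refine sSup_le fun D hD e he => ?_
      rw [mem_centralizer_iff]
      intro y hy
      exact (hcomm1 D hD e he y hy).symm
    have hAc : ∀ a ∈ A, ∀ b ∈ A, a * b = b * a := fun a ha b hb =>
      mem_centralizer_iff.mp (hcR (Subgroup.mem_inf.mp hb).2) a ha
    have hAp : ∀ a ∈ A, ∀ k : ℕ, a ^ (p ^ k) = 1 → a = 1 := fun a ha k hk =>
      pelem_trivial C.hO inf_le_right (hAnorm R) hAc ha hk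
    have hAcop : ∀ a ∈ A, (orderOf a).Coprime p := by
      intro a ha
      rw [Nat.coprime_comm, Nat.Prime.coprime_iff_not_dvd hp.out]
      intro hdvd
      have h1 : orderOf (a ^ (orderOf a / p)) = p := orderOf_pow_orderOf_div (orderOf_pos a).ne' hdvd
      have h2 : (a ^ (orderOf a / p)) ^ (p ^ 1) = 1 := by
        have h0 := pow_orderOf_eq_one (a ^ (orderOf a / p))
        rw [h1] at h0
        rwa [pow_one]
      have h3 := hAp _ (A.pow_mem ha _) 1 h2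
      rw [h3, orderOf_one] at h1
      exact hp.out.ne_one h1.symm
    -- everything in `N` commutes with `A`
    have hs : ∀ s ∈ N, ∀ a ∈ A, a * s = s * a := by
      intro s hsN a ha
      let Y₀ : Subgroup G := closure {e : G | ∃ D ∈ 𝒟, e ∈ D ∧ (orderOf e).Coprime p}
      haveI hY₀ : Y₀.Normal := by
        refine ⟨fun n hn g => ?_⟩
        have hle : Y₀.map (MulAut.conj g).toMonoidHom ≤ Y₀ := by
          rw [MonoidHom.map_closure, closure_le]
          rintro _ ⟨e, ⟨D, hD, he, hco⟩, rfl⟩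
          refine subset_closure ⟨_, C.hconj g D hD, ⟨e, he, rfl⟩, ?_⟩
          have h1 : (MulAut.conj g).toMonoidHom e = g * e * g⁻¹ := rfl
          rw [h1, orderOf_conj_eq]
          exact hco
        exact hle ⟨n, hn, rfl⟩
      have hgen : ∀ g : G, (orderOf g).Coprime p → g ∈ Y₀ :=
        G_lemma C (fun D hD e he hco => subset_closure ⟨D, hD, he, hco⟩)
      have hcY : Y₀ ≤ centralizer ({s} : Set G) := by
        rw [closure_le]
        rintro e ⟨D, hD, he, hco⟩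
        rw [SetLike.mem_coe, mem_centralizer_iff]
        intro x hx
        have hxs : x = s := hx
        rw [hxs]
        have hcZ : ∀ e ∈ D, e * s * e⁻¹ * s⁻¹ ∈ A := by
          intro e he
          refine Subgroup.mem_inf.mpr ⟨N.mul_mem (hN.conj_mem s hsN e) (N.inv_mem hsN), ?_⟩
          have h1 : e * s * e⁻¹ * s⁻¹ = e * (s * e⁻¹ * s⁻¹) := by group
          rw [h1]
          exact R.mul_mem (C.le hD he) (hRn.conj_mem _ (R.inv_mem (C.le hD he)) s)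
        have hZD : ∀ z ∈ A, ∀ e ∈ D, z * e = e * z := fun z hz e he => (hcomm1 D hD e he z hz).symm
        have h2 := comm_of_commutator hcZ hZD hAc e (Cfsg.Agent.Lib.Coprime.PMin.C (C.hSI D hD) e he hco)
        exact h2.symm
      have h3 := hcY (hgen a (hAcop a ha))
      exact (mem_centralizer_iff.mp h3 s rfl).symm
    intro s hsN ⟨k, hk⟩
    have hz : IsPGroup p (zpowers s) := by
      rintro ⟨y, n, rfl⟩
      refine ⟨k, Subtype.ext ?_⟩
      show (s ^ n) ^ (p ^ k) = 1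
      rw [← zpow_natCast, ← zpow_mul, mul_comm, zpow_mul, zpow_natCast, hk, one_zpow]
    obtain ⟨S, hS⟩ := hz.exists_le_sylow
    set S₁ : Subgroup G := (S : Subgroup G) ⊓ N with hS₁
    have hq : ∀ x ∈ N, ∃ k : ℕ, x ^ (p ^ k) ∈ A := by
      intro x hx
      obtain ⟨k, hk⟩ := exists_pow_coprime (p := p) x
      exact ⟨k, Subgroup.mem_inf.mpr ⟨N.pow_mem hx _, C.hres _ hk⟩⟩
    have hle := pq (hAnorm N) (inf_le_right : S₁ ≤ N) (inf_syl S N) hq
    have hnS : N ≤ normalizer (S₁ : Set G) := by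
      refine hle.trans (sup_le ?_ Subgroup.le_normalizer)
      intro a ha
      apply Cfsg.Agent.Lib.Coprime.mem_normalizer_of_conj_le
      intro x hx
      have h1 : a * x = x * a := hs x (Subgroup.mem_inf.mp hx).2 a ha
      rw [h1, mul_inv_cancel_right]
      exact hx
    have hS₁p : IsPGroup p S₁ := S.isPGroup'.to_le inf_le_left
    have hbot : S₁ = ⊥ := sub_bot C.hO (inf_le_right : S₁ ≤ N) hnS hS₁p
    have hsS : s ∈ S₁ := Subgroup.mem_inf.mpr ⟨hS (mem_zpowers s), hsN⟩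
    rw [hbot] at hsS
    exact hsS

end Cfsg.Agent.Lib.Coprime.PMin
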