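import Mathlib
import Cfsg.Agent.Lib.Coprime.Action
import Cfsg.Agent.Lib.Coprime.Abelian
import Cfsg.Agent.Lib.Basic.MinNormal
import Cfsg.Agent.Lib.Basic.Glauberman
import Cfsg.Agent.Lib.Basic.Frattini
import Cfsg.Agent.Lib.OddLocal.CoprimeFix
import Cfsg.Agent.Lib.FT.FrobFix
import Cfsg.Agent.Lib.Transfer.Frattini

/-!
# Fixed points of `[H, P]` are generated by fixed points of the `[h, P]`: basic notions

`P` is a subgroup of a finite group `Γ` acting on a subgroup by conjugation; `LL P g` is the subgroup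
`[g, P]` generated by the `g⁻¹ (a g a⁻¹)`, `a ∈ P`, and `YY P S` is generated by the fixed points of `P` in the
`[g, P]` with `g ∈ S`.
-/

set_option autoImplicit false
set_option linter.unusedSectionVars false
set_option linter.style.haveILetI false
set_option linter.unusedVariables false

namespace Cfsg.Agent.Lib.Coprime.TG

open Subgroup Cfsg Cfsg.Agent.Lib.Coprime
open scoped commutatorElement

universe u

variable {Γ : Type*} [Group Γ]

/-- The subgroup `[g, P]`. -/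
def LL (P : Subgroup Γ) (g : Γ) : Subgroup Γ := closure {c | ∃ a ∈ P, c = g⁻¹ * (a * g * a⁻¹)}

/-- The subgroup generated by the fixed points of `P` in the `[g, P]`, `g ∈ S`. -/
def YY (P S : Subgroup Γ) : Subgroup Γ := ⨆ g : S, LL P (g : Γ) ⊓ centralizer (P : Set Γ)

/-- The statement to be proved. -/
def TGProp (P H : Subgroup Γ) : Prop := ⁅H, P⁆ ⊓ centralizer (P : Set Γ) ≤ YY P H

theorem mem_LL {P : Subgroup Γ} {g a : Γ} (ha : a ∈ P) : g⁻¹ * (a * g * a⁻¹) ∈ LL P g :=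
  subset_closure ⟨a, ha, rfl⟩

theorem comm_inv_eq (g a : Γ) : g⁻¹ * (a * g * a⁻¹) = ⁅g⁻¹, a⁆ := by
  rw [commutatorElement_def]
  group

theorem LL_le_comm {P S : Subgroup Γ} {g : Γ} (hg : g ∈ S) : LL P g ≤ ⁅S, P⁆ := by
  rw [LL, closure_le]
  rintro _ ⟨a, ha, rfl⟩
  rw [SetLike.mem_coe, comm_inv_eq]
  exact commutator_mem_commutator (S.inv_mem hg) ha

theorem comm_le_of_forall {P S T : Subgroup Γ} (h : ∀ g ∈ S, LL P g ≤ T) : ⁅S, P⁆ ≤ T := by
  rw [Subgroup.commutator_le]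
  intro g hg a ha
  have h1 := h g⁻¹ (S.inv_mem hg) (mem_LL ha)
  rwa [comm_inv_eq, inv_inv] at h1

theorem conj_mem_of_le_normalizer {P S : Subgroup Γ} (hS : P ≤ normalizer (S : Set Γ)) {a s : Γ} (ha : a ∈ P)
    (hs : s ∈ S) : a * s * a⁻¹ ∈ S :=
  (Subgroup.mem_normalizer_iff.1 (hS ha) s).1 hs

theorem le_normalizer_of_conj_mem {P S : Subgroup Γ} [Finite Γ] (hS : ∀ a ∈ P, ∀ s ∈ S, a * s * a⁻¹ ∈ S) :
    P ≤ normalizer (S : Set Γ) := by
  intro a ha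
  rw [Subgroup.mem_normalizer_iff]
  intro s
  refine ⟨hS a ha s, fun h => ?_⟩
  have h1 := hS a⁻¹ (P.inv_mem ha) _ h
  have h2 : a⁻¹ * (a * s * a⁻¹) * a⁻¹⁻¹ = s := by group
  rwa [h2] at h1

theorem LL_le_of_mem {P S : Subgroup Γ} (hS : P ≤ normalizer (S : Set Γ)) {g : Γ} (hg : g ∈ S) : LL P g ≤ S := by
  rw [LL, closure_le]
  rintro _ ⟨a, ha, rfl⟩
  exact S.mul_mem (S.inv_mem hg) (conj_mem_of_le_normalizer hS ha hg)

/-- `P` normalizes `[g, P]`. -/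
theorem conj_LL {P : Subgroup Γ} {g b : Γ} (hb : b ∈ P) {x : Γ} (hx : x ∈ LL P g) : b * x * b⁻¹ ∈ LL P g := by
  have h1 : LL P g ≤ (LL P g).comap (MulAut.conj b).toMonoidHom := by
    rw [LL, closure_le]
    rintro _ ⟨a, ha, rfl⟩
    rw [SetLike.mem_coe, Subgroup.mem_comap]
    have h2 : (MulAut.conj b).toMonoidHom (g⁻¹ * (a * g * a⁻¹)) =
        (g⁻¹ * (b * g * b⁻¹))⁻¹ * (g⁻¹ * ((b * a) * g * (b * a)⁻¹)) := by
      simp only [MulEquiv.coe_toMonoidHom, MulAut.conj_apply]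
      group
    rw [h2]
    exact (LL P g).mul_mem ((LL P g).inv_mem (mem_LL hb)) (mem_LL (P.mul_mem hb ha))
  exact h1 hx

theorem LL_le_normalizer {P : Subgroup Γ} [Finite Γ] (g : Γ) : P ≤ normalizer ((LL P g : Subgroup Γ) : Set Γ) :=
  le_normalizer_of_conj_mem (fun _ ha _ hs => conj_LL ha hs)

/-- Conjugation by a fixed element. -/
theorem conj_LL_C {P : Subgroup Γ} {g c : Γ} (hc : c ∈ centralizer (P : Set Γ)) {x : Γ} (hx : x ∈ LL P g) :
    c * x * c⁻¹ ∈ LL P (c * g * c⁻¹) := by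
  have h1 : LL P g ≤ (LL P (c * g * c⁻¹)).comap (MulAut.conj c).toMonoidHom := by
    rw [LL, closure_le]
    rintro _ ⟨a, ha, rfl⟩
    rw [SetLike.mem_coe, Subgroup.mem_comap]
    have hac : a * c = c * a := Subgroup.mem_centralizer_iff.1 hc a ha
    have h2 : (MulAut.conj c).toMonoidHom (g⁻¹ * (a * g * a⁻¹)) =
        (c * g * c⁻¹)⁻¹ * (a * (c * g * c⁻¹) * a⁻¹) := by
      have h3 : c⁻¹ * a * c = a := by
        calc c⁻¹ * a * c = c⁻¹ * (a * c) := by group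
          _ = c⁻¹ * (c * a) := by rw [hac]
          _ = a := by group
      have h4 : c⁻¹ * a⁻¹ = a⁻¹ * c⁻¹ := by
        calc c⁻¹ * a⁻¹ = (a * c)⁻¹ := by group
          _ = (c * a)⁻¹ := by rw [hac]
          _ = a⁻¹ * c⁻¹ := by group
      simp only [MulEquiv.coe_toMonoidHom, MulAut.conj_apply]
      calc c * (g⁻¹ * (a * g * a⁻¹)) * c⁻¹ = c * g⁻¹ * a * g * (a⁻¹ * c⁻¹) := by group
        _ = c * g⁻¹ * (c⁻¹ * a * c) * g * (c⁻¹ * a⁻¹) := by rw [h3, h4]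
        _ = (c * g * c⁻¹)⁻¹ * (a * (c * g * c⁻¹) * a⁻¹) := by group
    rw [h2]
    exact mem_LL ha
  exact h1 hx

theorem mem_YY {P S : Subgroup Γ} {g x : Γ} (hg : g ∈ S) (hx : x ∈ LL P g) (hxC : x ∈ centralizer (P : Set Γ)) :
    x ∈ YY P S :=
  (le_iSup (fun g : S => LL P (g : Γ) ⊓ centralizer (P : Set Γ)) ⟨g, hg⟩) (Subgroup.mem_inf.2 ⟨hx, hxC⟩)

theorem YY_le_centralizer (P S : Subgroup Γ) : YY P S ≤ centralizer (P : Set Γ) :=
  iSup_le fun _ => inf_le_right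

theorem YY_le {P S : Subgroup Γ} (hS : P ≤ normalizer (S : Set Γ)) : YY P S ≤ S :=
  iSup_le fun g => inf_le_left.trans (LL_le_of_mem hS g.2)

theorem YY_mono {P S T : Subgroup Γ} (h : S ≤ T) : YY P S ≤ YY P T :=
  iSup_le fun g => le_iSup (fun g : T => LL P (g : Γ) ⊓ centralizer (P : Set Γ)) ⟨g, h g.2⟩

/-- `C_S(P)` normalizes `YY P S`. -/
theorem conj_YY {P S : Subgroup Γ} {c : Γ} (hcS : c ∈ S) (hc : c ∈ centralizer (P : Set Γ)) {y : Γ}
    (hy : y ∈ YY P S) : c * y * c⁻¹ ∈ YY P S := by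
  have h1 : YY P S ≤ (YY P S).comap (MulAut.conj c).toMonoidHom := by
    refine iSup_le fun g => ?_
    intro x hx
    obtain ⟨hx1, hx2⟩ := Subgroup.mem_inf.1 hx
    rw [Subgroup.mem_comap]
    refine mem_YY (g := c * (g : Γ) * c⁻¹) (S.mul_mem (S.mul_mem hcS g.2) (S.inv_mem hcS)) (conj_LL_C hc hx1) ?_
    exact (centralizer (P : Set Γ)).mul_mem ((centralizer (P : Set Γ)).mul_mem hc hx2)
      ((centralizer (P : Set Γ)).inv_mem hc)
  exact h1 hy

/-- Images under a homomorphism. -/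
theorem map_LL {Γ' : Type*} [Group Γ'] (f : Γ →* Γ') (P : Subgroup Γ) (g : Γ) :
    (LL P g).map f = LL (P.map f) (f g) := by
  rw [LL, LL, MonoidHom.map_closure]
  congr 1
  ext x
  constructor
  · rintro ⟨_, ⟨a, ha, rfl⟩, rfl⟩
    exact ⟨f a, ⟨a, ha, rfl⟩, by simp⟩
  · rintro ⟨_, ⟨a, ha, rfl⟩, rfl⟩
    exact ⟨_, ⟨a, ha, rfl⟩, by simp⟩

section Finite

variable [Finite Γ]

/-- Decomposition through a quotient. -/
theorem YY_map_le (P H R : Subgroup Γ) [hRn : R.Normal] (hact : CoprimeAction P H)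
    (hRH : R ≤ H) : YY (P.map (QuotientGroup.mk' R)) (H.map (QuotientGroup.mk' R)) ≤
      (YY P H).map (QuotientGroup.mk' R) := by
  refine iSup_le ?_
  rintro ⟨_, g, hg, rfl⟩ x hx
  obtain ⟨hx1, hx2⟩ := Subgroup.mem_inf.1 hx
  have hx1' : x ∈ (LL P g).map (QuotientGroup.mk' R) := by
    rw [map_LL]
    exact hx1
  obtain ⟨x, hxL, rfl⟩ := hx1'
  have hlift : ∃ n ∈ R ⊓ LL P g, n * x ∈ centralizer (P : Set Γ) := by
    apply Cfsg.Agent.Lib.OddLocal.exists_mul_mem_centralizer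
    · apply le_normalizer_of_conj_mem
      intro a ha s hs
      obtain ⟨hs1, hs2⟩ := Subgroup.mem_inf.1 hs
      exact Subgroup.mem_inf.2 ⟨hRn.conj_mem s hs1 a, conj_LL ha hs2⟩
    · have h1 : Nat.card ↥(R ⊓ LL P g) ∣ Nat.card H := Subgroup.card_dvd_of_le (inf_le_left.trans hRH)
      exact Nat.Coprime.coprime_dvd_left h1 hact.coprime.symm
    · rcases hact.solvable with h | h
      · exact Or.inr h
      · left
        haveI := h
        exact Group.isSolvable_of_isSolvable_injective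
          (f := Subgroup.inclusion (inf_le_left.trans hRH : R ⊓ LL P g ≤ H)) (Subgroup.inclusion_injective _)
    · intro a ha
      refine Subgroup.mem_inf.2 ⟨?_, ?_⟩
      · have h2 : QuotientGroup.mk' R a * QuotientGroup.mk' R x = QuotientGroup.mk' R x * QuotientGroup.mk' R a :=
          Subgroup.mem_centralizer_iff.1 hx2 _ ⟨a, ha, rfl⟩
        have h3 : x * a * x⁻¹ * a⁻¹ ∈ (QuotientGroup.mk' R).ker := by
          rw [MonoidHom.mem_ker]
          simp only [map_mul, map_inv]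
          rw [← h2]
          group
        rwa [QuotientGroup.ker_mk'] at h3
      · have h4 : x * a * x⁻¹ * a⁻¹ = x * (a * x⁻¹ * a⁻¹) := by group
        rw [h4]
        exact (LL P g).mul_mem hxL (conj_LL ha ((LL P g).inv_mem hxL))
  obtain ⟨n, hn, hnx⟩ := hlift
  obtain ⟨hn1, hn2⟩ := Subgroup.mem_inf.1 hn
  refine ⟨n * x, mem_YY hg ((LL P g).mul_mem hn2 hxL) hnx, ?_⟩
  have hπn : QuotientGroup.mk' R n = 1 := (QuotientGroup.eq_one_iff n).2 hn1
  rw [map_mul, hπn, one_mul]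

/-- Lemma Q: the quotient step. -/
theorem exists_decomp (P H R : Subgroup Γ) [hRn : R.Normal] (hact : CoprimeAction P H) (hRH : R ≤ H)
    (hTG : TGProp (P.map (QuotientGroup.mk' R)) (H.map (QuotientGroup.mk' R))) {c : Γ} (hc : c ∈ ⁅H, P⁆)
    (hcC : c ∈ centralizer (P : Set Γ)) :
    ∃ y ∈ YY P H, ∃ r ∈ R ⊓ centralizer (P : Set Γ), c = y * r := by
  have h1 : QuotientGroup.mk' R c ∈ ⁅H.map (QuotientGroup.mk' R), P.map (QuotientGroup.mk' R)⁆ := by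
    rw [← Subgroup.map_commutator]
    exact ⟨c, hc, rfl⟩
  have h2 : QuotientGroup.mk' R c ∈ centralizer ((P.map (QuotientGroup.mk' R) : Subgroup _) : Set (Γ ⧸ R)) := by
    rw [Subgroup.mem_centralizer_iff]
    rintro _ ⟨a, ha, rfl⟩
    rw [← map_mul, ← map_mul, Subgroup.mem_centralizer_iff.1 hcC a ha]
  have h3 := hTG (Subgroup.mem_inf.2 ⟨h1, h2⟩)
  obtain ⟨y, hy, hyc⟩ := YY_map_le P H R hact hRH h3
  refine ⟨y, hy, y⁻¹ * c, Subgroup.mem_inf.2 ⟨?_, ?_⟩, by group⟩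
  · exact QuotientGroup.eq.1 hyc
  · exact (centralizer (P : Set Γ)).mul_mem ((centralizer (P : Set Γ)).inv_mem (YY_le_centralizer P H hy)) hcC

end Finite

/-- Lemma E: reduction to `H ⊔ P = ⊤`. -/
theorem TGProp_of_sup {P H : Subgroup Γ}
    (hTG : TGProp (P.subgroupOf (H ⊔ P)) (H.subgroupOf (H ⊔ P))) : TGProp P H := by
  intro c hc
  obtain ⟨hc1, hc2⟩ := Subgroup.mem_inf.1 hc
  have hle : ⁅H, P⁆ ≤ H ⊔ P := by
    rw [Subgroup.commutator_le]
    intro x hx a ha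
    rw [commutatorElement_def]
    have hx' : x ∈ H ⊔ P := (le_sup_left : H ≤ H ⊔ P) hx
    have ha' : a ∈ H ⊔ P := (le_sup_right : P ≤ H ⊔ P) ha
    exact (H ⊔ P).mul_mem ((H ⊔ P).mul_mem ((H ⊔ P).mul_mem hx' ha') ((H ⊔ P).inv_mem hx')) ((H ⊔ P).inv_mem ha')
  let ι := (H ⊔ P).subtype
  have hH : (H.subgroupOf (H ⊔ P)).map ι = H := Subgroup.map_subgroupOf_eq_of_le le_sup_left
  have hP : (P.subgroupOf (H ⊔ P)).map ι = P := Subgroup.map_subgroupOf_eq_of_le le_sup_right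
  have hc1' : (⟨c, hle hc1⟩ : ↥(H ⊔ P)) ∈ ⁅H.subgroupOf (H ⊔ P), P.subgroupOf (H ⊔ P)⁆ := by
    have h2 : (⁅H.subgroupOf (H ⊔ P), P.subgroupOf (H ⊔ P)⁆).map ι = ⁅H, P⁆ := by
      rw [Subgroup.map_commutator, hH, hP]
    have hc1'' : c ∈ (⁅H.subgroupOf (H ⊔ P), P.subgroupOf (H ⊔ P)⁆).map ι := by
      rw [h2]
      exact hc1
    obtain ⟨x, hx, hxc⟩ := hc1''
    have hxe : (⟨c, hle hc1⟩ : ↥(H ⊔ P)) = x := Subtype.ext hxc.symm
    rw [hxe]
    exact hx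
  have hc2' : (⟨c, hle hc1⟩ : ↥(H ⊔ P)) ∈ centralizer ((P.subgroupOf (H ⊔ P) : Subgroup _) : Set ↥(H ⊔ P)) := by
    rw [Subgroup.mem_centralizer_iff]
    intro a ha
    apply Subtype.ext
    exact Subgroup.mem_centralizer_iff.1 hc2 (a : Γ) (Subgroup.mem_subgroupOf.1 ha)
  have h5 := hTG (Subgroup.mem_inf.2 ⟨hc1', hc2'⟩)
  have h6 : YY (P.subgroupOf (H ⊔ P)) (H.subgroupOf (H ⊔ P)) ≤ (YY P H).comap ι := by
    refine iSup_le ?_
    rintro ⟨g, hg⟩ x hx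
    obtain ⟨hx1, hx2⟩ := Subgroup.mem_inf.1 hx
    rw [Subgroup.mem_comap]
    have hx3 : ι x ∈ (LL (P.subgroupOf (H ⊔ P)) g).map ι := ⟨x, hx1, rfl⟩
    rw [map_LL, hP] at hx3
    refine mem_YY (Subgroup.mem_subgroupOf.1 hg) hx3 ?_
    rw [Subgroup.mem_centralizer_iff]
    intro a ha
    have hha : (⟨a, (le_sup_right : P ≤ H ⊔ P) ha⟩ : ↥(H ⊔ P)) ∈ P.subgroupOf (H ⊔ P) :=
      Subgroup.mem_subgroupOf.2 ha
    have := Subgroup.mem_centralizer_iff.1 hx2 _ hha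
    exact congrArg Subtype.val this
  exact h6 h5

end Cfsg.Agent.Lib.Coprime.TG
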