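import Mathlib
import Cfsg.Agent.Lib.Coprime.TG1
import Cfsg.Agent.Lib.Coprime.BProp2

/-!
# Fixed points of `[H, P]`: two tools

If `R` is nilpotent, generated by the `P`-orbit of `g`, and `[R, P] = R` then `[g, P] = R`; and the
fixed point bound for a module with a Frobenius section.
-/

set_option autoImplicit false
set_option linter.unusedSectionVars false
set_option linter.style.haveILetI false
set_option linter.unusedVariables false

namespace Cfsg.Agent.Lib.Coprime.TG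

open Subgroup Cfsg Cfsg.Agent.Lib.Coprime
open scoped commutatorElement

variable {Γ : Type*} [Group Γ] [Finite Γ]

theorem LL_eq_of_generated {R P : Subgroup Γ} {g : Γ} (hgR : g ∈ R) (hRP : P ≤ normalizer (R : Set Γ))
    (hnil : Group.IsNilpotent R) (hcomm : ⁅R, P⁆ = R) (hgen : R ≤ closure {c | ∃ b ∈ P, c = b * g * b⁻¹}) :
    LL P g = R := by
  classical
  have hLR : LL P g ≤ R := LL_le_of_mem hRP hgR
  by_contra hne
  have hL' : (LL P g).subgroupOf R ≠ ⊤ := by
    intro h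
    apply hne
    exact le_antisymm hLR (Subgroup.subgroupOf_eq_top.1 h)
  obtain ⟨M, hM, hLM⟩ := Cfsg.Agent.Lib.Basic.exists_isCoatom_ge hL'
  haveI := hnil
  haveI hMn : M.Normal := Cfsg.Agent.Lib.Basic.isCoatom_normal_of_isNilpotent hM
  set M' := M.map R.subtype with hM'
  have hLM' : LL P g ≤ M' := by
    intro x hx
    exact ⟨⟨x, hLR hx⟩, hLM (Subgroup.mem_subgroupOf.2 hx), rfl⟩
  have hMR : M' ≤ R := by
    rintro _ ⟨y, _, rfl⟩
    exact y.2
  have hMconj : ∀ y ∈ R, ∀ d ∈ M', y⁻¹ * d * y ∈ M' := by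
    intro y hy d hd
    obtain ⟨d₀, hd₀, rfl⟩ := hd
    have h1 := hMn.conj_mem d₀ hd₀ ⟨y⁻¹, R.inv_mem hy⟩
    refine ⟨_, h1, ?_⟩
    simp
  let Fx : Subgroup Γ :=
    { carrier := {x | x ∈ R ∧ ∀ a ∈ P, x⁻¹ * (a * x * a⁻¹) ∈ M'}
      one_mem' := ⟨R.one_mem, fun a _ => by simpa using M'.one_mem⟩
      mul_mem' := by
        rintro x y ⟨hx, hx2⟩ ⟨hy, hy2⟩
        refine ⟨R.mul_mem hx hy, fun a ha => ?_⟩
        have h1 := hMconj y hy _ (hx2 a ha)
        have h2 := hy2 a ha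
        have h3 : (x * y)⁻¹ * (a * (x * y) * a⁻¹) = (y⁻¹ * (x⁻¹ * (a * x * a⁻¹)) * y) * (y⁻¹ * (a * y * a⁻¹)) := by
          group
        rw [h3]
        exact M'.mul_mem h1 h2
      inv_mem' := by
        rintro x ⟨hx, hx2⟩
        refine ⟨R.inv_mem hx, fun a ha => ?_⟩
        have h1 := hMconj x⁻¹ (R.inv_mem hx) _ (M'.inv_mem (hx2 a ha))
        have h3 : x⁻¹⁻¹ * (a * x⁻¹ * a⁻¹) = x⁻¹⁻¹ * (x⁻¹ * (a * x * a⁻¹))⁻¹ * x⁻¹ := by
          group
        rw [h3]
        exact h1 }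
  have hFx : closure {c | ∃ b ∈ P, c = b * g * b⁻¹} ≤ Fx := by
    rw [closure_le]
    rintro _ ⟨b, hb, rfl⟩
    refine ⟨conj_mem_of_le_normalizer hRP hb hgR, fun a ha => ?_⟩
    have h3 : (b * g * b⁻¹)⁻¹ * (a * (b * g * b⁻¹) * a⁻¹) =
        b * (g⁻¹ * ((b⁻¹ * a * b) * g * (b⁻¹ * a * b)⁻¹)) * b⁻¹ := by
      group
    rw [h3]
    apply hLM'
    exact conj_LL hb (mem_LL (P.mul_mem (P.mul_mem (P.inv_mem hb) ha) hb))
  have hall : ∀ x ∈ R, ∀ a ∈ P, x⁻¹ * (a * x * a⁻¹) ∈ M' := fun x hx => (hFx (hgen hx)).2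
  have hcM : ⁅R, P⁆ ≤ M' := by
    apply comm_le_of_forall
    intro x hx
    rw [LL, closure_le]
    rintro _ ⟨a, ha, rfl⟩
    exact hall x hx a ha
  have hRM : R ≤ M' := by
    rw [← hcomm]
    exact hcM
  apply hM.1
  rw [eq_top_iff]
  intro x _
  obtain ⟨y, hy, hxy⟩ := hRM x.2
  have : y = x := Subtype.ext hxy
  rwa [← this]

/-- Fixed points in a module with a Frobenius section. -/
theorem frob_bound {p q r : ℕ} [hp : Fact p.Prime] [hq : Fact q.Prime] [hr : Fact r.Prime] (V R P : Subgroup Γ)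
    (hVn : V.Normal) (hVab : IsMulCommutative V) (hVq : IsPGroup q V) (hRp : IsPGroup r R)
    (hcardP : Nat.card P = p) (hPR : P ≤ normalizer (R : Set Γ)) (hrq : r ≠ q) (hpq : p ≠ q) (hpr : p ≠ r)
    (htop : V ⊔ R ⊔ P = ⊤) (hmin : ∀ K : Subgroup Γ, K.Normal → K ≤ V → K = ⊥ ∨ K = V)
    (hnt : ¬ R ≤ centralizer (V : Set Γ)) :
    (∃ y ∈ R ⊓ centralizer (P : Set Γ), y ∉ centralizer (V : Set Γ) ∧
        ∀ x ∈ R, x * y * x⁻¹ * y⁻¹ ∈ centralizer (V : Set Γ)) ∨
      Nat.card ↥(V ⊓ centralizer (P : Set Γ)) ^ p ≤ Nat.card V := by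
  classical
  have hVc : ∀ u ∈ V, ∀ v ∈ V, u * v = v * u := by
    intro u hu v hv
    have := mul_comm' (⟨u, hu⟩ : V) (⟨v, hv⟩ : V)
    exact congrArg Subtype.val this
  have hPp : IsPGroup p P := IsPGroup.of_card (n := 1) (by rw [hcardP, pow_one])
  have hCVn : ∀ g x, x ∈ centralizer (V : Set Γ) → g * x * g⁻¹ ∈ centralizer (V : Set Γ) := by
    intro g x hx
    rw [Subgroup.mem_centralizer_iff] at hx ⊢
    intro y hy
    have hy' : g⁻¹ * y * g ∈ V := by
      have := hVn.conj_mem y hy g⁻¹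
      simpa using this
    have h1 := hx _ hy'
    calc y * (g * x * g⁻¹) = g * ((g⁻¹ * y * g) * x) * g⁻¹ := by group
      _ = g * (x * (g⁻¹ * y * g)) * g⁻¹ := by rw [h1]
      _ = g * x * g⁻¹ * y := by group
  set R₀ := R ⊓ centralizer (V : Set Γ) with hR₀
  have hPRc : ∀ a ∈ P, ∀ x ∈ R, a * x * a⁻¹ ∈ R := fun a ha x hx => conj_mem_of_le_normalizer hPR ha hx
  have hR₀n : R₀.Normal := by
    have h1 : V ≤ normalizer (R₀ : Set Γ) := by
      apply le_normalizer_of_conj_mem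
      intro v hv x hx
      have h2 : x * v = v * x := (Subgroup.mem_centralizer_iff.1 (Subgroup.mem_inf.1 hx).2 v hv).symm
      have h3 : v * x * v⁻¹ = x := by
        rw [← h2]
        group
      rwa [h3]
    have h2 : R ≤ normalizer (R₀ : Set Γ) := by
      apply le_normalizer_of_conj_mem
      intro y hy x hx
      obtain ⟨hx1, hx2⟩ := Subgroup.mem_inf.1 hx
      exact Subgroup.mem_inf.2 ⟨R.mul_mem (R.mul_mem hy hx1) (R.inv_mem hy), hCVn y x hx2⟩
    have h3 : P ≤ normalizer (R₀ : Set Γ) := by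
      apply le_normalizer_of_conj_mem
      intro y hy x hx
      obtain ⟨hx1, hx2⟩ := Subgroup.mem_inf.1 hx
      exact Subgroup.mem_inf.2 ⟨hPRc y hy x hx1, hCVn y x hx2⟩
    have h4 : V ⊔ R ⊔ P ≤ normalizer (R₀ : Set Γ) := sup_le (sup_le h1 h2) h3
    rw [htop] at h4
    exact ⟨fun x hx g => (Subgroup.mem_normalizer_iff.1 (h4 (Subgroup.mem_top g)) x).1 hx⟩
  have hR₀R : R₀ ≤ R := inf_le_left
  have hdisjV : ∀ x ∈ R₀, x ∈ V → x = 1 := by
    intro x hx hxV
    have h1 : Disjoint R V := IsPGroup.disjoint_of_ne r q hrq R V hRp hVq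
    exact (Subgroup.disjoint_def.1 h1) (hR₀R hx) hxV
  have hdisjP : ∀ x ∈ R₀, x ∈ P → x = 1 := by
    intro x hx hxP
    have h1 : Disjoint R P := IsPGroup.disjoint_of_ne r p hpr.symm R P hRp hPp
    exact (Subgroup.disjoint_def.1 h1) (hR₀R hx) hxP
  let π := QuotientGroup.mk' R₀
  have hπ1 : ∀ x, π x = 1 ↔ x ∈ R₀ := fun x => QuotientGroup.eq_one_iff x
  set Rb := R.map π with hRb
  set Pb := P.map π with hPb
  set Vb := V.map π with hVb
  have hRbp : IsPGroup r Rb := hRp.map π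
  set Zb := Rb ⊓ centralizer (Rb : Set (Γ ⧸ R₀)) with hZb
  have hnt' : Nontrivial Rb := by
    rw [Subgroup.nontrivial_iff_ne_bot]
    intro h
    apply hnt
    intro x hx
    have h1 : π x ∈ Rb := ⟨x, hx, rfl⟩
    rw [h] at h1
    exact (Subgroup.mem_inf.1 ((hπ1 x).1 (Subgroup.mem_bot.1 h1))).2
  obtain ⟨z₀, hz₀⟩ : ∃ z₀ : Γ ⧸ R₀, z₀ ∈ Zb ∧ z₀ ≠ 1 := by
    haveI := hnt'
    haveI := hRbp.center_nontrivial
    obtain ⟨z, hz⟩ := exists_ne (1 : Subgroup.center Rb)
    refine ⟨((z : Rb) : Γ ⧸ R₀), Subgroup.mem_inf.2 ⟨(z : Rb).2, ?_⟩, ?_⟩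
    · rw [Subgroup.mem_centralizer_iff]
      intro y hy
      have h1 := (Subgroup.mem_center_iff.1 z.2) ⟨y, hy⟩
      exact congrArg Subtype.val h1
    · intro h
      apply hz
      exact Subtype.ext (Subtype.ext h)
  have hcPb : Nat.card Pb = p := by
    rw [← hcardP]
    exact Cfsg.Agent.Lib.Coprime.BP.card_map_of_inj π P (fun a ha h1 => hdisjP a ((hπ1 a).1 h1) ha)
  have hZn : ∀ e ∈ Pb, ∀ u ∈ Zb, e * u * e⁻¹ ∈ Zb := by
    rintro _ ⟨a, ha, rfl⟩ u hu
    obtain ⟨hu1, hu2⟩ := Subgroup.mem_inf.1 hu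
    refine Subgroup.mem_inf.2 ⟨?_, ?_⟩
    · obtain ⟨u₀, hu₀, rfl⟩ := hu1
      exact ⟨a * u₀ * a⁻¹, hPRc a ha u₀ hu₀, by simp⟩
    · rw [Subgroup.mem_centralizer_iff]
      rintro _ ⟨x, hx, rfl⟩
      have hx' : π (a⁻¹ * x * a) ∈ Rb := ⟨_, by simpa using hPRc a⁻¹ (P.inv_mem ha) x hx, rfl⟩
      have h1 := Subgroup.mem_centralizer_iff.1 hu2 _ hx'
      simp only [map_mul, map_inv] at h1 ⊢
      calc π x * (π a * u * (π a)⁻¹) = π a * (((π a)⁻¹ * π x * π a) * u) * (π a)⁻¹ := by group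
        _ = π a * (u * ((π a)⁻¹ * π x * π a)) * (π a)⁻¹ := by rw [h1]
        _ = π a * u * (π a)⁻¹ * π x := by group
  by_cases hfix : ∃ y ∈ Zb, y ≠ 1 ∧ y ∈ centralizer (Pb : Set (Γ ⧸ R₀))
  · left
    obtain ⟨y, hy, hy1, hyP⟩ := hfix
    obtain ⟨hy2, hy3⟩ := Subgroup.mem_inf.1 hy
    obtain ⟨y₀, hy₀, rfl⟩ := hy2
    have hlift : ∃ n ∈ R₀, n * y₀ ∈ centralizer (P : Set Γ) := by
      apply Cfsg.Agent.Lib.OddLocal.exists_mul_mem_centralizer
      · intro a _
        rw [Subgroup.mem_normalizer_iff]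
        intro x
        refine ⟨fun hx => hR₀n.conj_mem x hx a, fun hx => ?_⟩
        have := hR₀n.conj_mem _ hx a⁻¹
        have h2 : a⁻¹ * (a * x * a⁻¹) * a⁻¹⁻¹ = x := by group
        rwa [h2] at this
      · rw [hcardP]
        have h1 : IsPGroup r R₀ := hRp.to_le hR₀R
        obtain ⟨k, hk⟩ := IsPGroup.iff_card.1 h1
        rw [hk]
        exact Nat.Coprime.pow_left k ((Nat.coprime_primes hr.out hp.out).2 hpr.symm)
      · right
        haveI := hPp.isNilpotent
        infer_instance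
      · intro a ha
        rw [← hπ1]
        have h2 : π a * π y₀ = π y₀ * π a := Subgroup.mem_centralizer_iff.1 hyP _ ⟨a, ha, rfl⟩
        simp only [map_mul, map_inv]
        rw [← h2]
        group
    obtain ⟨n, hn, hny⟩ := hlift
    have hπn : π (n * y₀) = π y₀ := by
      rw [map_mul, (hπ1 n).2 hn, one_mul]
    refine ⟨n * y₀, Subgroup.mem_inf.2 ⟨R.mul_mem (hR₀R hn) hy₀, hny⟩, ?_, ?_⟩
    · intro h
      apply hy1
      rw [← hπn]
      exact (hπ1 _).2 (Subgroup.mem_inf.2 ⟨R.mul_mem (hR₀R hn) hy₀, h⟩)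
    · intro x hx
      have h2 : x * (n * y₀) * x⁻¹ * (n * y₀)⁻¹ ∈ R₀ := by
        rw [← hπ1]
        have h3 : π x * π y₀ = π y₀ * π x := Subgroup.mem_centralizer_iff.1 hy3 _ ⟨x, hx, rfl⟩
        simp only [map_mul, map_inv] at hπn ⊢
        rw [hπn]
        rw [h3]
        group
      exact (Subgroup.mem_inf.1 h2).2
  · right
    push Not at hfix
    have hpne1 : p ≠ 1 := hp.out.ne_one
    have hE1 : Pb ≠ ⊥ := by
      intro h
      rw [h, Subgroup.card_bot] at hcPb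
      exact hpne1 hcPb.symm
    have hfpf : ∀ e ∈ Pb, e ≠ 1 → ∀ u ∈ Zb, e * u = u * e → u = 1 := by
      intro e he he1 u hu heu
      by_contra hu1
      apply hfix u hu hu1
      have hzp : zpowers e = Pb := by
        apply Subgroup.eq_of_le_of_card_ge
        · rw [Subgroup.zpowers_le]
          exact he
        · rw [hcPb, Nat.card_zpowers]
          have h1 : orderOf e ∣ Nat.card Pb := Subgroup.orderOf_dvd_natCard _ he
          rw [hcPb] at h1
          rcases (Nat.dvd_prime hp.out).1 h1 with h2 | h2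
          · exact absurd (orderOf_eq_one_iff.1 h2) he1
          · exact h2.ge
      rw [Subgroup.mem_centralizer_iff]
      intro a ha
      have ha' : a ∈ zpowers e := by
        rw [hzp]
        exact ha
      obtain ⟨i, rfl⟩ := Subgroup.mem_zpowers_iff.1 ha'
      have h1 : Commute e u := heu
      exact (h1.zpow_left i).eq
    have hVbn : Vb.Normal := hVn.map π (QuotientGroup.mk'_surjective R₀)
    have hHn : ∀ x ∈ Zb ⊔ Pb, ∀ h ∈ Vb, x * h * x⁻¹ ∈ Vb := fun x _ h hh => hVbn.conj_mem h hh x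
    have hVbq : IsPGroup q Vb := hVq.map π
    have hsolv : Group.IsSolvable Vb := by
      haveI := hVbq.isNilpotent
      infer_instance
    have hcop : Nat.Coprime (Nat.card Vb) (Nat.card ↥(Zb ⊔ Pb)) := by
      obtain ⟨m, hm⟩ := IsPGroup.iff_card.1 hVbq
      rw [hm]
      apply Nat.Coprime.pow_left
      have h1 : Zb ⊔ Pb ≤ Rb ⊔ Pb := sup_le_sup_right inf_le_left Pb
      have h2 : Nat.card ↥(Zb ⊔ Pb) ∣ Nat.card ↥(Rb ⊔ Pb) := Subgroup.card_dvd_of_le h1
      have h3 : Pb ≤ normalizer (Rb : Set (Γ ⧸ R₀)) := by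
        apply le_normalizer_of_conj_mem
        rintro _ ⟨a, ha, rfl⟩ _ ⟨x, hx, rfl⟩
        exact ⟨a * x * a⁻¹, hPRc a ha x hx, by simp⟩
      have h4 := relIndex_sup_of_le_normalizer Rb Pb h3
      have h5 : Rb.relIndex Pb ∣ Nat.card Pb := Subgroup.relIndex_dvd_card Rb Pb
      have h6 := (Rb.subgroupOf (Rb ⊔ Pb)).card_mul_index
      rw [Nat.card_congr (Subgroup.subgroupOfEquivOfLe (le_sup_left : Rb ≤ Rb ⊔ Pb)).toEquiv] at h6
      have h7 : (Rb.subgroupOf (Rb ⊔ Pb)).index = Rb.relIndex Pb := h4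
      rw [h7] at h6
      obtain ⟨k, hk⟩ := IsPGroup.iff_card.1 hRbp
      have h8 : Nat.card ↥(Rb ⊔ Pb) ∣ r ^ k * p := by
        rw [← h6, hk]
        rw [hcPb] at h5
        exact Nat.mul_dvd_mul_left _ h5
      apply Nat.Coprime.coprime_dvd_right (h2.trans h8)
      apply Nat.Coprime.mul_right
      · exact Nat.Coprime.pow_right k ((Nat.coprime_primes hq.out hr.out).2 hrq.symm)
      · exact (Nat.coprime_primes hq.out hp.out).2 hpq.symm
    have hform := Cfsg.Agent.Lib.FT.frobenius_fix_formula Zb Pb Vb hE1 hZn hfpf hHn hsolv hcop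
    -- the fixed points of `Zb` are trivial
    have hD : Vb ⊓ centralizer (Zb : Set (Γ ⧸ R₀)) = ⊥ := by
      set D := V ⊓ (centralizer (Zb : Set (Γ ⧸ R₀))).comap π with hDdef
      have hDn : D.Normal := by
        have h1 : V ≤ normalizer (D : Set Γ) := by
          apply le_normalizer_of_conj_mem
          intro v hv x hx
          obtain ⟨hx1, hx2⟩ := Subgroup.mem_inf.1 hx
          have h3 : v * x * v⁻¹ = x := by
            rw [hVc v hv x hx1]
            group
          rw [h3]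
          exact hx
        have h2 : R ≤ normalizer (D : Set Γ) := by
          apply le_normalizer_of_conj_mem
          intro y hy x hx
          obtain ⟨hx1, hx2⟩ := Subgroup.mem_inf.1 hx
          refine Subgroup.mem_inf.2 ⟨hVn.conj_mem x hx1 y, ?_⟩
          rw [Subgroup.mem_comap, Subgroup.mem_centralizer_iff]
          intro z hz
          have hz1 := Subgroup.mem_inf.1 hz
          have h3 : z * π y = π y * z := Subgroup.mem_centralizer_iff.1 hz1.2 _ ⟨y, hy, rfl⟩ |>.symm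
          have h4 : z * π x = π x * z := Subgroup.mem_centralizer_iff.1 (Subgroup.mem_comap.1 hx2) z hz
          simp only [map_mul, map_inv]
          have h5 : z * (π y)⁻¹ = (π y)⁻¹ * z := by
            calc z * (π y)⁻¹ = (π y)⁻¹ * (π y * z) * (π y)⁻¹ := by group
              _ = (π y)⁻¹ * (z * π y) * (π y)⁻¹ := by rw [h3]
              _ = (π y)⁻¹ * z := by group
          calc z * (π y * π x * (π y)⁻¹) = (z * π y) * π x * (π y)⁻¹ := by group
            _ = π y * (z * π x) * (π y)⁻¹ := by rw [h3]; group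
            _ = π y * π x * (z * (π y)⁻¹) := by rw [h4]; group
            _ = π y * π x * (π y)⁻¹ * z := by rw [h5]; group
        have h3 : P ≤ normalizer (D : Set Γ) := by
          apply le_normalizer_of_conj_mem
          intro a ha x hx
          obtain ⟨hx1, hx2⟩ := Subgroup.mem_inf.1 hx
          refine Subgroup.mem_inf.2 ⟨hVn.conj_mem x hx1 a, ?_⟩
          rw [Subgroup.mem_comap, Subgroup.mem_centralizer_iff]
          intro z hz
          have hz' : (π a)⁻¹ * z * (π a)⁻¹⁻¹ ∈ Zb := hZn _ ⟨a⁻¹, P.inv_mem ha, by simp⟩ z hz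
          have h4 := Subgroup.mem_centralizer_iff.1 (Subgroup.mem_comap.1 hx2) _ hz'
          simp only [map_mul, map_inv]
          simp only [inv_inv] at h4
          calc z * (π a * π x * (π a)⁻¹) = π a * (((π a)⁻¹ * z * π a) * π x) * (π a)⁻¹ := by group
            _ = π a * (π x * ((π a)⁻¹ * z * π a)) * (π a)⁻¹ := by rw [h4]
            _ = π a * π x * (π a)⁻¹ * z := by group
        have h4 : V ⊔ R ⊔ P ≤ normalizer (D : Set Γ) := sup_le (sup_le h1 h2) h3
        rw [htop] at h4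
        exact ⟨fun x hx g => (Subgroup.mem_normalizer_iff.1 (h4 (Subgroup.mem_top g)) x).1 hx⟩
      have hDbot : D = ⊥ := by
        rcases hmin D hDn inf_le_left with h | h
        · exact h
        · exfalso
          obtain ⟨hz₁, hz₂⟩ := hz₀
          obtain ⟨hz₃, hz₄⟩ := Subgroup.mem_inf.1 hz₁
          obtain ⟨z, hz, rfl⟩ := hz₃
          apply hz₂
          rw [hπ1]
          refine Subgroup.mem_inf.2 ⟨hz, ?_⟩
          rw [Subgroup.mem_centralizer_iff]
          intro v hv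
          have hvD : v ∈ D := by
            rw [h]
            exact hv
          have h3 := Subgroup.mem_centralizer_iff.1 (Subgroup.mem_comap.1 (Subgroup.mem_inf.1 hvD).2) _ hz₁
          have h4 : v * z * v⁻¹ * z⁻¹ ∈ R₀ := by
            rw [← hπ1]
            simp only [map_mul, map_inv]
            rw [← h3]
            group
          have h5 : v * z * v⁻¹ * z⁻¹ ∈ V := by
            have h6 := hVn.conj_mem _ (V.inv_mem hv) z
            have h7 : v * z * v⁻¹ * z⁻¹ = v * (z * v⁻¹ * z⁻¹) := by group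
            rw [h7]
            exact V.mul_mem hv h6
          have h8 := hdisjV _ h4 h5
          rw [mul_inv_eq_one, mul_inv_eq_iff_eq_mul] at h8
          exact h8
      rw [eq_bot_iff]
      rintro x hx
      obtain ⟨hx1, hx2⟩ := Subgroup.mem_inf.1 hx
      obtain ⟨v, hv, rfl⟩ := hx1
      have hvD : v ∈ D := Subgroup.mem_inf.2 ⟨hv, hx2⟩
      rw [hDbot, Subgroup.mem_bot] at hvD
      rw [hvD, map_one]
      exact Subgroup.one_mem _
    have hD2 : Vb ⊓ centralizer ((Zb ⊔ Pb : Subgroup _) : Set (Γ ⧸ R₀)) = ⊥ := by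
      rw [eq_bot_iff, ← hD]
      apply inf_le_inf_left
      apply Subgroup.centralizer_le
      exact (le_sup_left : Zb ≤ Zb ⊔ Pb)
    rw [hD, hD2, Subgroup.card_bot, one_pow, one_mul, mul_one, hcPb] at hform
    have hVV : Nat.card Vb = Nat.card V :=
      Cfsg.Agent.Lib.Coprime.BP.card_map_of_inj π V (fun a ha h1 => hdisjV a ((hπ1 a).1 h1) ha)
    rw [hVV] at hform
    rw [hform]
    apply Nat.pow_le_pow_left
    have h1 : (V ⊓ centralizer (P : Set Γ)).map π ≤ Vb ⊓ centralizer (Pb : Set (Γ ⧸ R₀)) := by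
      rintro _ ⟨v, hv, rfl⟩
      obtain ⟨hv1, hv2⟩ := Subgroup.mem_inf.1 hv
      refine Subgroup.mem_inf.2 ⟨⟨v, hv1, rfl⟩, ?_⟩
      rw [Subgroup.mem_centralizer_iff]
      rintro _ ⟨a, ha, rfl⟩
      rw [← map_mul, ← map_mul, Subgroup.mem_centralizer_iff.1 hv2 a ha]
    have h2 := Subgroup.card_le_of_le h1
    rwa [Cfsg.Agent.Lib.Coprime.BP.card_map_of_inj π _
      (fun a ha h3 => hdisjV a ((hπ1 a).1 h3) (Subgroup.mem_inf.1 ha).1)] at h2

end Cfsg.Agent.Lib.Coprime.TG
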