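import Mathlib
import Cfsg.Agent.Lib.Coprime.TG2

/-!
# Fixed points of `[H, P]`: the inductive setup and the critical case
-/

set_option autoImplicit false
set_option linter.unusedSectionVars false
set_option linter.style.haveILetI false
set_option linter.unusedVariables false

namespace Cfsg.Agent.Lib.Coprime.TG

open Subgroup Cfsg Cfsg.Agent.Lib.Coprime Cfsg.Agent.Lib.Basic
open scoped commutatorElement

variable {Γ : Type*} [Group Γ] [Finite Γ]

/-- The situation in a minimal counterexample. -/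
structure Setup (p : ℕ) (P H : Subgroup Γ) : Prop where
  hp : p.Prime
  hp2 : p ≠ 2
  hcard : Nat.card P = p
  hsol : Group.IsSolvable H
  hcop : (Nat.card H).Coprime p
  hnorm : H.Normal
  htop : H ⊔ P = ⊤
  heq : ⁅H, P⁆ = H
  hS : ∀ S : Subgroup Γ, S ≤ H → S ≠ H → P ≤ normalizer (S : Set Γ) →
    ⁅S, P⁆ ⊓ centralizer (P : Set Γ) ≤ YY P H
  hQ : ∀ R : Subgroup Γ, R.Normal → R ≤ H → R ≠ ⊥ → ∀ c ∈ H ⊓ centralizer (P : Set Γ),
    ∃ y ∈ YY P H, ∃ r ∈ R ⊓ centralizer (P : Set Γ), c = y * r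

namespace Setup

variable {p : ℕ} {P H : Subgroup Γ} (h : Setup p P H)

include h

theorem normal_of {K : Subgroup Γ} (h1 : H ≤ normalizer (K : Set Γ)) (h2 : P ≤ normalizer (K : Set Γ)) : K.Normal := by
  have h4 : H ⊔ P ≤ normalizer (K : Set Γ) := sup_le h1 h2
  rw [h.htop] at h4
  exact ⟨fun x hx g => (Subgroup.mem_normalizer_iff.1 (h4 (Subgroup.mem_top g)) x).1 hx⟩

theorem Pp : IsPGroup p P := by
  haveI := Fact.mk h.hp
  exact IsPGroup.of_card (n := 1) (by rw [h.hcard, pow_one])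

theorem Psol : Group.IsSolvable P := by
  haveI := Fact.mk h.hp
  haveI := h.Pp.isNilpotent
  infer_instance

theorem act {S : Subgroup Γ} (hSH : S ≤ H) (hSP : P ≤ normalizer (S : Set Γ)) : CoprimeAction P S := by
  refine ⟨hSP, ?_, Or.inl h.Psol⟩
  rw [h.hcard]
  exact Nat.Coprime.coprime_dvd_left (Subgroup.card_dvd_of_le hSH) h.hcop |>.symm

theorem actH : CoprimeAction P H :=
  h.act le_rfl (fun a _ => by
    haveI := h.hnorm
    rw [Subgroup.mem_normalizer_iff]
    intro x
    refine ⟨fun hx => h.hnorm.conj_mem x hx a, fun hx => ?_⟩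
    have := h.hnorm.conj_mem _ hx a⁻¹
    have h2 : a⁻¹ * (a * x * a⁻¹) * a⁻¹⁻¹ = x := by group
    rwa [h2] at this)

theorem solvable : Group.IsSolvable Γ := by
  haveI := h.hnorm
  haveI := h.hsol
  haveI := h.Psol
  have hs : Group.IsSolvable (Γ ⧸ H) := by
    have hsurj : Function.Surjective ((QuotientGroup.mk' H).comp P.subtype) := by
      intro y
      obtain ⟨x, rfl⟩ := QuotientGroup.mk'_surjective H y
      have hx : x ∈ H ⊔ P := by
        rw [h.htop]
        exact Subgroup.mem_top x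
      obtain ⟨k, hk, a, ha, rfl⟩ := (mem_sup_iff_of_le_normalizer h.actH.normalizes x).1 hx
      refine ⟨⟨a, ha⟩, ?_⟩
      have hk1 : QuotientGroup.mk' H k = 1 := (QuotientGroup.eq_one_iff k).2 hk
      simp only [MonoidHom.comp_apply, Subgroup.coe_subtype, map_mul, hk1, one_mul]
    exact solvable_of_surjective hsurj
  exact solvable_of_ker_le_range H.subtype (QuotientGroup.mk' H) (by
    intro x hx
    rw [MonoidHom.mem_ker, QuotientGroup.mk'_apply, QuotientGroup.eq_one_iff] at hx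
    exact ⟨⟨x, hx⟩, rfl⟩)

/-- The critical case. -/
theorem critical {V R : Subgroup Γ} {q r : ℕ} [hq : Fact q.Prime] [hr : Fact r.Prime]
    (hV : IsMinNormal V) (hVH : V ≤ H) (hVab : IsMulCommutative V) (hVq : IsPGroup q V) (hRH : R ≤ H)
    (hRP : P ≤ normalizer (R : Set Γ)) (hRp : IsPGroup r R) (hrq : r ≠ q) (hVR : V ⊔ R = H)
    (hVc : V ⊓ centralizer (H : Set Γ) = ⊥) {g : Γ} (hgR : g ∈ R) (hLg : LL P g = R) :
    V ⊓ centralizer (P : Set Γ) ≤ YY P H := by
  classical
  intro u hu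
  by_contra huY
  obtain ⟨hu1, hu2⟩ := Subgroup.mem_inf.1 hu
  haveI hVn : V.Normal := hV.1
  haveI hHn : H.Normal := h.hnorm
  haveI := Fact.mk h.hp
  have hVb : V ≠ ⊥ := hV.2.1
  have hVcomm : ∀ x ∈ V, ∀ y ∈ V, x * y = y * x := by
    intro x hx y hy
    have := mul_comm' (⟨x, hx⟩ : V) (⟨y, hy⟩ : V)
    exact congrArg Subtype.val this
  have hVconj : ∀ x ∈ V, ∀ g : Γ, g * x * g⁻¹ ∈ V := fun x hx g => hVn.conj_mem x hx g
  have hVdisjR : ∀ x ∈ V, x ∈ R → x = 1 := by
    intro x hx hxR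
    exact (Subgroup.disjoint_def.1 (IsPGroup.disjoint_of_ne q r hrq.symm V R hVq hRp)) hx hxR
  have hVinfR : V ⊓ R = ⊥ := (IsPGroup.disjoint_of_ne q r hrq.symm V R hVq hRp).eq_bot
  have hgH : g ∈ H := hRH hgR
  -- step (a)
  have ha : ∀ v ∈ V, V ⊔ LL P (g * v) = H ∧ V ⊓ LL P (g * v) = ⊥ := by
    intro v hv
    set t := g * v with ht
    have htH : t ∈ H := H.mul_mem hgH (hVH hv)
    set L := LL P t with hL
    have hLH : L ≤ H := LL_le_of_mem h.actH.normalizes htH
    have hRle : R ≤ V ⊔ L := by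
      rw [← hLg, LL, closure_le]
      rintro _ ⟨a, ha, rfl⟩
      have h1 : g⁻¹ * (a * g * a⁻¹) = v * (t⁻¹ * (a * t * a⁻¹)) * (a * v * a⁻¹)⁻¹ := by
        rw [ht]
        group
      rw [SetLike.mem_coe, h1]
      exact (V ⊔ L).mul_mem ((V ⊔ L).mul_mem ((le_sup_left : V ≤ V ⊔ L) hv) ((le_sup_right : L ≤ V ⊔ L) (mem_LL ha)))
        ((V ⊔ L).inv_mem ((le_sup_left : V ≤ V ⊔ L) (hVconj v hv a)))
    have hsup : V ⊔ L = H := by
      apply le_antisymm (sup_le hVH hLH)
      rw [← hVR]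
      exact sup_le le_sup_left hRle
    refine ⟨hsup, ?_⟩
    have hn : (V ⊓ L).Normal := by
      apply h.normal_of
      · rw [← hsup]
        refine sup_le ?_ ?_
        · apply le_normalizer_of_conj_mem
          intro x hx y hy
          have h3 : x * y * x⁻¹ = y := by
            rw [hVcomm x hx y (Subgroup.mem_inf.1 hy).1]
            group
          rw [h3]
          exact hy
        · apply le_normalizer_of_conj_mem
          intro x hx y hy
          obtain ⟨hy1, hy2⟩ := Subgroup.mem_inf.1 hy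
          exact Subgroup.mem_inf.2 ⟨hVconj y hy1 x, L.mul_mem (L.mul_mem hx hy2) (L.inv_mem hx)⟩
      · apply le_normalizer_of_conj_mem
        intro a ha y hy
        obtain ⟨hy1, hy2⟩ := Subgroup.mem_inf.1 hy
        exact Subgroup.mem_inf.2 ⟨hVconj y hy1 a, conj_LL ha hy2⟩
    rcases hV.2.2 (V ⊓ L) hn inf_le_left with h1 | h1
    · exact h1
    · exfalso
      have hVL : V ≤ L := by
        have := inf_eq_left.1 h1
        exact this
      have hLeq : L = H := by
        rw [← hsup]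
        exact (sup_eq_right.2 hVL).symm
      apply huY
      exact mem_YY htH (hVL hu1) hu2
  set U := V ⊓ centralizer (P : Set Γ) with hU
  have hVcard : ∀ K : Subgroup Γ, K ≤ H → (Nat.card K).Coprime p := fun K hK =>
    Nat.Coprime.coprime_dvd_left (Subgroup.card_dvd_of_le hK) h.hcop
  have hnormV : ∀ A : Subgroup Γ, A ≤ normalizer (V : Set Γ) := by
    intro A x _
    rw [Subgroup.mem_normalizer_iff]
    intro y
    refine ⟨fun hy => hVconj y hy x, fun hy => ?_⟩
    have := hVconj _ hy x⁻¹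
    have h2 : x⁻¹ * (x * y * x⁻¹) * x⁻¹⁻¹ = y := by group
    rwa [h2] at this
  have hVsol : Group.IsSolvable V := by
    haveI := hVq.isNilpotent
    infer_instance
  have hcRV : (Nat.card R).Coprime (Nat.card V) := by
    obtain ⟨k₁, hk₁⟩ := IsPGroup.iff_card.1 hRp
    obtain ⟨k₂, hk₂⟩ := IsPGroup.iff_card.1 hVq
    rw [hk₁, hk₂]
    exact Nat.Coprime.pow k₁ k₂ ((Nat.coprime_primes hr.out hq.out).2 hrq)
  have hb : ∀ v ∈ V, ∃ u₁ ∈ U, ∃ w ∈ U, v = g⁻¹ * u₁ * g * w⁻¹ := by
    intro v hv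
    obtain ⟨hsup, hinf⟩ := ha v hv
    set t := g * v with ht
    set L := LL P t with hL
    have hc : Nat.card L = Nat.card R := by
      have h1 := relIndex_sup_of_le_normalizer V L (hnormV L)
      have h2 := relIndex_sup_of_le_normalizer V R (hnormV R)
      rw [hsup, relIndex_eq_card_of_inf_bot _ _ hinf] at h1
      rw [hVR, relIndex_eq_card_of_inf_bot _ _ hVinfR] at h2
      rw [← h1, ← h2]
    have hact' : CoprimeAction R V := ⟨hnormV R, hcRV, Or.inr hVsol⟩
    obtain ⟨w, hw, hLw⟩ := hact'.exists_conj_eq (B := L) (by rw [hVR, ← hsup]; exact le_sup_right) hc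
    have hmemL : ∀ x, x ∈ L ↔ ∃ r ∈ R, x = w * r * w⁻¹ := by
      intro x
      rw [hLw]
      exact Cfsg.Agent.Lib.Coprime.BP.mem_conj_iff
    have hwfix : ∀ a ∈ P, a * w * a⁻¹ = w := by
      intro a haP
      set e := w⁻¹ * (a * w * a⁻¹) with he
      have heV : e ∈ V := V.mul_mem (V.inv_mem hw) (hVconj w hw a)
      have hnorm : ∀ r₁ ∈ R, e * r₁ * e⁻¹ ∈ R := by
        intro r₁ hr₁
        have hr' : a⁻¹ * r₁ * a⁻¹⁻¹ ∈ R := conj_mem_of_le_normalizer hRP (P.inv_mem haP) hr₁
        have hx : w * (a⁻¹ * r₁ * a⁻¹⁻¹) * w⁻¹ ∈ L := (hmemL _).2 ⟨_, hr', rfl⟩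
        have hax := conj_LL haP hx
        obtain ⟨r₂, hr₂, hr₂e⟩ := (hmemL _).1 hax
        have h5 : e * r₁ * e⁻¹ = r₂ := by
          calc e * r₁ * e⁻¹ = w⁻¹ * (a * (w * (a⁻¹ * r₁ * a⁻¹⁻¹) * w⁻¹) * a⁻¹) * w := by
                rw [he]
                group
            _ = w⁻¹ * (w * r₂ * w⁻¹) * w := by rw [hr₂e]
            _ = r₂ := by group
        rw [h5]
        exact hr₂
      have hcommR : ∀ r₁ ∈ R, r₁ * e = e * r₁ := by
        intro r₁ hr₁
        have h6 : e * r₁ * e⁻¹ * r₁⁻¹ ∈ R := R.mul_mem (hnorm r₁ hr₁) (R.inv_mem hr₁)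
        have h7 : e * r₁ * e⁻¹ * r₁⁻¹ ∈ V := by
          have h70 : e * r₁ * e⁻¹ * r₁⁻¹ = e * (r₁ * e⁻¹ * r₁⁻¹) := by group
          rw [h70]
          exact V.mul_mem heV (hVconj _ (V.inv_mem heV) r₁)
        have h8 := hVdisjR _ h7 h6
        rw [mul_inv_eq_one, mul_inv_eq_iff_eq_mul] at h8
        exact h8.symm
      have heC : e ∈ V ⊓ centralizer (H : Set Γ) := by
        refine Subgroup.mem_inf.2 ⟨heV, ?_⟩
        have hle : V ⊔ R ≤ centralizer ({e} : Set Γ) := by
          refine sup_le ?_ ?_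
          · intro x hx
            rw [Subgroup.mem_centralizer_singleton_iff]
            exact hVcomm x hx e heV
          · intro x hx
            rw [Subgroup.mem_centralizer_singleton_iff]
            exact hcommR x hx
        rw [Subgroup.mem_centralizer_iff]
        intro x hx
        rw [← hVR] at hx
        have := Subgroup.mem_centralizer_singleton_iff.1 (hle hx)
        exact this
      rw [hVc, Subgroup.mem_bot] at heC
      have h9 : w⁻¹ * (a * w * a⁻¹) = 1 := heC
      rw [inv_mul_eq_one] at h9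
      exact h9.symm
    have hwC : w ∈ centralizer (P : Set Γ) := by
      rw [Subgroup.mem_centralizer_iff]
      intro a haP
      have := hwfix a haP
      rw [mul_inv_eq_iff_eq_mul] at this
      exact this
    set s := v * w with hs
    have hsV : s ∈ V := V.mul_mem hv hw
    have hfix : g * s * g⁻¹ ∈ centralizer (P : Set Γ) := by
      rw [Subgroup.mem_centralizer_iff]
      intro a haP
      set d := g⁻¹ * (a * g * a⁻¹) with hd
      have hdR : d ∈ R := by
        rw [← hLg]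
        exact mem_LL haP
      have htL : t⁻¹ * (a * t * a⁻¹) ∈ L := mem_LL haP
      obtain ⟨ρ, hρ, hρe⟩ := (hmemL _).1 htL
      have hw' := hwfix a haP
      have h10 : a⁻¹ * w = w * a⁻¹ := by
        calc a⁻¹ * w = a⁻¹ * (a * w * a⁻¹) := by rw [hw']
          _ = w * a⁻¹ := by group
      have h9 : ρ = s⁻¹ * d * (a * s * a⁻¹) := by
        have h90 : ρ = w⁻¹ * (t⁻¹ * (a * t * a⁻¹)) * w := by
          rw [hρe]
          group
        rw [h90, ht, hs, hd]
        calc w⁻¹ * ((g * v)⁻¹ * (a * (g * v) * a⁻¹)) * w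
            = w⁻¹ * v⁻¹ * g⁻¹ * a * g * v * (a⁻¹ * w) := by group
          _ = w⁻¹ * v⁻¹ * g⁻¹ * a * g * v * (w * a⁻¹) := by rw [h10]
          _ = (v * w)⁻¹ * (g⁻¹ * (a * g * a⁻¹)) * (a * (v * w) * a⁻¹) := by group
      have h11 : d⁻¹ * ρ ∈ R := R.mul_mem (R.inv_mem hdR) hρ
      have h12 : d⁻¹ * ρ = (d⁻¹ * s⁻¹ * d⁻¹⁻¹) * (a * s * a⁻¹) := by
        rw [h9]
        group
      have h13 : d⁻¹ * ρ ∈ V := by
        rw [h12]
        exact V.mul_mem (hVconj _ (V.inv_mem hsV) d⁻¹) (hVconj s hsV a)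
      have h14 := hVdisjR _ h13 h11
      have h15 : a * s * a⁻¹ = d⁻¹ * s * d := by
        rw [h12] at h14
        have h16 := eq_inv_of_mul_eq_one_right h14
        rw [h16]
        group
      have h17 : g * s * g⁻¹ = a⁻¹ * (g * s * g⁻¹) * a := by
        calc g * s * g⁻¹ = g * a⁻¹ * (a * s * a⁻¹) * a * g⁻¹ := by group
          _ = g * a⁻¹ * (d⁻¹ * s * d) * a * g⁻¹ := by rw [h15]
          _ = a⁻¹ * (g * s * g⁻¹) * a := by
              rw [hd]
              group
      calc a * (g * s * g⁻¹) = a * (a⁻¹ * (g * s * g⁻¹) * a) := by rw [← h17]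
        _ = g * s * g⁻¹ * a := by group
    refine ⟨g * s * g⁻¹, Subgroup.mem_inf.2 ⟨hVconj s hsV g, hfix⟩, w, Subgroup.mem_inf.2 ⟨hw, hwC⟩, ?_⟩
    rw [hs]
    group
  have hcardV : Nat.card V ≤ Nat.card U ^ 2 := by
    let F : ↥U × ↥U → ↥V := fun x => ⟨g⁻¹ * (x.1 : Γ) * g * (x.2 : Γ)⁻¹, by
      have h1 := hVconj _ (Subgroup.mem_inf.1 x.1.2).1 g⁻¹
      have h2 : g⁻¹ * (x.1 : Γ) * g⁻¹⁻¹ = g⁻¹ * (x.1 : Γ) * g := by group
      rw [h2] at h1
      exact V.mul_mem h1 (V.inv_mem (Subgroup.mem_inf.1 x.2.2).1)⟩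
    have hF : Function.Surjective F := by
      rintro ⟨v, hv⟩
      obtain ⟨u₁, hu₁, w, hw, he⟩ := hb v hv
      exact ⟨(⟨u₁, hu₁⟩, ⟨w, hw⟩), Subtype.ext he.symm⟩
    have h1 := Nat.card_le_card_of_surjective F hF
    rwa [Nat.card_prod, ← pow_two] at h1
  -- the two cases
  have hq_ne_p : p ≠ q := by
    intro hpq
    have h1 : q ∣ Nat.card V := by
      have hnt : Nontrivial V := (Subgroup.nontrivial_iff_ne_bot V).2 hVb
      obtain ⟨k, hk⟩ := IsPGroup.iff_card.1 hVq
      rw [hk]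
      have hk0 : k ≠ 0 := by
        rintro rfl
        rw [pow_zero] at hk
        exact Finite.one_lt_card_iff_nontrivial.2 hnt |>.ne' hk
      exact dvd_pow_self q hk0
    have h2 := hVcard V hVH
    rw [← hpq] at h1
    exact (Nat.Prime.coprime_iff_not_dvd h.hp).1 h2.symm h1
  have hRb : R ≠ ⊥ := by
    intro hR
    rw [hR, sup_bot_eq] at hVR
    apply hVb
    rw [eq_bot_iff, ← hVc]
    refine le_inf le_rfl ?_
    rw [← hVR]
    intro x hx
    rw [Subgroup.mem_centralizer_iff]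
    intro y hy
    exact hVcomm y hy x hx
  have hr_ne_p : p ≠ r := by
    intro hpr
    have h1 : r ∣ Nat.card R := by
      have hnt : Nontrivial R := (Subgroup.nontrivial_iff_ne_bot R).2 hRb
      obtain ⟨k, hk⟩ := IsPGroup.iff_card.1 hRp
      rw [hk]
      have hk0 : k ≠ 0 := by
        rintro rfl
        rw [pow_zero] at hk
        exact Finite.one_lt_card_iff_nontrivial.2 hnt |>.ne' hk
      exact dvd_pow_self r hk0
    have h2 := hVcard R hRH
    rw [← hpr] at h1
    exact (Nat.Prime.coprime_iff_not_dvd h.hp).1 h2.symm h1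
  have hnt : ¬ R ≤ centralizer (V : Set Γ) := by
    intro hRC
    apply hVb
    rw [eq_bot_iff, ← hVc]
    refine le_inf le_rfl ?_
    intro x hx
    rw [Subgroup.mem_centralizer_iff]
    intro y hy
    rw [← hVR] at hy
    have hle : V ⊔ R ≤ centralizer ({x} : Set Γ) := by
      refine sup_le ?_ ?_
      · intro z hz
        rw [Subgroup.mem_centralizer_singleton_iff]
        exact hVcomm z hz x hx
      · intro z hz
        rw [Subgroup.mem_centralizer_singleton_iff]
        exact (Subgroup.mem_centralizer_iff.1 (hRC hz) x hx).symm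
    exact Subgroup.mem_centralizer_singleton_iff.1 (hle hy)
  have htop' : V ⊔ R ⊔ P = ⊤ := by
    rw [hVR]
    exact h.htop
  rcases frob_bound (p := p) (q := q) (r := r) V R P hVn hVab hVq hRp h.hcard hRP hrq hq_ne_p hr_ne_p htop'
    hV.2.2 hnt with hcase | hcase
  · obtain ⟨y, hy, hyV, hyR⟩ := hcase
    obtain ⟨hy1, hy2⟩ := Subgroup.mem_inf.1 hy
    have hyY : y ∈ YY P H := mem_YY hgH (by rw [hLg]; exact hy1) hy2
    have hyH : y ∈ H := hRH hy1
    set CV := V ⊓ centralizer ({y} : Set Γ) with hCV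
    have hCVn : CV.Normal := by
      apply h.normal_of
      · rw [← hVR]
        refine sup_le ?_ ?_
        · apply le_normalizer_of_conj_mem
          intro x hx z hz
          have h3 : x * z * x⁻¹ = z := by
            rw [hVcomm x hx z (Subgroup.mem_inf.1 hz).1]
            group
          rw [h3]
          exact hz
        · apply le_normalizer_of_conj_mem
          intro x hx z hz
          obtain ⟨hz1, hz2⟩ := Subgroup.mem_inf.1 hz
          refine Subgroup.mem_inf.2 ⟨hVconj z hz1 x, ?_⟩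
          rw [Subgroup.mem_centralizer_singleton_iff] at hz2 ⊢
          have hc := hyR x⁻¹ (R.inv_mem hx)
          set c := x⁻¹ * y * x⁻¹⁻¹ * y⁻¹ with hcdef
          have hcz : z * c = c * z := Subgroup.mem_centralizer_iff.1 hc z hz1
          have hxy : x⁻¹ * y * x = c * y := by
            rw [hcdef]
            group
          calc x * z * x⁻¹ * y = x * (z * (x⁻¹ * y * x)) * x⁻¹ := by group
            _ = x * (z * (c * y)) * x⁻¹ := by rw [hxy]
            _ = x * (c * (y * z)) * x⁻¹ := by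
                have hzz : z * (c * y) = c * (y * z) := by
                  rw [← mul_assoc, hcz, mul_assoc, hz2]
                rw [hzz]
            _ = x * ((c * y) * z) * x⁻¹ := by group
            _ = x * ((x⁻¹ * y * x) * z) * x⁻¹ := by rw [hxy]
            _ = y * (x * z * x⁻¹) := by group
      · apply le_normalizer_of_conj_mem
        intro a haP z hz
        obtain ⟨hz1, hz2⟩ := Subgroup.mem_inf.1 hz
        refine Subgroup.mem_inf.2 ⟨hVconj z hz1 a, ?_⟩
        rw [Subgroup.mem_centralizer_singleton_iff] at hz2 ⊢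
        have hya : a * y = y * a := Subgroup.mem_centralizer_iff.1 hy2 a haP
        have hya' : a⁻¹ * y = y * a⁻¹ := by
          calc a⁻¹ * y = a⁻¹ * (y * a) * a⁻¹ := by group
            _ = a⁻¹ * (a * y) * a⁻¹ := by rw [hya]
            _ = y * a⁻¹ := by group
        calc a * z * a⁻¹ * y = a * z * (a⁻¹ * y) := by group
          _ = a * z * (y * a⁻¹) := by rw [hya']
          _ = a * (z * y) * a⁻¹ := by group
          _ = a * (y * z) * a⁻¹ := by rw [hz2]
          _ = (a * y) * z * a⁻¹ := by group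
          _ = (y * a) * z * a⁻¹ := by rw [hya]
          _ = y * (a * z * a⁻¹) := by group
    have hCVb : CV = ⊥ := by
      rcases hV.2.2 CV hCVn inf_le_left with h1 | h1
      · exact h1
      · exfalso
        apply hyV
        rw [Subgroup.mem_centralizer_iff]
        intro z hz
        have hz' : z ∈ CV := by
          rw [h1]
          exact hz
        exact (Subgroup.mem_centralizer_singleton_iff.1 (Subgroup.mem_inf.1 hz').2)
    -- the map on `U`
    let f : ↥U → ↥U := fun x => ⟨(x : Γ)⁻¹ * (y * x * y⁻¹), by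
      obtain ⟨hx1, hx2⟩ := Subgroup.mem_inf.1 x.2
      exact Subgroup.mem_inf.2 ⟨V.mul_mem (V.inv_mem hx1) (hVconj _ hx1 y),
        (centralizer (P : Set Γ)).mul_mem ((centralizer (P : Set Γ)).inv_mem hx2)
          ((centralizer (P : Set Γ)).mul_mem ((centralizer (P : Set Γ)).mul_mem hy2 hx2)
            ((centralizer (P : Set Γ)).inv_mem hy2))⟩⟩
    have hfi : Function.Injective f := by
      rintro ⟨x₁, hx₁⟩ ⟨x₂, hx₂⟩ he
      have he' : x₁⁻¹ * (y * x₁ * y⁻¹) = x₂⁻¹ * (y * x₂ * y⁻¹) := congrArg Subtype.val he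
      have hx₁V := (Subgroup.mem_inf.1 hx₁).1
      have hx₂V := (Subgroup.mem_inf.1 hx₂).1
      have hm : x₁ * x₂⁻¹ ∈ CV := by
        refine Subgroup.mem_inf.2 ⟨V.mul_mem hx₁V (V.inv_mem hx₂V), ?_⟩
        rw [Subgroup.mem_centralizer_singleton_iff]
        have hc1 : (y * x₁ * y⁻¹) * (y * x₂ * y⁻¹)⁻¹ = x₁ * x₂⁻¹ := by
          have h1 : y * x₁ * y⁻¹ = x₁ * (x₂⁻¹ * (y * x₂ * y⁻¹)) := by
            rw [← he', mul_inv_cancel_left]
          rw [h1]
          group
        have hc2 : y * (x₁ * x₂⁻¹) * y⁻¹ = x₁ * x₂⁻¹ := by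
          calc y * (x₁ * x₂⁻¹) * y⁻¹ = (y * x₁ * y⁻¹) * (y * x₂ * y⁻¹)⁻¹ := by group
            _ = x₁ * x₂⁻¹ := hc1
        rw [mul_inv_eq_iff_eq_mul] at hc2
        exact hc2.symm
      rw [hCVb, Subgroup.mem_bot, mul_inv_eq_one] at hm
      exact Subtype.ext hm
    have hfs := Finite.surjective_of_injective hfi
    obtain ⟨⟨x, hx⟩, hxe⟩ := hfs ⟨u, hu⟩
    have hxe' : x⁻¹ * (y * x * y⁻¹) = u := congrArg Subtype.val hxe
    apply huY
    rw [← hxe']
    have hxH : x⁻¹ ∈ H := H.inv_mem (hVH (Subgroup.mem_inf.1 hx).1)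
    have hxC : x⁻¹ ∈ centralizer (P : Set Γ) := (centralizer (P : Set Γ)).inv_mem (Subgroup.mem_inf.1 hx).2
    have h1 := conj_YY hxH hxC hyY
    have h2 : x⁻¹ * (y * x * y⁻¹) = (x⁻¹ * y * x⁻¹⁻¹) * y⁻¹ := by group
    rw [h2]
    exact (YY P H).mul_mem h1 ((YY P H).inv_mem hyY)
  · have hp3 : 3 ≤ p := by
      have h2 := h.hp.two_le
      have h3 := h.hp2
      omega
    have hU1 : Nat.card U = 1 := by
      by_contra hne
      have hpos : 0 < Nat.card U := Nat.card_pos
      have h2 : 2 ≤ Nat.card U := by omega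
      have h3 : Nat.card U ^ 2 < Nat.card U ^ p := Nat.pow_lt_pow_right (by omega) (by omega)
      have hcase' : Nat.card U ^ p ≤ Nat.card V := hcase
      have h4 := hcase'.trans hcardV
      omega
    have h1 : U = ⊥ := Subgroup.card_eq_one.1 hU1
    rw [h1, Subgroup.mem_bot] at hu
    apply huY
    rw [hu]
    exact Subgroup.one_mem _

end Setup

end Cfsg.Agent.Lib.Coprime.TG
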