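import Mathlib
import Cfsg.Agent.Lib.Coprime.TG3

/-!
# Fixed points of `[H, P]`: non-central minimal normal subgroups
-/

set_option autoImplicit false
set_option linter.unusedSectionVars false
set_option linter.style.haveILetI false
set_option linter.unusedVariables false

namespace Cfsg.Agent.Lib.Coprime.TG

open Subgroup Cfsg Cfsg.Agent.Lib.Coprime Cfsg.Agent.Lib.Basic
open scoped commutatorElement

variable {Γ : Type*} [Group Γ] [Finite Γ]

theorem le_normalizer_sup {P A B : Subgroup Γ} (hA : P ≤ normalizer (A : Set Γ)) (hB : P ≤ normalizer (B : Set Γ)) :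
    P ≤ normalizer ((A ⊔ B : Subgroup Γ) : Set Γ) := by
  apply le_normalizer_of_conj_mem
  intro a ha x hx
  have h1 : A ⊔ B ≤ (A ⊔ B).comap (MulAut.conj a).toMonoidHom := by
    refine sup_le ?_ ?_
    · intro y hy
      exact (le_sup_left : A ≤ A ⊔ B) (conj_mem_of_le_normalizer hA ha hy)
    · intro y hy
      exact (le_sup_right : B ≤ A ⊔ B) (conj_mem_of_le_normalizer hB ha hy)
  exact h1 hx

theorem comm_le_normalizer {P S : Subgroup Γ} (hS : P ≤ normalizer (S : Set Γ)) (hP : Group.IsSolvable P)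
    (hc : (Nat.card P).Coprime (Nat.card S)) : P ≤ normalizer ((⁅S, P⁆ : Subgroup Γ) : Set Γ) :=
  (⟨hS, hc, Or.inl hP⟩ : CoprimeAction P S).le_normalizer_commutator

namespace Setup

variable {p : ℕ} {P H : Subgroup Γ} (h : Setup p P H)

include h

theorem norm_of_normal {V : Subgroup Γ} (hV : V.Normal) (A : Subgroup Γ) : A ≤ normalizer (V : Set Γ) := by
  intro x _
  rw [Subgroup.mem_normalizer_iff]
  intro y
  refine ⟨fun hy => hV.conj_mem y hy x, fun hy => ?_⟩
  have := hV.conj_mem _ hy x⁻¹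
  have h2 : x⁻¹ * (x * y * x⁻¹) * x⁻¹⁻¹ = y := by group
  rwa [h2] at this

/-- Lemma B: fixed points of a non-central minimal normal subgroup lie in `Y`. -/
theorem lemmaB {V : Subgroup Γ} (hV : IsMinNormal V) (hVH : V ≤ H)
    (hnc : V ⊓ centralizer (H : Set Γ) = ⊥) : V ⊓ centralizer (P : Set Γ) ≤ YY P H := by
  classical
  intro u hu
  by_contra huY
  obtain ⟨hu1, hu2⟩ := Subgroup.mem_inf.1 hu
  haveI hVn : V.Normal := hV.1
  haveI hHn : H.Normal := h.hnorm
  haveI hΓ : Group.IsSolvable Γ := h.solvable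
  haveI := Fact.mk h.hp
  obtain ⟨hVab, q, hqp, hVq⟩ := hV.isPGroup
  haveI hq : Fact q.Prime := ⟨hqp⟩
  have hVcomm : ∀ x ∈ V, ∀ y ∈ V, x * y = y * x := by
    intro x hx y hy
    have := mul_comm' (⟨x, hx⟩ : V) (⟨y, hy⟩ : V)
    exact congrArg Subtype.val this
  have hPH : P ≤ normalizer (H : Set Γ) := h.actH.normalizes
  have hPV : P ≤ normalizer (V : Set Γ) := h.norm_of_normal hVn P
  have hactV : CoprimeAction P V := h.act hVH hPV
  set Y := YY P H with hY
  set C := centralizer (P : Set Γ) with hC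
  set W := V ⊓ C ⊓ Y with hW
  set V₀ := ⁅V, P⁆ ⊔ W with hV₀
  have hcV : ⁅V, P⁆ ≤ V := hactV.commutator_le_self
  have hWV : W ≤ V := inf_le_left.trans inf_le_left
  have huV₀ : u ∉ V₀ := by
    intro huu
    have hWn : W ≤ normalizer ((⁅V, P⁆ : Subgroup Γ) : Set Γ) := by
      apply le_normalizer_of_conj_mem
      intro w hw x hx
      have h3 : w * x * w⁻¹ = x := by
        rw [hVcomm w (hWV hw) x (hcV hx)]
        group
      rw [h3]
      exact hx
    obtain ⟨k, hk, w, hw, rfl⟩ := (mem_sup_iff_of_le_normalizer hWn u).1 huu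
    have hwY : w ∈ Y := (Subgroup.mem_inf.1 hw).2
    have hwC : w ∈ C := (Subgroup.mem_inf.1 (Subgroup.mem_inf.1 hw).1).2
    have hkC : k ∈ C := by
      have h1 : k = (k * w) * w⁻¹ := by group
      rw [h1]
      exact C.mul_mem hu2 (C.inv_mem hwC)
    have h2 : k ∈ ⁅V, P⁆ ⊓ (V ⊓ C) := Subgroup.mem_inf.2 ⟨hk, Subgroup.mem_inf.2 ⟨hcV hk, hkC⟩⟩
    rw [hactV.commutator_inf_centralizer_eq_bot hVab, Subgroup.mem_bot] at h2
    apply huY
    rw [h2, one_mul]
    exact hwY
  have hV₀V : V₀ ≤ V := sup_le hcV hWV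
  -- the key claim
  have hkey : ∀ S : Subgroup Γ, S ≤ H → V ≤ S → S ≠ H → P ≤ normalizer (S : Set Γ) →
      ∀ k ∈ ⁅S, P⁆, ∀ v ∈ V, v⁻¹ * (k * v * k⁻¹) ∈ V₀ := by
    intro S hSH hVS hne hSP k hk v hv
    have hactS : CoprimeAction P S := h.act hSH hSP
    set KS := ⁅S, P⁆ with hKS
    have hx1 : v⁻¹ * (k * v * k⁻¹) ∈ V := V.mul_mem (V.inv_mem hv) (hVn.conj_mem v hv k)
    have hx2 : v⁻¹ * (k * v * k⁻¹) ∈ KS := by
      have h3 : v⁻¹ * (k * v * k⁻¹) = (v⁻¹ * k * v⁻¹⁻¹) * k⁻¹ := by group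
      rw [h3]
      have h4 := (Subgroup.mem_normalizer_iff.1 (hactS.le_normalizer_commutator' (hVS (V.inv_mem hv))) k).1 hk
      exact KS.mul_mem h4 (KS.inv_mem hk)
    have hEP : P ≤ normalizer ((V ⊓ KS : Subgroup Γ) : Set Γ) := by
      apply le_normalizer_of_conj_mem
      intro a ha y hy
      obtain ⟨hy1, hy2⟩ := Subgroup.mem_inf.1 hy
      exact Subgroup.mem_inf.2 ⟨hVn.conj_mem y hy1 a,
        (Subgroup.mem_normalizer_iff.1 (hactS.le_normalizer_commutator ha) y).1 hy2⟩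
    have hactE : CoprimeAction P (V ⊓ KS) := h.act (inf_le_left.trans hVH) hEP
    obtain ⟨n, hn, c, hc, he⟩ := hactE.exists_commutator_mul_centralizer (Subgroup.mem_inf.2 ⟨hx1, hx2⟩)
    obtain ⟨hc1, hc2⟩ := Subgroup.mem_inf.1 hc
    obtain ⟨hc3, hc4⟩ := Subgroup.mem_inf.1 hc1
    have hcY : c ∈ Y := h.hS S hSH hne hSP (Subgroup.mem_inf.2 ⟨hc4, hc2⟩)
    rw [he]
    refine V₀.mul_mem ?_ ?_
    · apply (le_sup_left : ⁅V, P⁆ ≤ V₀)
      exact Subgroup.commutator_mono inf_le_left le_rfl hn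
    · apply (le_sup_right : W ≤ V₀)
      exact Subgroup.mem_inf.2 ⟨Subgroup.mem_inf.2 ⟨hc3, hc2⟩, hcY⟩
  -- the stabilizer of the cosets of `V₀`
  let BB : Subgroup Γ :=
    { carrier := {x | ∀ v ∈ V, v⁻¹ * (x * v * x⁻¹) ∈ V₀}
      one_mem' := fun v _ => by simpa using V₀.one_mem
      mul_mem' := by
        intro x y hx hy v hv
        have hv' : y * v * y⁻¹ ∈ V := hVn.conj_mem v hv y
        have h1 := hy v hv
        have h2 := hx _ hv'
        have h3 : v⁻¹ * ((x * y) * v * (x * y)⁻¹) =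
            (v⁻¹ * (y * v * y⁻¹)) * ((y * v * y⁻¹)⁻¹ * (x * (y * v * y⁻¹) * x⁻¹)) := by group
        rw [h3]
        exact V₀.mul_mem h1 h2
      inv_mem' := by
        intro x hx v hv
        have hv' : x⁻¹ * v * x⁻¹⁻¹ ∈ V := hVn.conj_mem v hv x⁻¹
        have h2 := V₀.inv_mem (hx _ hv')
        have h3 : v⁻¹ * (x⁻¹ * v * x⁻¹⁻¹) = ((x⁻¹ * v * x⁻¹⁻¹)⁻¹ * (x * (x⁻¹ * v * x⁻¹⁻¹) * x⁻¹))⁻¹ := by group
        rw [h3]
        exact h2 }
  have hHBB : ¬ H ≤ BB := by
    intro hle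
    have hD : ⁅V, H⁆ ≤ V₀ := by
      rw [Subgroup.commutator_le]
      intro v hv x hx
      have h1 := hle hx v⁻¹ (V.inv_mem hv)
      have h2 : ⁅v, x⁆ = v⁻¹⁻¹ * (x * v⁻¹ * x⁻¹) := by
        rw [commutatorElement_def]
        group
      rw [h2]
      exact h1
    have hDn : (⁅V, H⁆ : Subgroup Γ).Normal := Subgroup.commutator_normal V H
    rcases hV.2.2 _ hDn (hD.trans hV₀V) with h1 | h1
    · -- `V` is central in `H`
      apply hV.2.1
      rw [eq_bot_iff, ← hnc]
      refine le_inf le_rfl ?_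
      rw [Subgroup.commutator_eq_bot_iff_le_centralizer] at h1
      exact h1
    · rw [h1] at hD
      exact huV₀ (hD hu1)
  have hVneH : V ≠ H := by
    intro he
    apply hV.2.1
    rw [eq_bot_iff, ← hnc]
    refine le_inf le_rfl ?_
    intro x hx
    rw [Subgroup.mem_centralizer_iff]
    intro y hy
    rw [← he] at hy
    exact hVcomm y hy x hx
  -- the family
  set 𝒮 : Set (Subgroup Γ) := {S | S ≤ H ∧ V ≤ S ∧ S ≠ H ∧ P ≤ normalizer (S : Set Γ)} with h𝒮
  have hV𝒮 : V ∈ 𝒮 := ⟨hVH, le_rfl, hVneH, hPV⟩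
  set N : Subgroup Γ := ⨆ S ∈ 𝒮, ⁅S, P⁆ with hN
  have hleN : ∀ S ∈ 𝒮, ⁅S, P⁆ ≤ N := fun S hS => le_iSup₂_of_le S hS le_rfl
  have hNBB : N ≤ BB := by
    refine iSup₂_le ?_
    intro S hS k hk v hv
    exact hkey S hS.1 hS.2.1 hS.2.2.1 hS.2.2.2 k hk v hv
  have hNH : N ≤ H := by
    refine iSup₂_le ?_
    intro S hS
    exact (h.act hS.1 hS.2.2.2).commutator_le_self.trans hS.1
  have hNP : P ≤ normalizer (N : Set Γ) := by
    apply le_normalizer_of_conj_mem
    intro a ha x hx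
    have h1 : N ≤ N.comap (MulAut.conj a).toMonoidHom := by
      refine iSup₂_le ?_
      intro S hS y hy
      rw [Subgroup.mem_comap]
      apply hleN S hS
      exact (Subgroup.mem_normalizer_iff.1 ((h.act hS.1 hS.2.2.2).le_normalizer_commutator ha) y).1 hy
    exact h1 hx
  have hCN : H ⊓ C ≤ normalizer (N : Set Γ) := by
    apply le_normalizer_of_conj_mem
    intro c hc x hx
    obtain ⟨hc1, hc2⟩ := Subgroup.mem_inf.1 hc
    have hconjP : ∀ a ∈ P, c * a * c⁻¹ = a := by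
      intro a ha
      have := Subgroup.mem_centralizer_iff.1 hc2 a ha
      rw [← this]
      group
    have h1 : N ≤ N.comap (MulAut.conj c).toMonoidHom := by
      refine iSup₂_le ?_
      intro S hS
      have hS' : S.map (MulAut.conj c).toMonoidHom ∈ 𝒮 := by
        obtain ⟨hS1, hS2, hS3, hS4⟩ := hS
        refine ⟨?_, ?_, ?_, ?_⟩
        · rintro _ ⟨s, hs, rfl⟩
          exact H.mul_mem (H.mul_mem hc1 (hS1 hs)) (H.inv_mem hc1)
        · intro v hv
          refine ⟨c⁻¹ * v * c⁻¹⁻¹, hS2 (hVn.conj_mem v hv c⁻¹), ?_⟩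
          simp only [inv_inv, MulEquiv.coe_toMonoidHom, MulAut.conj_apply]
          group
        · intro he
          apply hS3
          apply le_antisymm hS1
          intro x hx
          have hx' : c * x * c⁻¹ ∈ S.map (MulAut.conj c).toMonoidHom := by
            rw [he]
            exact H.mul_mem (H.mul_mem hc1 hx) (H.inv_mem hc1)
          obtain ⟨s, hs, hse⟩ := hx'
          have hse' : c * s * c⁻¹ = c * x * c⁻¹ := hse
          have : s = x := by
            have h3 := mul_right_cancel hse'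
            exact mul_left_cancel h3
          rwa [← this]
        · apply le_normalizer_of_conj_mem
          rintro a ha _ ⟨s, hs, rfl⟩
          refine ⟨a * s * a⁻¹, conj_mem_of_le_normalizer hS4 ha hs, ?_⟩
          have h5 := hconjP a ha
          have h6 : a * c = c * a := by
            have := Subgroup.mem_centralizer_iff.1 hc2 a ha
            exact this
          simp only [MulEquiv.coe_toMonoidHom, MulAut.conj_apply]
          have h7 : c⁻¹ * a⁻¹ = a⁻¹ * c⁻¹ := by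
            calc c⁻¹ * a⁻¹ = (a * c)⁻¹ := by group
              _ = (c * a)⁻¹ := by rw [h6]
              _ = a⁻¹ * c⁻¹ := by group
          calc c * (a * s * a⁻¹) * c⁻¹ = (c * a) * s * (a⁻¹ * c⁻¹) := by group
            _ = (a * c) * s * (c⁻¹ * a⁻¹) := by rw [h6, h7]
            _ = a * (c * s * c⁻¹) * a⁻¹ := by group
      intro y hy
      rw [Subgroup.mem_comap]
      apply hleN _ hS'
      have h2 : (MulAut.conj c).toMonoidHom y ∈ (⁅S, P⁆ : Subgroup Γ).map (MulAut.conj c).toMonoidHom := ⟨y, hy, rfl⟩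
      rw [Subgroup.map_commutator] at h2
      have hPm : P.map (MulAut.conj c).toMonoidHom = P := by
        ext a
        constructor
        · rintro ⟨b, hb, rfl⟩
          have := hconjP b hb
          simp only [MulEquiv.coe_toMonoidHom, MulAut.conj_apply]
          rwa [this]
        · intro ha
          refine ⟨a, ha, ?_⟩
          simp only [MulEquiv.coe_toMonoidHom, MulAut.conj_apply]
          exact hconjP a ha
      rwa [hPm] at h2
    exact h1 hx
  set T := N ⊔ (H ⊓ C) with hT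
  have hTH : T ≤ H := sup_le hNH inf_le_left
  have hTmem : ∀ x, x ∈ T ↔ ∃ k ∈ N, ∃ c ∈ H ⊓ C, x = k * c := fun x => mem_sup_iff_of_le_normalizer hCN x
  have hSleT : ∀ S ∈ 𝒮, S ≤ T := by
    intro S hS x hx
    obtain ⟨n, hn, c, hc, rfl⟩ := (h.act hS.1 hS.2.2.2).exists_commutator_mul_centralizer hx
    obtain ⟨hc1, hc2⟩ := Subgroup.mem_inf.1 hc
    exact T.mul_mem ((le_sup_left : N ≤ T) (hleN S hS hn))
      ((le_sup_right : H ⊓ C ≤ T) (Subgroup.mem_inf.2 ⟨hS.1 hc1, hc2⟩))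
  have hTne : T ≠ H := by
    intro hTe
    apply hHBB
    have h1 : ⁅H, P⁆ ≤ N := by
      rw [Subgroup.commutator_le]
      intro x hx a ha
      rw [← hTe] at hx
      obtain ⟨k, hk, c, hc, rfl⟩ := (hTmem x).1 hx
      obtain ⟨hc1, hc2⟩ := Subgroup.mem_inf.1 hc
      have hac : a * c = c * a := Subgroup.mem_centralizer_iff.1 hc2 a ha
      have h2 : ⁅k * c, a⁆ = k * (a * k⁻¹ * a⁻¹) := by
        rw [commutatorElement_def]
        have h3 : c * a * c⁻¹ = a := by
          rw [← hac]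
          group
        calc k * c * a * (k * c)⁻¹ * a⁻¹ = k * (c * a * c⁻¹) * k⁻¹ * a⁻¹ := by group
          _ = k * a * k⁻¹ * a⁻¹ := by rw [h3]
          _ = k * (a * k⁻¹ * a⁻¹) := by group
      rw [h2]
      exact N.mul_mem hk (conj_mem_of_le_normalizer hNP ha (N.inv_mem hk))
    rw [h.heq] at h1
    exact h1.trans hNBB
  have hCP : P ≤ normalizer ((H ⊓ C : Subgroup Γ) : Set Γ) := by
    apply le_normalizer_of_conj_mem
    intro a ha x hx
    obtain ⟨hx1, hx2⟩ := Subgroup.mem_inf.1 hx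
    refine Subgroup.mem_inf.2 ⟨conj_mem_of_le_normalizer hPH ha hx1, ?_⟩
    have hax : a * x = x * a := Subgroup.mem_centralizer_iff.1 hx2 a ha
    have h3 : a * x * a⁻¹ = x := by
      rw [hax]
      group
    rwa [h3]
  have hTP : P ≤ normalizer (T : Set Γ) := le_normalizer_sup hNP hCP
  have hT𝒮 : T ∈ 𝒮 := ⟨hTH, hSleT V hV𝒮, hTne, hTP⟩
  -- the Sylow subgroup
  have hidx : T.relIndex H ≠ 1 := by
    intro h1
    apply hTne
    rw [Subgroup.relIndex_eq_one] at h1
    exact le_antisymm hTH h1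
  obtain ⟨r, hrp, hrd⟩ := Nat.exists_prime_and_dvd hidx
  haveI hr : Fact r.Prime := ⟨hrp⟩
  obtain ⟨S₀, hS₀⟩ := exists_invariant_sylow (A := P) (K := H) hPH
    (by rw [h.hcard]; exact h.hcop.symm) (Or.inl h.Psol) r
  set R := (S₀ : Subgroup ↥H).map H.subtype with hR
  have hRH : R ≤ H := by
    rintro _ ⟨y, _, rfl⟩
    exact y.2
  have hRp : IsPGroup r R := (S₀.isPGroup').map H.subtype
  have hRT : ¬ R ≤ T := by
    intro hle
    have h1 := Subgroup.relIndex_mul_relIndex R T H hle hTH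
    have h2 : R.relIndex H = (S₀ : Subgroup ↥H).index := by
      have h20 : R.subgroupOf H = (S₀ : Subgroup ↥H) := by
        ext x
        rw [Subgroup.mem_subgroupOf, hR]
        constructor
        · rintro ⟨y, hy, hye⟩
          have h21 : y = x := Subtype.ext hye
          rw [← h21]
          exact hy
        · intro hx
          exact ⟨x, hx, rfl⟩
      rw [Subgroup.relIndex, h20]
    rw [h2] at h1
    exact S₀.not_dvd_index (by rw [← h1]; exact Dvd.dvd.mul_left hrd _)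
  have hVR : V ⊔ R = H := by
    by_contra hne
    have hmem : V ⊔ R ∈ 𝒮 := ⟨sup_le hVH hRH, le_sup_left, hne, le_normalizer_sup hPV hS₀⟩
    exact hRT (le_sup_right.trans (hSleT _ hmem))
  have hrq : r ≠ q := by
    intro hrq
    subst hrq
    have hHp : IsPGroup r H := by
      rw [← hVR]
      exact hVq.to_sup_of_normal_left hRp
    haveI hVN : (V.subgroupOf H).Normal := Subgroup.Normal.subgroupOf hVn H
    have hne : V.subgroupOf H ≠ ⊥ := by
      intro he
      apply hV.2.1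
      rw [eq_bot_iff]
      intro x hx
      have h1 : (⟨x, hVH hx⟩ : H) ∈ V.subgroupOf H := Subgroup.mem_subgroupOf.2 hx
      rw [he, Subgroup.mem_bot] at h1
      exact Subgroup.mem_bot.2 (congrArg Subtype.val h1)
    obtain ⟨z, hzN, hz1, hzc, -⟩ := Cfsg.Agent.Lib.Transfer.exists_central_of_normal hHp hne
    have hzV : (z : Γ) ∈ V ⊓ centralizer (H : Set Γ) := by
      refine Subgroup.mem_inf.2 ⟨Subgroup.mem_subgroupOf.1 hzN, ?_⟩
      rw [Subgroup.mem_centralizer_iff]
      intro y hy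
      exact congrArg Subtype.val (hzc ⟨y, hy⟩)
    rw [hnc, Subgroup.mem_bot] at hzV
    exact hz1 (Subtype.ext hzV)
  have hVdisjR : ∀ x ∈ V, x ∈ R → x = 1 := by
    intro x hx hxR
    exact (Subgroup.disjoint_def.1 (IsPGroup.disjoint_of_ne q r hrq.symm V R hVq hRp)) hx hxR
  have hactR : CoprimeAction P R := h.act hRH hS₀
  have hRn : R ≤ normalizer (V : Set Γ) := h.norm_of_normal hVn R
  have hKR : ⁅R, P⁆ = R := by
    apply le_antisymm hactR.commutator_le_self
    intro r₁ hr₁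
    have hKV : ⁅R, P⁆ ≤ normalizer (V : Set Γ) := h.norm_of_normal hVn _
    have h1 : ⁅H, P⁆ ≤ V ⊔ ⁅R, P⁆ := by
      rw [Subgroup.commutator_le]
      intro x hx a ha
      rw [← hVR] at hx
      obtain ⟨v, hv, y, hy, rfl⟩ := (mem_sup_iff_of_le_normalizer hRn x).1 hx
      have h2 : ⁅v * y, a⁆ = v * ⁅y, a⁆ * (a * v⁻¹ * a⁻¹) := by
        rw [commutatorElement_def, commutatorElement_def]
        group
      rw [h2]
      exact (V ⊔ ⁅R, P⁆).mul_mem ((V ⊔ ⁅R, P⁆).mul_mem ((le_sup_left : V ≤ V ⊔ ⁅R, P⁆) hv)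
        ((le_sup_right : ⁅R, P⁆ ≤ V ⊔ ⁅R, P⁆) (Subgroup.commutator_mem_commutator hy ha)))
        ((le_sup_left : V ≤ V ⊔ ⁅R, P⁆) (hVn.conj_mem _ (V.inv_mem hv) a))
    rw [h.heq] at h1
    obtain ⟨v, hv, k, hk, he⟩ := (mem_sup_iff_of_le_normalizer hKV r₁).1 (h1 (hRH hr₁))
    have hvR : v ∈ R := by
      have h3 : v = r₁ * k⁻¹ := by
        rw [he]
        group
      rw [h3]
      exact R.mul_mem hr₁ (R.inv_mem (hactR.commutator_le_self hk))
    have hv1 := hVdisjR v hv hvR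
    rw [he, hv1, one_mul]
    exact hk
  obtain ⟨g, hgR, hgT⟩ := Set.not_subset.1 hRT
  set G₂ := closure {c | ∃ b ∈ P, c = b * g * b⁻¹} with hG₂
  have hG₂R : G₂ ≤ R := by
    rw [hG₂, closure_le]
    rintro _ ⟨b, hb, rfl⟩
    exact conj_mem_of_le_normalizer hS₀ hb hgR
  have hgG : g ∈ G₂ := Subgroup.subset_closure ⟨1, P.one_mem, by simp⟩
  have hG₂P : P ≤ normalizer (G₂ : Set Γ) := by
    apply le_normalizer_of_conj_mem
    intro a ha x hx
    have h1 : G₂ ≤ G₂.comap (MulAut.conj a).toMonoidHom := by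
      rw [hG₂, closure_le]
      rintro _ ⟨b, hb, rfl⟩
      rw [SetLike.mem_coe, Subgroup.mem_comap]
      apply Subgroup.subset_closure
      refine ⟨a * b, P.mul_mem ha hb, ?_⟩
      simp only [MulEquiv.coe_toMonoidHom, MulAut.conj_apply]
      group
    exact h1 hx
  have hVG : V ⊔ G₂ = H := by
    by_contra hne
    have hmem : V ⊔ G₂ ∈ 𝒮 := ⟨sup_le hVH (hG₂R.trans hRH), le_sup_left, hne, le_normalizer_sup hPV hG₂P⟩
    exact hgT (hSleT _ hmem ((le_sup_right : G₂ ≤ V ⊔ G₂) hgG))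
  have hRG : R ≤ G₂ := by
    intro r₁ hr₁
    have hGV : G₂ ≤ normalizer (V : Set Γ) := h.norm_of_normal hVn _
    have h1 : r₁ ∈ V ⊔ G₂ := by
      rw [hVG]
      exact hRH hr₁
    obtain ⟨v, hv, k, hk, he⟩ := (mem_sup_iff_of_le_normalizer hGV r₁).1 h1
    have hvR : v ∈ R := by
      have h3 : v = r₁ * k⁻¹ := by
        rw [he]
        group
      rw [h3]
      exact R.mul_mem hr₁ (R.inv_mem (hG₂R hk))
    have hv1 := hVdisjR v hv hvR
    rw [he, hv1, one_mul]
    exact hk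
  have hLg : LL P g = R := LL_eq_of_generated hgR hS₀ hRp.isNilpotent hKR hRG
  exact huY (h.critical hV hVH hVab hVq hRH hS₀ hRp hrq hVR hnc hgR hLg hu)

end Setup

end Cfsg.Agent.Lib.Coprime.TG
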