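import Mathlib
import Cfsg.Agent.Lib.Coprime.TG4
import Cfsg.Agent.Lib.OddLocal.Rank2F
import Cfsg.Agent.Lib.Coprime.PSolvable

/-!
# Fixed points of `[H, P]`: central minimal normal subgroups
-/

set_option autoImplicit false
set_option linter.unusedSectionVars false
set_option linter.style.haveILetI false
set_option linter.unusedVariables false

namespace Cfsg.Agent.Lib.Coprime.TG

open Subgroup Cfsg Cfsg.Agent.Lib.Coprime Cfsg.Agent.Lib.Basic
open scoped commutatorElement

variable {Γ : Type*} [Group Γ] [Finite Γ]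

/-- The structure of a minimal counterexample. -/
structure Setup2 (P H V : Subgroup Γ) : Prop where
  minV : IsMinNormal V
  hVH : V ≤ H
  central : V ≤ centralizer (H : Set Γ)
  fixed : V ≤ centralizer (P : Set Γ)
  hY : ∀ x ∈ YY P H, x ∈ centralizer (H : Set Γ) → x = 1
  hV3 : ∀ R : Subgroup Γ, R.Normal → R ≤ H → R ≠ ⊥ → V ≤ R
  decomp : ∀ c ∈ H ⊓ centralizer (P : Set Γ), ∃ y ∈ YY P H, ∃ v ∈ V, c = y * v
  hZ : H ⊓ centralizer (H : Set Γ) ≤ V

namespace Setup

variable {p : ℕ} {P H : Subgroup Γ} (h : Setup p P H)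

include h

theorem exists_setup2 (hc : ¬ H ⊓ centralizer (P : Set Γ) ≤ YY P H) : ∃ V, Setup2 P H V := by
  classical
  haveI hHn : H.Normal := h.hnorm
  obtain ⟨c, hc1, hc2⟩ := Set.not_subset.1 hc
  have hHb : H ≠ ⊥ := by
    intro hb
    rw [hb] at hc1
    have h1 : c = 1 := Subgroup.mem_bot.1 (Subgroup.mem_inf.1 hc1).1
    apply hc2
    rw [h1]
    exact Subgroup.one_mem _
  -- properties of all minimal normal subgroups
  have hA1 : ∀ V : Subgroup Γ, IsMinNormal V → V ≤ H → V ≤ centralizer (H : Set Γ) ∧ V ≤ centralizer (P : Set Γ)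
      ∧ ¬ V ≤ YY P H := by
    intro V hV hVH
    haveI hVn : V.Normal := hV.1
    have hCHn : (centralizer (H : Set Γ)).Normal := inferInstance
    have hcentral : V ≤ centralizer (H : Set Γ) := by
      rcases hV.2.2 (V ⊓ centralizer (H : Set Γ)) inferInstance inf_le_left with h1 | h1
      · exfalso
        apply hc2
        obtain ⟨y, hy, r, hr, rfl⟩ := h.hQ V hVn hVH hV.2.1 c hc1
        exact (YY P H).mul_mem hy (h.lemmaB hV hVH h1 hr)
      · exact inf_eq_left.1 h1
    have hnY : ¬ V ≤ YY P H := by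
      intro hle
      apply hc2
      obtain ⟨y, hy, r, hr, rfl⟩ := h.hQ V hVn hVH hV.2.1 c hc1
      exact (YY P H).mul_mem hy (hle (Subgroup.mem_inf.1 hr).1)
    have hfixed : V ≤ centralizer (P : Set Γ) := by
      have hnorm : (V ⊓ centralizer (P : Set Γ)).Normal := by
        apply h.normal_of
        · apply le_normalizer_of_conj_mem
          intro x hx y hy
          obtain ⟨hy1, hy2⟩ := Subgroup.mem_inf.1 hy
          have h3 : x * y * x⁻¹ = y := by
            have := Subgroup.mem_centralizer_iff.1 (hcentral hy1) x hx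
            rw [this]
            group
          rw [h3]
          exact hy
        · apply le_normalizer_of_conj_mem
          intro x hx y hy
          obtain ⟨hy1, hy2⟩ := Subgroup.mem_inf.1 hy
          have h3 : x * y * x⁻¹ = y := by
            have := Subgroup.mem_centralizer_iff.1 hy2 x hx
            rw [this]
            group
          rw [h3]
          exact hy
      rcases hV.2.2 _ hnorm inf_le_left with h1 | h1
      · exfalso
        apply hc2
        obtain ⟨y, hy, r, hr, rfl⟩ := h.hQ V hVn hVH hV.2.1 c hc1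
        rw [h1, Subgroup.mem_bot] at hr
        rw [hr, mul_one]
        exact hy
      · exact inf_eq_left.1 h1
    exact ⟨hcentral, hfixed, hnY⟩
  obtain ⟨V, hV, hVH⟩ := exists_isMinNormal_le hHn hHb
  obtain ⟨hV1, hV2, hV3⟩ := hA1 V hV hVH
  have hCn : (centralizer (H : Set Γ)).Normal := inferInstance
  -- `Y` meets the centre of `H` trivially
  have hY : ∀ x ∈ YY P H, x ∈ centralizer (H : Set Γ) → x = 1 := by
    intro x hx hxc
    by_contra hx1
    have hxC : x ∈ centralizer (P : Set Γ) := YY_le_centralizer P H hx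
    have hxH : x ∈ H := YY_le h.actH.normalizes hx
    have hzle : zpowers x ≤ YY P H := by
      rw [Subgroup.zpowers_le]
      exact hx
    have hzn : (zpowers x).Normal := by
      apply h.normal_of
      · apply le_normalizer_of_conj_mem
        intro g hg y hy
        obtain ⟨i, rfl⟩ := Subgroup.mem_zpowers_iff.1 hy
        have h3 : Commute g x := Subgroup.mem_centralizer_iff.1 hxc g hg
        have h4 : g * x ^ i * g⁻¹ = x ^ i := by
          rw [(h3.zpow_right i).eq]
          group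
        rw [h4]
        exact Subgroup.zpow_mem_zpowers x i
      · apply le_normalizer_of_conj_mem
        intro g hg y hy
        obtain ⟨i, rfl⟩ := Subgroup.mem_zpowers_iff.1 hy
        have h3 : Commute g x := Subgroup.mem_centralizer_iff.1 hxC g hg
        have h4 : g * x ^ i * g⁻¹ = x ^ i := by
          rw [(h3.zpow_right i).eq]
          group
        rw [h4]
        exact Subgroup.zpow_mem_zpowers x i
    have hzb : zpowers x ≠ ⊥ := by
      intro hb
      exact hx1 (Subgroup.zpowers_eq_bot.1 hb)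
    obtain ⟨M, hM, hMle⟩ := exists_isMinNormal_le hzn hzb
    have hMH : M ≤ H := hMle.trans (by
      rw [Subgroup.zpowers_le]
      exact hxH)
    exact (hA1 M hM hMH).2.2 (hMle.trans hzle)
  have hdecomp : ∀ V' : Subgroup Γ, IsMinNormal V' → V' ≤ H → ∀ c ∈ H ⊓ centralizer (P : Set Γ),
      ∃ y ∈ YY P H, ∃ v ∈ V', c = y * v := by
    intro V' hV' hV'H c hc
    obtain ⟨y, hy, r, hr, he⟩ := h.hQ V' hV'.1 hV'H hV'.2.1 c hc
    exact ⟨y, hy, r, (Subgroup.mem_inf.1 hr).1, he⟩
  have hunique : ∀ R : Subgroup Γ, R.Normal → R ≤ H → R ≠ ⊥ → V ≤ R := by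
    intro R hRn hRH hRb
    obtain ⟨M, hM, hMR⟩ := exists_isMinNormal_le hRn hRb
    have hMH := hMR.trans hRH
    obtain ⟨hM1, hM2, hM3⟩ := hA1 M hM hMH
    intro v hv
    have hvc : v ∈ H ⊓ centralizer (P : Set Γ) := Subgroup.mem_inf.2 ⟨hVH hv, hV2 hv⟩
    obtain ⟨y, hy, m, hm, he⟩ := hdecomp M hM hMH v hvc
    have hyc : y ∈ centralizer (H : Set Γ) := by
      have h1 : y = v * m⁻¹ := by
        rw [he]
        group
      rw [h1]
      exact (centralizer (H : Set Γ)).mul_mem (hV1 hv) ((centralizer (H : Set Γ)).inv_mem (hM1 hm))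
    have hy1 := hY y hy hyc
    rw [hy1, one_mul] at he
    rw [he]
    exact hMR hm
  have hZle : H ⊓ centralizer (H : Set Γ) ≤ V := by
    set Z := H ⊓ centralizer (H : Set Γ) with hZ
    have hZn : Z.Normal := inferInstance
    have hZP : P ≤ normalizer (Z : Set Γ) := h.norm_of_normal hZn P
    have hactZ : CoprimeAction P Z := h.act inf_le_left hZP
    have hZcomm : ∀ x ∈ Z, ∀ y ∈ Z, x * y = y * x := by
      intro x hx y hy
      exact (Subgroup.mem_centralizer_iff.1 (Subgroup.mem_inf.1 hy).2 x (Subgroup.mem_inf.1 hx).1)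
    have hZab : IsMulCommutative Z := ⟨⟨fun x y => Subtype.ext (hZcomm x x.2 y y.2)⟩⟩
    have hcZ : ⁅Z, P⁆ = ⊥ := by
      by_contra hne
      have hn : (⁅Z, P⁆ : Subgroup Γ).Normal := by
        apply h.normal_of
        · apply le_normalizer_of_conj_mem
          intro x hx y hy
          have hyZ : y ∈ Z := hactZ.commutator_le_self hy
          have h3 : x * y * x⁻¹ = y := by
            have := Subgroup.mem_centralizer_iff.1 (Subgroup.mem_inf.1 hyZ).2 x hx
            rw [this]
            group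
          rw [h3]
          exact hy
        · exact hactZ.le_normalizer_commutator
      have hle := hunique _ hn (hactZ.commutator_le_self.trans inf_le_left) hne
      have hbot := hactZ.commutator_inf_centralizer_eq_bot hZab
      apply hV.2.1
      rw [eq_bot_iff, ← hbot]
      refine le_inf hle (le_inf (le_inf hVH hV1) hV2)
    have hZC : Z ≤ centralizer (P : Set Γ) := by
      rw [Subgroup.commutator_eq_bot_iff_le_centralizer] at hcZ
      exact hcZ
    intro z hz
    obtain ⟨y, hy, v, hv, he⟩ := hdecomp V hV hVH z (Subgroup.mem_inf.2 ⟨(Subgroup.mem_inf.1 hz).1, hZC hz⟩)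
    have hyc : y ∈ centralizer (H : Set Γ) := by
      have h1 : y = z * v⁻¹ := by
        rw [he]
        group
      rw [h1]
      exact (centralizer (H : Set Γ)).mul_mem (Subgroup.mem_inf.1 hz).2 ((centralizer (H : Set Γ)).inv_mem (hV1 hv))
    have hy1 := hY y hy hyc
    rw [hy1, one_mul] at he
    rw [he]
    exact hv
  exact ⟨V, hV, hVH, hV1, hV2, hY, hunique, hdecomp V hV hVH, hZle⟩

/-- Proper invariant subgroups have derived subgroups meeting `V` trivially. -/
theorem deriv_meet {V : Subgroup Γ} (hV : Setup2 P H V) {S : Subgroup Γ} (hSH : S ≤ H) (hne : S ≠ H)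
    (hSP : P ≤ normalizer (S : Set Γ)) {u : Γ} (hu : u ∈ V) (huS : u ∈ ⁅S, S⁆) : u = 1 := by
  classical
  have hactS : CoprimeAction P S := h.act hSH hSP
  set K := ⁅S, P⁆ with hK
  set Y := YY P H with hY
  set C := centralizer (P : Set Γ) with hC
  have hKS : S ≤ normalizer (K : Set Γ) := hactS.le_normalizer_commutator'
  have hKle : K ≤ S := hactS.commutator_le_self
  have hYn : Y ⊓ S ≤ normalizer (K : Set Γ) := inf_le_right.trans hKS
  have hmem : ∀ x, x ∈ K ⊔ (Y ⊓ S) ↔ ∃ k ∈ K, ∃ y ∈ Y ⊓ S, x = k * y :=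
    fun x => mem_sup_iff_of_le_normalizer hYn x
  have hle : ⁅S, S⁆ ≤ K ⊔ (Y ⊓ S) := by
    rw [Subgroup.commutator_le]
    intro s₁ hs₁ s₂ hs₂
    obtain ⟨k₁, hk₁, c₁, hc₁, rfl⟩ := hactS.exists_commutator_mul_centralizer hs₁
    obtain ⟨k₂, hk₂, c₂, hc₂, rfl⟩ := hactS.exists_commutator_mul_centralizer hs₂
    obtain ⟨hc₁S, hc₁C⟩ := Subgroup.mem_inf.1 hc₁
    obtain ⟨hc₂S, hc₂C⟩ := Subgroup.mem_inf.1 hc₂
    set B := ⁅c₁, c₂⁆ with hB
    have hBS : B ∈ S := by
      rw [hB, commutatorElement_def]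
      exact S.mul_mem (S.mul_mem (S.mul_mem hc₁S hc₂S) (S.inv_mem hc₁S)) (S.inv_mem hc₂S)
    have hBY : B ∈ Y := by
      obtain ⟨y₁, hy₁, v₁, hv₁, he⟩ := hV.decomp c₁ (Subgroup.mem_inf.2 ⟨hSH hc₁S, hc₁C⟩)
      have hv₁c : v₁ * c₂ = c₂ * v₁ := (Subgroup.mem_centralizer_iff.1 (hV.central hv₁) c₂ (hSH hc₂S)).symm
      have h1 : B = y₁ * (c₂ * y₁⁻¹ * c₂⁻¹) := by
        rw [hB, commutatorElement_def, he]
        calc y₁ * v₁ * c₂ * (y₁ * v₁)⁻¹ * c₂⁻¹ = y₁ * (v₁ * c₂) * v₁⁻¹ * y₁⁻¹ * c₂⁻¹ := by group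
          _ = y₁ * (c₂ * v₁) * v₁⁻¹ * y₁⁻¹ * c₂⁻¹ := by rw [hv₁c]
          _ = y₁ * (c₂ * y₁⁻¹ * c₂⁻¹) := by group
      rw [h1]
      exact Y.mul_mem hy₁ (conj_YY (hSH hc₂S) hc₂C (Y.inv_mem hy₁))
    have hconjK : ∀ g ∈ S, ∀ k ∈ K, g * k * g⁻¹ ∈ K :=
      fun g hg k hk => (Subgroup.mem_normalizer_iff.1 (hKS hg) k).1 hk
    set A := k₁ * (c₁ * k₂ * c₁⁻¹) with hA
    have hAK : A ∈ K := K.mul_mem hk₁ (hconjK c₁ hc₁S k₂ hk₂)
    have h2 : ⁅k₁ * c₁, k₂ * c₂⁆ = (A * (B * ((c₂ * k₁⁻¹ * c₂⁻¹) * k₂⁻¹) * B⁻¹)) * B := by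
      rw [hA, hB, commutatorElement_def, commutatorElement_def]
      group
    rw [h2]
    refine (K ⊔ (Y ⊓ S)).mul_mem ?_ ?_
    · apply (le_sup_left : K ≤ K ⊔ (Y ⊓ S))
      exact K.mul_mem hAK (hconjK B hBS _ (K.mul_mem (hconjK c₂ hc₂S _ (K.inv_mem hk₁)) (K.inv_mem hk₂)))
    · apply (le_sup_right : Y ⊓ S ≤ K ⊔ (Y ⊓ S))
      exact Subgroup.mem_inf.2 ⟨hBY, hBS⟩
  obtain ⟨k, hk, y, hy, he⟩ := (hmem u).1 (hle huS)
  obtain ⟨hy1, hy2⟩ := Subgroup.mem_inf.1 hy
  have hyC : y ∈ C := YY_le_centralizer P H hy1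
  have hkC : k ∈ C := by
    have h1 : k = u * y⁻¹ := by
      rw [he]
      group
    rw [h1]
    exact C.mul_mem (hV.fixed hu) (C.inv_mem hyC)
  have hkY : k ∈ Y := h.hS S hSH hne hSP (Subgroup.mem_inf.2 ⟨hk, hkC⟩)
  have huY : u ∈ Y := by
    rw [he]
    exact Y.mul_mem hkY hy1
  exact hV.hY u huY (hV.central hu)

/-- `H` is a `q`-group. -/
theorem isP {V : Subgroup Γ} (hV : Setup2 P H V) {q : ℕ} [hq : Fact q.Prime] (hVq : IsPGroup q V) : IsPGroup q H := by
  classical
  haveI hHn : H.Normal := h.hnorm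
  haveI hΓ : Group.IsSolvable Γ := h.solvable
  have hVb : V ≠ ⊥ := hV.minV.2.1
  have hS : ({K : Subgroup Γ | K.Normal ∧ K ≤ H ∧ K ≠ H}).Nonempty :=
    ⟨⊥, inferInstance, bot_le, fun he => by
      apply hVb
      rw [eq_bot_iff, he]
      exact hV.hVH⟩
  obtain ⟨N, hNmax⟩ := (Set.toFinite _).exists_maximal hS
  obtain ⟨⟨hNn, hNH, hNne⟩, hNm⟩ := hNmax
  haveI := hNn
  -- `N` is abelian
  have hNab : ⁅N, N⁆ = ⊥ := by
    by_contra hne
    have hn : (⁅N, N⁆ : Subgroup Γ).Normal := Subgroup.commutator_normal N N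
    have hle := hV.hV3 _ hn ((Subgroup.commutator_le_self N).trans hNH) hne
    apply hVb
    rw [eq_bot_iff]
    intro v hv
    exact Subgroup.mem_bot.2 (h.deriv_meet hV hNH hNne (h.norm_of_normal hNn P) hv (hle hv))
  have hNcomm : ∀ x ∈ N, ∀ y ∈ N, x * y = y * x := by
    rw [Subgroup.commutator_eq_bot_iff_le_centralizer] at hNab
    intro x hx y hy
    exact Subgroup.mem_centralizer_iff.1 (hNab hy) x hx
  -- `N` is a `q`-group
  have hNq : IsPGroup q N := by
    obtain ⟨e, n', hn', hcardN⟩ := Nat.exists_eq_pow_mul_and_not_dvd (Nat.card_pos (α := N)).ne' q hq.out.ne_one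
    let T : Subgroup Γ :=
      { carrier := {x | x ∈ N ∧ x ^ n' = 1}
        one_mem' := ⟨N.one_mem, one_pow _⟩
        mul_mem' := by
          rintro x y ⟨hx, hx2⟩ ⟨hy, hy2⟩
          refine ⟨N.mul_mem hx hy, ?_⟩
          have h1 : Commute x y := hNcomm x hx y hy
          rw [h1.mul_pow, hx2, hy2, one_mul]
        inv_mem' := by
          rintro x ⟨hx, hx2⟩
          exact ⟨N.inv_mem hx, by rw [inv_pow, hx2, inv_one]⟩ }
    have hTn : T.Normal := by
      constructor
      rintro x ⟨hx, hx2⟩ g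
      refine ⟨hNn.conj_mem x hx g, ?_⟩
      rw [conj_pow, hx2]
      group
    have hTbot : T = ⊥ := by
      by_contra hne
      have hle := hV.hV3 T hTn ((fun x hx => hNH hx.1) : T ≤ H) hne
      apply hVb
      rw [eq_bot_iff]
      intro v hv
      obtain ⟨m, hm⟩ := hVq ⟨v, hv⟩
      have h1 : v ^ q ^ m = 1 := congrArg Subtype.val hm
      have h2 : v ^ n' = 1 := (hle hv).2
      have h3 : orderOf v ∣ q ^ m := orderOf_dvd_of_pow_eq_one h1
      have h4 : orderOf v ∣ n' := orderOf_dvd_of_pow_eq_one h2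
      have h5 : (q ^ m).Coprime n' := Nat.Coprime.pow_left m ((Nat.Prime.coprime_iff_not_dvd hq.out).2 hn')
      exact Subgroup.mem_bot.2 (orderOf_eq_one_iff.1 (Nat.eq_one_of_dvd_coprimes h5 h3 h4))
    intro x
    refine ⟨e, Subtype.ext ?_⟩
    have h1 : (x : Γ) ^ Nat.card N = 1 := by
      have := pow_card_eq_one' (x := x)
      exact congrArg Subtype.val this
    rw [hcardN, pow_mul] at h1
    have h2 : (x : Γ) ^ q ^ e ∈ T := ⟨N.pow_mem x.2 _, h1⟩
    rw [hTbot, Subgroup.mem_bot] at h2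
    exact h2
  -- the quotient
  let π := QuotientGroup.mk' N
  have hπs : Function.Surjective π := QuotientGroup.mk'_surjective N
  have hπ1 : ∀ x, π x = 1 ↔ x ∈ N := fun x => QuotientGroup.eq_one_iff x
  have hHbn : (H.map π).Normal := hHn.map π hπs
  have hmin : IsMinNormal (H.map π) := by
    refine ⟨hHbn, ?_, ?_⟩
    · intro hb
      apply hNne
      apply le_antisymm hNH
      intro x hx
      have h1 : π x ∈ H.map π := ⟨x, hx, rfl⟩
      rw [hb, Subgroup.mem_bot] at h1
      exact (hπ1 x).1 h1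
    · intro K hK hKle
      have hcn : (K.comap π).Normal := hK.comap π
      have hcle : K.comap π ≤ H := by
        intro x hx
        obtain ⟨y, hy, hye⟩ := hKle (Subgroup.mem_comap.1 hx)
        have h1 : y⁻¹ * x ∈ N := QuotientGroup.eq.1 hye
        have h2 : x = y * (y⁻¹ * x) := by group
        rw [h2]
        exact H.mul_mem hy (hNH h1)
      have hNc : N ≤ K.comap π := by
        intro x hx
        rw [Subgroup.mem_comap, (hπ1 x).2 hx]
        exact K.one_mem
      by_cases hcH : K.comap π = H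
      · right
        apply le_antisymm hKle
        rw [← hcH]
        exact (Subgroup.map_comap_le _ _)
      · left
        have h3 := hNm ⟨hcn, hcle, hcH⟩ hNc
        rw [eq_bot_iff]
        intro x hx
        obtain ⟨g, rfl⟩ := hπs x
        have hg : g ∈ N := h3 (Subgroup.mem_comap.2 hx)
        rw [(hπ1 g).2 hg]
        exact Subgroup.one_mem _
  obtain ⟨-, s, hsp, hsH⟩ := hmin.isPGroup
  haveI hs : Fact s.Prime := ⟨hsp⟩
  by_cases hsq : s = q
  · subst hsq
    intro x
    obtain ⟨k, hk⟩ := hsH ⟨π x, x, x.2, rfl⟩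
    have h1 : (π x) ^ s ^ k = 1 := congrArg Subtype.val hk
    rw [← map_pow, hπ1] at h1
    obtain ⟨m, hm⟩ := hNq ⟨_, h1⟩
    refine ⟨k + m, Subtype.ext ?_⟩
    have h2 : ((x : Γ) ^ s ^ k) ^ s ^ m = 1 := congrArg Subtype.val hm
    rw [← pow_mul, ← pow_add] at h2
    simpa using h2
  · exfalso
    have hVN : V ≤ N := by
      intro v hv
      have h1 : π v ∈ H.map π := ⟨v, hV.hVH hv, rfl⟩
      have h2 : π v ∈ V.map π := ⟨v, hv, rfl⟩
      have h3 := (Subgroup.disjoint_def.1 (IsPGroup.disjoint_of_ne s q hsq (H.map π) (V.map π) hsH (hVq.map π))) h1 h2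
      exact (hπ1 v).1 h3
    have hrel : N.relIndex H = Nat.card (H.map π) := by
      have := Subgroup.relIndex_ker (K := H) π
      rwa [QuotientGroup.ker_mk'] at this
    obtain ⟨k₁, hk₁⟩ := IsPGroup.iff_card.1 hNq
    obtain ⟨k₂, hk₂⟩ := IsPGroup.iff_card.1 hsH
    have hcop : (Nat.card N).Coprime (N.relIndex H) := by
      rw [hrel, hk₁, hk₂]
      exact Nat.Coprime.pow k₁ k₂ ((Nat.coprime_primes hq.out hs.out).2 (Ne.symm hsq))
    obtain ⟨R, hRH, hsup, hinf, hcR⟩ := exists_complement_of_coprime hNH (h.norm_of_normal hNn H) hcop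
    have hNsol : Group.IsSolvable N := by
      haveI := hNq.isNilpotent
      infer_instance
    have hactR : CoprimeAction R N := ⟨h.norm_of_normal hNn R, by rw [hcR]; exact hcop.symm, Or.inr hNsol⟩
    have hNabI : IsMulCommutative N := ⟨⟨fun x y => Subtype.ext (hNcomm x x.2 y y.2)⟩⟩
    have hle1 : ⁅N, H⁆ ≤ ⁅N, R⁆ := by
      rw [Subgroup.commutator_le]
      intro x hx y hy
      rw [← hsup] at hy
      obtain ⟨f, hf, r, hr, rfl⟩ := (mem_sup_iff_of_le_normalizer (h.norm_of_normal hNn R) y).1 hy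
      have h1 : ⁅x, r⁆ ∈ N := by
        have := hactR.comm_mem hx hr
        simpa [commutatorElement_def] using this
      have h2 : ⁅x, f * r⁆ = f * ⁅x, r⁆ * f⁻¹ := by
        rw [commutatorElement_def, commutatorElement_def]
        calc x * (f * r) * x⁻¹ * (f * r)⁻¹ = (x * f) * r * x⁻¹ * r⁻¹ * f⁻¹ := by group
          _ = (f * x) * r * x⁻¹ * r⁻¹ * f⁻¹ := by rw [hNcomm x hx f hf]
          _ = f * (x * r * x⁻¹ * r⁻¹) * f⁻¹ := by group
      have h3 : f * ⁅x, r⁆ * f⁻¹ = ⁅x, r⁆ := by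
        rw [hNcomm f hf _ h1]
        group
      rw [h2, h3]
      exact Subgroup.commutator_mem_commutator hx hr
    have hcentral : ⁅N, H⁆ = ⊥ := by
      by_contra hne
      have hle := hV.hV3 _ (Subgroup.commutator_normal N H) ((Subgroup.commutator_le_left N H).trans hNH) hne
      apply hVb
      rw [eq_bot_iff, ← hactR.commutator_inf_centralizer_eq_bot hNabI]
      refine le_inf (hle.trans hle1) (le_inf hVN ?_)
      intro v hv
      rw [Subgroup.mem_centralizer_iff]
      intro r hr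
      exact Subgroup.mem_centralizer_iff.1 (hV.central hv) r (hRH hr)
    rw [Subgroup.commutator_eq_bot_iff_le_centralizer] at hcentral
    have hRn : (R.subgroupOf H).Normal := by
      constructor
      intro x hx g
      rw [Subgroup.mem_subgroupOf] at hx ⊢
      have hg : (g : Γ) ∈ N ⊔ R := by
        rw [hsup]
        exact g.2
      obtain ⟨f, hf, r, hr, hfr⟩ := (mem_sup_iff_of_le_normalizer (h.norm_of_normal hNn R) (g : Γ)).1 hg
      have hfx : f * (r * x * r⁻¹) * f⁻¹ = r * x * r⁻¹ := by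
        have hm : r * (x : Γ) * r⁻¹ ∈ H := H.mul_mem (H.mul_mem (hRH hr) x.2) (H.inv_mem (hRH hr))
        have h7 := Subgroup.mem_centralizer_iff.1 (hcentral hf) _ hm
        rw [← h7]
        group
      have h8 : ((g * x * g⁻¹ : H) : Γ) = r * x * r⁻¹ := by
        simp only [Subgroup.coe_mul, Subgroup.coe_inv, hfr]
        rw [← hfx]
        group
      rw [h8]
      exact R.mul_mem (R.mul_mem hr hx) (R.inv_mem hr)
    have hcR₁ : Nat.card (R.subgroupOf H) = Nat.card R :=
      Nat.card_congr (Subgroup.subgroupOfEquivOfLe hRH).toEquiv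
    have hidx : (R.subgroupOf H).index = Nat.card N := by
      have h1 := (R.subgroupOf H).card_mul_index
      have h2 := (N.subgroupOf H).card_mul_index
      rw [Nat.card_congr (Subgroup.subgroupOfEquivOfLe hNH).toEquiv] at h2
      rw [hcR₁] at h1
      have h3 : (N.subgroupOf H).index = Nat.card R := hcR.symm
      rw [h3] at h2
      have h4 : Nat.card R * (R.subgroupOf H).index = Nat.card R * Nat.card N := by
        rw [h1, ← h2, mul_comm]
      exact Nat.eq_of_mul_eq_mul_left Nat.card_pos h4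
    haveI := hRn
    haveI hchar : (R.subgroupOf H).Characteristic :=
      Cfsg.Agent.Lib.OddLocal.characteristic_of_normal_hall _ (by
        rw [hcR₁, hidx, hcR]
        exact hcop.symm)
    have hRnΓ : R.Normal := by
      have h1 := normal_map_subtype_of_characteristic H (R.subgroupOf H)
      rwa [Subgroup.map_subgroupOf_eq_of_le hRH] at h1
    have hRb : R ≠ ⊥ := by
      intro hb
      rw [hb, sup_bot_eq] at hsup
      exact hNne hsup
    have hle2 := hV.hV3 R hRnΓ hRH hRb
    apply hVb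
    rw [eq_bot_iff, ← hinf]
    exact le_inf hVN hle2

end Setup

end Cfsg.Agent.Lib.Coprime.TG
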