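import Mathlib
import Cfsg.Agent.Lib.Coprime.TG5

/-!
# Fixed points of `[H, P]`: the class two computation and the end of the proof
-/

set_option autoImplicit false
set_option linter.unusedSectionVars false
set_option linter.style.haveILetI false
set_option linter.unusedVariables false

namespace Cfsg.Agent.Lib.Coprime.TG

open Subgroup Cfsg Cfsg.Agent.Lib.Coprime Cfsg.Agent.Lib.Basic
open scoped commutatorElement

variable {Γ : Type*} [Group Γ] [Finite Γ]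

/-- The class two computation. -/
theorem class_two {P H V : Subgroup Γ} {p : ℕ} (hcomm : ∀ s ∈ H, ∀ t ∈ H, ⁅s, t⁆ ∈ V)
    (hcen : ∀ v ∈ V, ∀ x ∈ H, v * x = x * v) (hVH : V ≤ H) (hVC : ∀ v ∈ V, ∀ a ∈ P, a * v = v * a)
    (hPH : ∀ a ∈ P, ∀ s ∈ H, a * s * a⁻¹ ∈ H) (hp : p.Prime) (hp2 : p ≠ 2) (hcard : Nat.card P = p)
    (hcop : (Nat.card V).Coprime p) (hLL : ∀ h ∈ H, ∀ v ∈ V, v ∈ LL P h → v = 1) :
    ∀ s ∈ H, ∀ t ∈ H, ∀ a ∈ P, s * (t⁻¹ * (a * t * a⁻¹)) = (t⁻¹ * (a * t * a⁻¹)) * s := by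
  have hVc : ∀ u ∈ V, ∀ v ∈ V, u * v = v * u := fun u hu v hv => hcen u hu v (hVH hv)
  have hmr : ∀ s ∈ H, ∀ t₁ ∈ H, ∀ t₂ ∈ H, ⁅s, t₁ * t₂⁆ = ⁅s, t₁⁆ * ⁅s, t₂⁆ := by
    intro s hs t₁ ht₁ t₂ ht₂
    have h1 : ⁅s, t₂⁆ * t₁⁻¹ = t₁⁻¹ * ⁅s, t₂⁆ := hcen _ (hcomm s hs t₂ ht₂) _ (H.inv_mem ht₁)
    calc ⁅s, t₁ * t₂⁆ = s * t₁ * s⁻¹ * ⁅s, t₂⁆ * t₁⁻¹ := by
          simp only [commutatorElement_def]
          group
      _ = s * t₁ * s⁻¹ * (⁅s, t₂⁆ * t₁⁻¹) := by group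
      _ = s * t₁ * s⁻¹ * (t₁⁻¹ * ⁅s, t₂⁆) := by rw [h1]
      _ = ⁅s, t₁⁆ * ⁅s, t₂⁆ := by
          simp only [commutatorElement_def]
          group
  have hml : ∀ s₁ ∈ H, ∀ s₂ ∈ H, ∀ t ∈ H, ⁅s₁ * s₂, t⁆ = ⁅s₁, t⁆ * ⁅s₂, t⁆ := by
    intro s₁ hs₁ s₂ hs₂ t ht
    have h1 : s₁ * ⁅s₂, t⁆ = ⁅s₂, t⁆ * s₁ := (hcen _ (hcomm s₂ hs₂ t ht) _ hs₁).symm
    calc ⁅s₁ * s₂, t⁆ = (s₁ * ⁅s₂, t⁆) * t * s₁⁻¹ * t⁻¹ := by
          simp only [commutatorElement_def]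
          group
      _ = (⁅s₂, t⁆ * s₁) * t * s₁⁻¹ * t⁻¹ := by rw [h1]
      _ = ⁅s₂, t⁆ * ⁅s₁, t⁆ := by
          simp only [commutatorElement_def]
          group
      _ = ⁅s₁, t⁆ * ⁅s₂, t⁆ := hVc _ (hcomm s₂ hs₂ t ht) _ (hcomm s₁ hs₁ t ht)
  have hinvr : ∀ s ∈ H, ∀ t ∈ H, ⁅s, t⁻¹⁆ = ⁅s, t⁆⁻¹ := by
    intro s hs t ht
    have h1 := hmr s hs t ht t⁻¹ (H.inv_mem ht)
    rw [mul_inv_cancel, commutatorElement_one_right] at h1
    exact eq_inv_of_mul_eq_one_right h1.symm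
  have hinvl : ∀ s ∈ H, ∀ t ∈ H, ⁅s⁻¹, t⁆ = ⁅s, t⁆⁻¹ := by
    intro s hs t ht
    have h1 := hml s hs s⁻¹ (H.inv_mem hs) t ht
    rw [mul_inv_cancel, commutatorElement_one_left] at h1
    exact eq_inv_of_mul_eq_one_right h1.symm
  have hconjP : ∀ a ∈ P, ∀ s ∈ H, ∀ t ∈ H, ⁅a * s * a⁻¹, a * t * a⁻¹⁆ = ⁅s, t⁆ := by
    intro a ha s hs t ht
    have h1 : a * ⁅s, t⁆ = ⁅s, t⁆ * a := hVC _ (hcomm s hs t ht) a ha
    calc ⁅a * s * a⁻¹, a * t * a⁻¹⁆ = a * ⁅s, t⁆ * a⁻¹ := by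
          simp only [commutatorElement_def]
          group
      _ = ⁅s, t⁆ * a * a⁻¹ := by rw [h1]
      _ = ⁅s, t⁆ := by group
  -- `F` is a homomorphism
  have hF : ∀ h ∈ H, ∀ a ∈ P, ∀ b ∈ P, ⁅h, (a * b) * h * (a * b)⁻¹⁆ = ⁅h, a * h * a⁻¹⁆ * ⁅h, b * h * b⁻¹⁆ := by
    intro h hh a ha b hb
    have hha := hPH a ha h hh
    have hhc := hPH (a * b) (P.mul_mem ha hb) h hh
    have hhb := hPH b hb h hh
    have hx : h⁻¹ * (a * h * a⁻¹) ∈ LL P h := mem_LL ha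
    have hy : h⁻¹ * ((a * b) * h * (a * b)⁻¹) ∈ LL P h := mem_LL (P.mul_mem ha hb)
    have hxH : h⁻¹ * (a * h * a⁻¹) ∈ H := H.mul_mem (H.inv_mem hh) hha
    have hyH : h⁻¹ * ((a * b) * h * (a * b)⁻¹) ∈ H := H.mul_mem (H.inv_mem hh) hhc
    have h1 : ⁅h⁻¹ * (a * h * a⁻¹), h⁻¹ * ((a * b) * h * (a * b)⁻¹)⁆ = 1 := by
      apply hLL h hh _ (hcomm _ hxH _ hyH)
      rw [commutatorElement_def]
      exact (LL P h).mul_mem ((LL P h).mul_mem ((LL P h).mul_mem hx hy) ((LL P h).inv_mem hx)) ((LL P h).inv_mem hy)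
    rw [hml _ (H.inv_mem hh) _ hha _ hyH, hmr _ (H.inv_mem hh) _ (H.inv_mem hh) _ hhc,
      hmr _ hha _ (H.inv_mem hh) _ hhc, hinvl h hh _ (H.inv_mem hh), hinvr h hh h hh, hinvl h hh _ hhc,
      hinvr _ hha h hh] at h1
    have h2 : ⁅h, h⁆ = 1 := commutatorElement_self h
    have h3 : ⁅a * h * a⁻¹, h⁆ = ⁅h, a * h * a⁻¹⁆⁻¹ := (commutatorElement_inv h _).symm
    have h4 : ⁅a * h * a⁻¹, (a * b) * h * (a * b)⁻¹⁆ = ⁅h, b * h * b⁻¹⁆ := by
      have h5 : (a * b) * h * (a * b)⁻¹ = a * (b * h * b⁻¹) * a⁻¹ := by group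
      rw [h5]
      exact hconjP a ha h hh _ hhb
    rw [h2, h3, h4] at h1
    simp only [one_mul, inv_inv] at h1
    exact inv_mul_eq_one.1 h1
  have hF1 : ∀ h ∈ H, ∀ a ∈ P, ⁅h, a * h * a⁻¹⁆ = 1 := by
    intro h hh a ha
    have hpow : ∀ n : ℕ, ⁅h, (a ^ n) * h * (a ^ n)⁻¹⁆ = ⁅h, a * h * a⁻¹⁆ ^ n := by
      intro n
      induction n with
      | zero => simp [commutatorElement_self]
      | succ n ih =>
        have h1 := hF h hh (a ^ n) (P.pow_mem ha n) a ha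
        rw [pow_succ, h1, ih, pow_succ]
    have ha1 : a ^ p = 1 := by
      have := pow_card_eq_one' (G := P) (x := ⟨a, ha⟩)
      rw [hcard] at this
      exact congrArg Subtype.val this
    have h2 := hpow p
    rw [ha1] at h2
    simp only [one_mul, inv_one, mul_one, commutatorElement_self] at h2
    have hmemV : ⁅h, a * h * a⁻¹⁆ ∈ V := hcomm h hh _ (hPH a ha h hh)
    have h3 : orderOf ⁅h, a * h * a⁻¹⁆ ∣ p := orderOf_dvd_of_pow_eq_one h2.symm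
    have h4 : orderOf ⁅h, a * h * a⁻¹⁆ ∣ Nat.card V := Subgroup.orderOf_dvd_natCard V hmemV
    exact orderOf_eq_one_iff.1 (Nat.eq_one_of_dvd_coprimes hcop h4 h3)
  -- polarization
  have hpol : ∀ s ∈ H, ∀ t ∈ H, ∀ a ∈ P, ⁅s, a * t * a⁻¹⁆ * ⁅t, a * s * a⁻¹⁆ = 1 := by
    intro s hs t ht a ha
    have h1 := hF1 (s * t) (H.mul_mem hs ht) a ha
    have hsa := hPH a ha s hs
    have hta := hPH a ha t ht
    have h2 : a * (s * t) * a⁻¹ = (a * s * a⁻¹) * (a * t * a⁻¹) := by group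
    rw [h2, hml s hs t ht _ (H.mul_mem hsa hta), hmr s hs _ hsa _ hta, hmr t ht _ hsa _ hta, hF1 s hs a ha,
      hF1 t ht a ha, one_mul, mul_one] at h1
    exact h1
  have hsym : ∀ s ∈ H, ∀ t ∈ H, ∀ a ∈ P, ⁅s, a * t * a⁻¹⁆ = ⁅s, a⁻¹ * t * a⁻¹⁻¹⁆ := by
    intro s hs t ht a ha
    have h1 := hpol s hs t ht a ha
    have h2 : ⁅s, a * t * a⁻¹⁆ = ⁅t, a * s * a⁻¹⁆⁻¹ := eq_inv_of_mul_eq_one_left h1
    have hsa := hPH a ha s hs
    have h3 : ⁅t, a * s * a⁻¹⁆⁻¹ = ⁅a * s * a⁻¹, t⁆ := commutatorElement_inv t _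
    have h4 := hconjP a⁻¹ (P.inv_mem ha) _ hsa _ ht
    have h5 : a⁻¹ * (a * s * a⁻¹) * a⁻¹⁻¹ = s := by group
    rw [h5] at h4
    rw [h2, h3, h4]
  have hsq : ∀ s ∈ H, ∀ t ∈ H, ∀ a ∈ P, ⁅s, (a * a) * t * (a * a)⁻¹⁆ = ⁅s, t⁆ := by
    intro s hs t ht a ha
    have hta := hPH a ha t ht
    have h1 := hsym s hs _ hta a ha
    have h2 : a * (a * t * a⁻¹) * a⁻¹ = (a * a) * t * (a * a)⁻¹ := by group
    have h3 : a⁻¹ * (a * t * a⁻¹) * a⁻¹⁻¹ = t := by group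
    rw [h2, h3] at h1
    exact h1
  have hsqn : ∀ a ∈ P, ∀ n : ℕ, ∀ s ∈ H, ∀ t ∈ H, ⁅s, ((a * a) ^ n) * t * ((a * a) ^ n)⁻¹⁆ = ⁅s, t⁆ := by
    intro a ha n
    induction n with
    | zero =>
      intro s hs t ht
      simp
    | succ n ih =>
      intro s hs t ht
      have hc : (a * a) ^ n * t * ((a * a) ^ n)⁻¹ ∈ H :=
        hPH _ (P.pow_mem (P.mul_mem ha ha) n) t ht
      have h1 := hsq s hs _ hc a ha
      have h2 : (a * a) * ((a * a) ^ n * t * ((a * a) ^ n)⁻¹) * (a * a)⁻¹ =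
          (a * a) ^ (n + 1) * t * ((a * a) ^ (n + 1))⁻¹ := by
        generalize a * a = c
        rw [pow_succ', mul_inv_rev]
        simp only [mul_assoc]
      rw [h2, ih s hs t ht] at h1
      exact h1
  have hfix : ∀ s ∈ H, ∀ t ∈ H, ∀ a ∈ P, ⁅s, a * t * a⁻¹⁆ = ⁅s, t⁆ := by
    intro s hs t ht a ha
    have hodd : Odd p := hp.odd_of_ne_two hp2
    obtain ⟨m, hm⟩ := hodd
    have ha1 : a ^ p = 1 := by
      have := pow_card_eq_one' (G := P) (x := ⟨a, ha⟩)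
      rw [hcard] at this
      exact congrArg Subtype.val this
    have h1 : (a * a) ^ (m + 1) = a := by
      have h2 : (a * a) ^ (m + 1) = a ^ (2 * m + 2) := by
        rw [← pow_two, ← pow_mul]
        congr 1
      rw [h2, show 2 * m + 2 = p + 1 by omega, pow_succ, ha1, one_mul]
    have h3 := hsqn a ha (m + 1) s hs t ht
    rwa [h1] at h3
  intro s hs t ht a ha
  have hta := hPH a ha t ht
  have h1 : ⁅s, t⁻¹ * (a * t * a⁻¹)⁆ = 1 := by
    rw [hmr s hs _ (H.inv_mem ht) _ hta, hinvr s hs t ht, hfix s hs t ht a ha]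
    group
  exact commutatorElement_eq_one_iff_mul_comm.1 h1

/-- Commutators of `H` commute with an element whose commutators with `H` lie in a central subgroup. -/
theorem commute_comm_of_central {H V : Subgroup Γ} {d : Γ} (hd : ∀ h ∈ H, ⁅d, h⁆ ∈ V)
    (hcen : ∀ v ∈ V, ∀ x ∈ H, v * x = x * v) (hVH : V ≤ H) {x y : Γ} (hx : x ∈ H) (hy : y ∈ H) :
    d * ⁅x, y⁆ = ⁅x, y⁆ * d := by
  have hmr : ∀ t₁ ∈ H, ∀ t₂ ∈ H, ⁅d, t₁ * t₂⁆ = ⁅d, t₁⁆ * ⁅d, t₂⁆ := by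
    intro t₁ ht₁ t₂ ht₂
    have h1 : ⁅d, t₂⁆ * t₁⁻¹ = t₁⁻¹ * ⁅d, t₂⁆ := hcen _ (hd t₂ ht₂) _ (H.inv_mem ht₁)
    calc ⁅d, t₁ * t₂⁆ = d * t₁ * d⁻¹ * ⁅d, t₂⁆ * t₁⁻¹ := by
          simp only [commutatorElement_def]
          group
      _ = d * t₁ * d⁻¹ * (⁅d, t₂⁆ * t₁⁻¹) := by group
      _ = d * t₁ * d⁻¹ * (t₁⁻¹ * ⁅d, t₂⁆) := by rw [h1]
      _ = ⁅d, t₁⁆ * ⁅d, t₂⁆ := by
          simp only [commutatorElement_def]
          group
  have hinv : ∀ t ∈ H, ⁅d, t⁻¹⁆ = ⁅d, t⁆⁻¹ := by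
    intro t ht
    have h1 := hmr t ht t⁻¹ (H.inv_mem ht)
    rw [mul_inv_cancel, commutatorElement_one_right] at h1
    exact eq_inv_of_mul_eq_one_right h1.symm
  have h1 : ⁅d, ⁅x, y⁆⁆ = 1 := by
    have h2 : ⁅x, y⁆ = x * y * x⁻¹ * y⁻¹ := commutatorElement_def x y
    rw [h2, hmr _ (H.mul_mem (H.mul_mem hx hy) (H.inv_mem hx)) _ (H.inv_mem hy),
      hmr _ (H.mul_mem hx hy) _ (H.inv_mem hx), hmr _ hx _ hy, hinv x hx, hinv y hy]
    have h3 : ⁅d, y⁆ * ⁅d, x⁆⁻¹ = ⁅d, x⁆⁻¹ * ⁅d, y⁆ :=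
      hcen _ (hd y hy) _ (H.inv_mem (hVH (hd x hx)))
    calc ⁅d, x⁆ * ⁅d, y⁆ * ⁅d, x⁆⁻¹ * ⁅d, y⁆⁻¹ = ⁅d, x⁆ * (⁅d, y⁆ * ⁅d, x⁆⁻¹) * ⁅d, y⁆⁻¹ := by group
      _ = ⁅d, x⁆ * (⁅d, x⁆⁻¹ * ⁅d, y⁆) * ⁅d, y⁆⁻¹ := by rw [h3]
      _ = 1 := by group
  exact commutatorElement_eq_one_iff_mul_comm.1 h1

namespace Setup

variable {p : ℕ} {P H : Subgroup Γ} (h : Setup p P H)

include h

/-- `H` has class two over `V`. -/
theorem deriv_le {V : Subgroup Γ} (hV : Setup2 P H V) {q : ℕ} [hq : Fact q.Prime] (hHq : IsPGroup q H)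
    (hc : ¬ H ⊓ centralizer (P : Set Γ) ≤ YY P H) : ∀ s ∈ H, ∀ t ∈ H, ⁅s, t⁆ ∈ V := by
  classical
  haveI hHn : H.Normal := h.hnorm
  haveI hVn : V.Normal := hV.minV.1
  have hVb : V ≠ ⊥ := hV.minV.2.1
  have hVH := hV.hVH
  have hPH : P ≤ normalizer (H : Set Γ) := h.actH.normalizes
  have hcen : ∀ v ∈ V, ∀ x ∈ H, v * x = x * v := fun v hv x hx =>
    (Subgroup.mem_centralizer_iff.1 (hV.central hv) x hx).symm
  have hVneH : V ≠ H := by
    intro he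
    have h1 : ⁅V, P⁆ = ⊥ := by
      rw [Subgroup.commutator_eq_bot_iff_le_centralizer]
      exact hV.fixed
    have h2 := h.heq
    rw [← he, h1] at h2
    exact hVb h2.symm
  let π := QuotientGroup.mk' V
  have hπs : Function.Surjective π := QuotientGroup.mk'_surjective V
  have hπ1 : ∀ x, π x = 1 ↔ x ∈ V := fun x => QuotientGroup.eq_one_iff x
  have hcommπ : ∀ x y, π x * π y = π y * π x ↔ ⁅x, y⁆ ∈ V := by
    intro x y
    rw [← hπ1, commutatorElement_def]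
    simp only [map_mul, map_inv]
    constructor
    · intro he
      rw [he]
      group
    · intro he
      rw [mul_inv_eq_one, mul_inv_eq_iff_eq_mul] at he
      exact he
  set Hb := H.map π with hHb
  have hHbn : Hb.Normal := hHn.map π hπs
  have hHbq : IsPGroup q Hb := hHq.map π
  obtain ⟨a, haH, haV, haZ⟩ : ∃ a ∈ H, a ∉ V ∧ ∀ y ∈ H, ⁅a, y⁆ ∈ V := by
    have hnt : Nontrivial Hb := by
      rw [Subgroup.nontrivial_iff_ne_bot]
      intro hb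
      apply hVneH
      apply le_antisymm hVH
      intro x hx
      have h1 : π x ∈ Hb := ⟨x, hx, rfl⟩
      rw [hb, Subgroup.mem_bot] at h1
      exact (hπ1 x).1 h1
    haveI := hnt
    haveI := hHbq.center_nontrivial
    obtain ⟨z, hz⟩ := exists_ne (1 : Subgroup.center Hb)
    obtain ⟨a, ha, hae⟩ := (z : Hb).2
    have hz1 : ((z : Hb) : Γ ⧸ V) ≠ 1 := fun he => hz (Subtype.ext (Subtype.ext he))
    refine ⟨a, ha, ?_, ?_⟩
    · intro haV
      apply hz1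
      rw [← hae]
      exact (hπ1 a).2 haV
    · intro y hy
      rw [← hcommπ, hae]
      have h1 := (Subgroup.mem_center_iff.1 z.2) ⟨π y, y, hy, rfl⟩
      have h2 := congrArg Subtype.val h1
      exact h2.symm
  obtain ⟨g, hgH, hag⟩ : ∃ g ∈ H, a * g ≠ g * a := by
    by_contra hno
    push Not at hno
    apply haV
    apply hV.hZ
    refine Subgroup.mem_inf.2 ⟨haH, ?_⟩
    rw [Subgroup.mem_centralizer_iff]
    intro y hy
    exact (hno y hy).symm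
  have hu1 : ⁅a, g⁆ ≠ 1 := by
    intro he
    exact hag (commutatorElement_eq_one_iff_mul_comm.1 he)
  have huV : ⁅a, g⁆ ∈ V := haZ g hgH
  set Z₂ := H ⊓ (centralizer (Hb : Set (Γ ⧸ V))).comap π with hZ₂
  have hZ₂mem : ∀ x, x ∈ Z₂ ↔ x ∈ H ∧ ∀ y ∈ H, ⁅x, y⁆ ∈ V := by
    intro x
    rw [hZ₂, Subgroup.mem_inf, Subgroup.mem_comap, Subgroup.mem_centralizer_iff]
    constructor
    · rintro ⟨h1, h2⟩
      refine ⟨h1, fun y hy => ?_⟩
      rw [← hcommπ]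
      exact (h2 (π y) ⟨y, hy, rfl⟩).symm
    · rintro ⟨h1, h2⟩
      refine ⟨h1, ?_⟩
      rintro _ ⟨y, hy, rfl⟩
      exact ((hcommπ x y).2 (h2 y hy)).symm
  have hZ₂n : Z₂.Normal := by
    haveI : (centralizer (Hb : Set (Γ ⧸ V))).Normal := inferInstance
    haveI : ((centralizer (Hb : Set (Γ ⧸ V))).comap π).Normal := Subgroup.Normal.comap inferInstance π
    exact Subgroup.normal_inf_normal _ _
  have hZ₂H : Z₂ ≤ H := inf_le_left
  by_cases hZH : Z₂ = H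
  · intro s hs t ht
    have hs' : s ∈ Z₂ := by
      rw [hZH]
      exact hs
    exact ((hZ₂mem s).1 hs').2 t ht
  exfalso
  have hPZ₂ : P ≤ normalizer (Z₂ : Set Γ) := h.norm_of_normal hZ₂n P
  have haZ₂ : a ∈ Z₂ := (hZ₂mem a).2 ⟨haH, haZ⟩
  have hVZ₂ : V ≤ Z₂ := by
    intro v hv
    refine (hZ₂mem v).2 ⟨hVH hv, fun y hy => ?_⟩
    have h1 : ⁅v, y⁆ = 1 := commutatorElement_eq_one_iff_mul_comm.2 (hcen v hv y hy)
    rw [h1]
    exact V.one_mem
  set G₁ := closure {c | ∃ b ∈ P, c = b * g * b⁻¹} with hG₁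
  have hG₁H : G₁ ≤ H := by
    rw [hG₁, closure_le]
    rintro _ ⟨b, hb, rfl⟩
    exact conj_mem_of_le_normalizer hPH hb hgH
  have hgG₁ : g ∈ G₁ := Subgroup.subset_closure ⟨1, P.one_mem, by group⟩
  have hPG₁ : P ≤ normalizer (G₁ : Set Γ) := by
    apply le_normalizer_of_conj_mem
    intro a' ha' s hs
    have h1 : G₁ ≤ G₁.comap (MulAut.conj a').toMonoidHom := by
      rw [hG₁, closure_le]
      rintro _ ⟨b, hb, rfl⟩
      rw [SetLike.mem_coe, Subgroup.mem_comap]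
      apply Subgroup.subset_closure
      refine ⟨a' * b, P.mul_mem ha' hb, ?_⟩
      simp only [MulEquiv.coe_toMonoidHom, MulAut.conj_apply]
      group
    simpa [MulAut.conj_apply] using h1 hs
  have hSH : G₁ ⊔ Z₂ = H := by
    by_contra hne
    exact hu1 (h.deriv_meet hV (sup_le hG₁H hZ₂H) hne (le_normalizer_sup hPG₁ hPZ₂) huV
      (commutator_mem_commutator ((le_sup_right : Z₂ ≤ G₁ ⊔ Z₂) haZ₂) ((le_sup_left : G₁ ≤ G₁ ⊔ Z₂) hgG₁)))
  have hG₁ne : G₁ ≠ H := by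
    intro he
    apply hc
    have hLH : LL P g = H := LL_eq_of_generated hgH hPH hHq.isNilpotent h.heq (by rw [← he])
    intro x hx
    obtain ⟨h1, h2⟩ := Subgroup.mem_inf.1 hx
    exact mem_YY hgH (by rw [hLH]; exact h1) h2
  have hactG := h.act hG₁H hPG₁
  set L := ⁅G₁, P⁆ with hL
  have hPL : P ≤ normalizer (L : Set Γ) := hactG.le_normalizer_commutator
  have hLG₁ : L ≤ G₁ := hactG.commutator_le_self
  have hLH : L ≤ H := hLG₁.trans hG₁H
  have hG₁L : G₁ ≤ normalizer (L : Set Γ) := hactG.le_normalizer_commutator'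
  set M := L ⊔ Z₂ with hM
  have hPM : P ≤ normalizer (M : Set Γ) := le_normalizer_sup hPL hPZ₂
  have hLM : L ≤ M := le_sup_left
  have hZ₂M : Z₂ ≤ M := le_sup_right
  have hMH : M ≤ H := sup_le hLH hZ₂H
  have hHM : H ≤ normalizer (M : Set Γ) := by
    rw [← hSH]
    refine sup_le ?_ ?_
    · apply le_normalizer_of_conj_mem
      intro x hx s hs
      have h1 : M ≤ M.comap (MulAut.conj x).toMonoidHom := by
        refine sup_le ?_ ?_
        · intro l hl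
          rw [Subgroup.mem_comap]
          simp only [MulEquiv.coe_toMonoidHom, MulAut.conj_apply]
          exact hLM (conj_mem_of_le_normalizer hG₁L hx hl)
        · intro z hz
          rw [Subgroup.mem_comap]
          simp only [MulEquiv.coe_toMonoidHom, MulAut.conj_apply]
          exact hZ₂M (hZ₂n.conj_mem z hz x)
      simpa [MulAut.conj_apply] using h1 hs
    · apply le_normalizer_of_conj_mem
      intro z hz s hs
      have h1 : M ≤ M.comap (MulAut.conj z).toMonoidHom := by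
        refine sup_le ?_ ?_
        · intro l hl
          rw [Subgroup.mem_comap]
          simp only [MulEquiv.coe_toMonoidHom, MulAut.conj_apply]
          have h2 : z * l * z⁻¹ = ⁅z, l⁆ * l := by
            rw [commutatorElement_def]
            group
          rw [h2]
          exact M.mul_mem (hZ₂M (hVZ₂ (((hZ₂mem z).1 hz).2 l (hLH hl)))) (hLM hl)
        · intro z' hz'
          rw [Subgroup.mem_comap]
          simp only [MulEquiv.coe_toMonoidHom, MulAut.conj_apply]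
          exact hZ₂M (hZ₂n.conj_mem z' hz' z)
      simpa [MulAut.conj_apply] using h1 hs
  have hMn : M.Normal := h.normal_of hHM hPM
  have hMeq : M = H := by
    apply le_antisymm hMH
    let π₂ := QuotientGroup.mk' M
    have hπ₂1 : ∀ x, π₂ x = 1 ↔ x ∈ M := fun x => QuotientGroup.eq_one_iff x
    have hcommπ₂ : ∀ x y, π₂ x * π₂ y = π₂ y * π₂ x ↔ ⁅x, y⁆ ∈ M := by
      intro x y
      rw [← hπ₂1, commutatorElement_def]
      simp only [map_mul, map_inv]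
      constructor
      · intro he
        rw [he]
        group
      · intro he
        rw [mul_inv_eq_one, mul_inv_eq_iff_eq_mul] at he
        exact he
    have hT : H ≤ (centralizer ((P.map π₂ : Subgroup (Γ ⧸ M)) : Set (Γ ⧸ M))).comap π₂ := by
      rw [← hSH]
      refine sup_le ?_ ?_
      · intro x hx
        rw [Subgroup.mem_comap, Subgroup.mem_centralizer_iff]
        rintro _ ⟨c, hc', rfl⟩
        exact ((hcommπ₂ x c).2 (hLM (commutator_mem_commutator hx hc'))).symm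
      · intro z hz
        rw [Subgroup.mem_comap, Subgroup.mem_centralizer_iff]
        rintro _ ⟨c, hc', rfl⟩
        refine ((hcommπ₂ z c).2 (hZ₂M ?_)).symm
        have h2 : ⁅z, c⁆ = z * (c * z⁻¹ * c⁻¹) := by
          rw [commutatorElement_def]
          group
        rw [h2]
        exact Z₂.mul_mem hz (hZ₂n.conj_mem _ (Z₂.inv_mem hz) c)
    have hcm : ⁅H, P⁆ ≤ M := by
      rw [Subgroup.commutator_le]
      intro s hs c hc'
      have h1 := hT hs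
      rw [Subgroup.mem_comap, Subgroup.mem_centralizer_iff] at h1
      exact (hcommπ₂ s c).1 (h1 (π₂ c) ⟨c, hc', rfl⟩).symm
    rw [h.heq] at hcm
    exact hcm
  -- `L` is abelian
  haveI hZ₂n' : Z₂.Normal := hZ₂n
  set K₀ := L ⊓ centralizer (Z₂ : Set Γ) with hK₀
  have hK₀n : K₀.Normal := by
    apply h.normal_of
    · rw [← hMeq]
      refine sup_le ?_ ?_
      · apply le_normalizer_of_conj_mem
        intro x hx k hk
        obtain ⟨hk1, hk2⟩ := Subgroup.mem_inf.1 hk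
        refine Subgroup.mem_inf.2 ⟨L.mul_mem (L.mul_mem hx hk1) (L.inv_mem hx), ?_⟩
        exact (inferInstance : (centralizer (Z₂ : Set Γ)).Normal).conj_mem k hk2 x
      · apply le_normalizer_of_conj_mem
        intro z hz k hk
        obtain ⟨hk1, hk2⟩ := Subgroup.mem_inf.1 hk
        have h1 : z * k * z⁻¹ = k := by
          rw [Subgroup.mem_centralizer_iff.1 hk2 z hz]
          group
        rw [h1]
        exact hk
    · apply le_normalizer_of_conj_mem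
      intro b hb k hk
      obtain ⟨hk1, hk2⟩ := Subgroup.mem_inf.1 hk
      refine Subgroup.mem_inf.2 ⟨conj_mem_of_le_normalizer hPL hb hk1, ?_⟩
      exact (inferInstance : (centralizer (Z₂ : Set Γ)).Normal).conj_mem k hk2 b
  have hK₀b : K₀ = ⊥ := by
    by_contra hne
    have hVK := hV.hV3 K₀ hK₀n (inf_le_left.trans hLH) hne
    have hVL : V ≤ L := hVK.trans inf_le_left
    apply hVb
    rw [eq_bot_iff]
    intro v hv
    rw [Subgroup.mem_bot]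
    exact hV.hY v (h.hS G₁ hG₁H hG₁ne hPG₁ (Subgroup.mem_inf.2 ⟨hVL hv, hV.fixed hv⟩)) (hV.central hv)
  have hLab : ∀ l₁ ∈ L, ∀ l₂ ∈ L, ⁅l₁, l₂⁆ = 1 := by
    intro l₁ hl₁ l₂ hl₂
    have h1 : ⁅l₁, l₂⁆ ∈ K₀ := by
      refine Subgroup.mem_inf.2 ⟨?_, ?_⟩
      · rw [commutatorElement_def]
        exact L.mul_mem (L.mul_mem (L.mul_mem hl₁ hl₂) (L.inv_mem hl₁)) (L.inv_mem hl₂)
      · rw [Subgroup.mem_centralizer_iff]
        intro z hz
        exact commute_comm_of_central (fun y hy => ((hZ₂mem z).1 hz).2 y hy) hcen hVH (hLH hl₁) (hLH hl₂)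
    rw [hK₀b, Subgroup.mem_bot] at h1
    exact h1
  have hLZ : L ≤ Z₂ := by
    intro l hl
    refine (hZ₂mem l).2 ⟨hLH hl, ?_⟩
    have hT : H ≤ (centralizer ({π l} : Set (Γ ⧸ V))).comap π := by
      rw [← hMeq]
      refine sup_le ?_ ?_
      · intro x hx
        rw [Subgroup.mem_comap, Subgroup.mem_centralizer_singleton_iff]
        refine (hcommπ x l).2 ?_
        rw [hLab x hx l hl]
        exact V.one_mem
      · intro z hz
        rw [Subgroup.mem_comap, Subgroup.mem_centralizer_singleton_iff]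
        exact (hcommπ z l).2 (((hZ₂mem z).1 hz).2 l (hLH hl))
    intro y hy
    have h1 := hT hy
    rw [Subgroup.mem_comap, Subgroup.mem_centralizer_singleton_iff] at h1
    exact (hcommπ l y).1 h1.symm
  apply hZH
  apply le_antisymm hZ₂H
  rw [← hMeq]
  exact sup_le hLZ le_rfl

end Setup

end Cfsg.Agent.Lib.Coprime.TG
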