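import Mathlib
import Cfsg.Agent.Lib.Coprime.TG6

/-!
# Fixed points of `[H, P]`: the conclusion
-/

set_option autoImplicit false
set_option linter.unusedSectionVars false
set_option linter.style.haveILetI false
set_option linter.unusedVariables false

namespace Cfsg.Agent.Lib.Coprime.TG

open Subgroup Cfsg Cfsg.Agent.Lib.Coprime Cfsg.Agent.Lib.Basic
open scoped commutatorElement

universe u

theorem Setup.final {Γ : Type*} [Group Γ] [Finite Γ] {p : ℕ} {P H : Subgroup Γ} (h : Setup p P H) :
    H ⊓ centralizer (P : Set Γ) ≤ YY P H := by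
  classical
  by_contra hc
  obtain ⟨V, hV⟩ := h.exists_setup2 hc
  haveI hΓ : Group.IsSolvable Γ := h.solvable
  obtain ⟨-, q, hqp, hVq⟩ := hV.minV.isPGroup
  haveI : Fact q.Prime := ⟨hqp⟩
  have hHq := h.isP hV hVq
  have hcomm := h.deriv_le hV hHq hc
  have hVH := hV.hVH
  have hcen : ∀ v ∈ V, ∀ x ∈ H, v * x = x * v := fun v hv x hx =>
    (Subgroup.mem_centralizer_iff.1 (hV.central hv) x hx).symm
  have hVC : ∀ v ∈ V, ∀ a ∈ P, a * v = v * a := fun v hv a ha =>
    Subgroup.mem_centralizer_iff.1 (hV.fixed hv) a ha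
  have hPH : ∀ a ∈ P, ∀ s ∈ H, a * s * a⁻¹ ∈ H := fun a ha s hs =>
    conj_mem_of_le_normalizer h.actH.normalizes ha hs
  have hcopV : (Nat.card V).Coprime p :=
    Nat.Coprime.coprime_dvd_left (Subgroup.card_dvd_of_le hVH) h.hcop
  have hLL : ∀ g ∈ H, ∀ v ∈ V, v ∈ LL P g → v = 1 := fun g hg v hv hvL =>
    hV.hY v (mem_YY hg hvL (hV.fixed hv)) (hV.central hv)
  have hcl := class_two hcomm hcen hVH hVC hPH h.hp h.hp2 h.hcard hcopV hLL
  have h1 : ⁅H, P⁆ ≤ centralizer (H : Set Γ) := by
    apply comm_le_of_forall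
    intro g hg
    rw [LL, closure_le]
    rintro _ ⟨a, ha, rfl⟩
    rw [SetLike.mem_coe, Subgroup.mem_centralizer_iff]
    intro s hs
    exact hcl s hs g hg a ha
  rw [h.heq] at h1
  have hHV : H ≤ V := fun x hx => hV.hZ (Subgroup.mem_inf.2 ⟨hx, h1 hx⟩)
  have h2 : ⁅H, P⁆ = ⊥ := by
    rw [Subgroup.commutator_eq_bot_iff_le_centralizer]
    exact hHV.trans hV.fixed
  rw [h.heq] at h2
  apply hV.minV.2.1
  rw [eq_bot_iff, ← h2]
  exact hVH

theorem main_aux (p : ℕ) (hp : p.Prime) (hp2 : p ≠ 2) (n : ℕ)
    (ih : ∀ m < n, ∀ (Γ : Type u) [Group Γ] [Finite Γ] (P H : Subgroup Γ), Nat.card H = m → Nat.card P = p →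
      Group.IsSolvable H → (Nat.card H).Coprime p → P ≤ normalizer (H : Set Γ) → TGProp P H)
    (Γ : Type u) [Group Γ] [Finite Γ] (P H : Subgroup Γ) (hn : Nat.card H = n) (hcard : Nat.card P = p)
    (hsol : Group.IsSolvable H) (hcop : (Nat.card H).Coprime p) (hnorm : P ≤ normalizer (H : Set Γ))
    (htop : H ⊔ P = ⊤) : TGProp P H := by
  classical
  haveI : Fact p.Prime := ⟨hp⟩
  have hPp : IsPGroup p P := IsPGroup.of_card (n := 1) (by rw [hcard, pow_one])
  have hPsol : Group.IsSolvable P := by
    haveI := hPp.isNilpotent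
    infer_instance
  have hact : CoprimeAction P H := ⟨hnorm, by rw [hcard]; exact hcop.symm, Or.inl hPsol⟩
  have hHn : H.Normal := by
    have h4 : H ⊔ P ≤ normalizer (H : Set Γ) := sup_le Subgroup.le_normalizer hnorm
    rw [htop] at h4
    exact ⟨fun x hx g => (Subgroup.mem_normalizer_iff.1 (h4 (Subgroup.mem_top g)) x).1 hx⟩
  have hlt : ∀ S : Subgroup Γ, S ≤ H → S ≠ H → Nat.card S < n := by
    intro S hSH hne
    rw [← hn]
    apply lt_of_le_of_ne (Subgroup.card_le_of_le hSH)
    intro he
    exact hne (Subgroup.eq_of_le_of_card_ge hSH he.ge)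
  have hIH : ∀ S : Subgroup Γ, S ≤ H → S ≠ H → P ≤ normalizer (S : Set Γ) → TGProp P S := by
    intro S hSH hne hSP
    haveI := hsol
    refine ih _ (hlt S hSH hne) Γ P S rfl hcard ?_ ?_ hSP
    · exact solvable_of_solvable_injective (Subgroup.inclusion_injective hSH)
    · exact Nat.Coprime.coprime_dvd_left (Subgroup.card_dvd_of_le hSH) hcop
  by_cases heq : ⁅H, P⁆ = H
  · have hset : Setup p P H := by
      refine ⟨hp, hp2, hcard, hsol, hcop, hHn, htop, heq, ?_, ?_⟩
      · intro S hSH hne hSP
        exact (hIH S hSH hne hSP).trans (YY_mono hSH)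
      · intro R hRn hRH hRb c hc
        haveI := hRn
        obtain ⟨hc1, hc2⟩ := Subgroup.mem_inf.1 hc
        refine exists_decomp P H R hact hRH ?_ (by rw [heq]; exact hc1) hc2
        set π := QuotientGroup.mk' R with hπ
        have hπs : Function.Surjective π := QuotientGroup.mk'_surjective R
        have hcardb : Nat.card (H.map π) = R.relIndex H := by
          have : π.ker.relIndex H = Nat.card (H.map π) := Subgroup.relIndex_ker H π
          rw [hπ, QuotientGroup.ker_mk'] at this
          exact this.symm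
        have hdvd : Nat.card (H.map π) ∣ Nat.card H := by
          rw [hcardb]
          exact Subgroup.relIndex_dvd_card R H
        refine ih _ ?_ (Γ ⧸ R) (P.map π) (H.map π) rfl ?_ ?_ ?_ ?_
        · rw [hcardb, ← hn]
          have h1 : (R.subgroupOf H).index * Nat.card (R.subgroupOf H) = Nat.card H :=
            (R.subgroupOf H).index_mul_card
          have h2 : Nat.card (R.subgroupOf H) = Nat.card R := by
            exact Nat.card_congr (Subgroup.subgroupOfEquivOfLe hRH).toEquiv
          have h3 : 1 < Nat.card R := by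
            haveI : Nontrivial R := (Subgroup.nontrivial_iff_ne_bot R).2 hRb
            exact Finite.one_lt_card
          rw [h2] at h1
          rw [Subgroup.relIndex, ← h1]
          have h4 : 0 < (R.subgroupOf H).index := Nat.pos_of_ne_zero (Subgroup.index_ne_zero_of_finite)
          nlinarith
        · rw [Cfsg.Agent.Lib.Coprime.BP.card_map_of_inj, hcard]
          intro x hx hx1
          have hxR : x ∈ R := (QuotientGroup.eq_one_iff x).1 hx1
          have h1 : orderOf x ∣ p := by
            rw [← hcard]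
            exact Subgroup.orderOf_dvd_natCard P hx
          have h2 : orderOf x ∣ Nat.card H := Subgroup.orderOf_dvd_natCard H (hRH hxR)
          exact orderOf_eq_one_iff.1 (Nat.eq_one_of_dvd_coprimes hcop h2 h1)
        · haveI := hsol
          exact solvable_of_surjective (f := π.subgroupMap H) (π.subgroupMap_surjective H)
        · exact Nat.Coprime.coprime_dvd_left hdvd hcop
        · haveI : (H.map π).Normal := hHn.map π hπs
          intro a _
          rw [Subgroup.mem_normalizer_iff]
          intro y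
          constructor
          · intro hy
            exact (inferInstance : (H.map π).Normal).conj_mem y hy a
          · intro hy
            have := (inferInstance : (H.map π).Normal).conj_mem _ hy a⁻¹
            simpa [mul_assoc] using this
    intro c hc
    obtain ⟨hc1, hc2⟩ := Subgroup.mem_inf.1 hc
    exact hset.final (Subgroup.mem_inf.2 ⟨hact.commutator_le_self hc1, hc2⟩)
  · have h1 : TGProp P ⁅H, P⁆ := hIH _ hact.commutator_le_self heq hact.le_normalizer_commutator
    have h2 : ⁅⁅H, P⁆, P⁆ = ⁅H, P⁆ := hact.commutator_commutator_eq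
    intro c hc
    apply YY_mono (hact.commutator_le_self : ⁅H, P⁆ ≤ H)
    apply h1
    rw [TGProp, h2] at *
    exact hc

theorem main (p : ℕ) (hp : p.Prime) (hp2 : p ≠ 2) :
    ∀ n : ℕ, ∀ (Γ : Type u) [Group Γ] [Finite Γ] (P H : Subgroup Γ), Nat.card H = n → Nat.card P = p →
      Group.IsSolvable H → (Nat.card H).Coprime p → P ≤ normalizer (H : Set Γ) → TGProp P H := by
  intro n
  induction n using Nat.strong_induction_on with
  | _ n ih =>
    intro Γ _ _ P H hn hcard hsol hcop hnorm
    apply TGProp_of_sup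
    set K := H ⊔ P with hK
    have hHK : H ≤ K := le_sup_left
    have hPK : P ≤ K := le_sup_right
    have hcH : Nat.card (H.subgroupOf K) = Nat.card H :=
      Nat.card_congr (Subgroup.subgroupOfEquivOfLe hHK).toEquiv
    have hcP : Nat.card (P.subgroupOf K) = Nat.card P :=
      Nat.card_congr (Subgroup.subgroupOfEquivOfLe hPK).toEquiv
    apply main_aux p hp hp2 n ih K (P.subgroupOf K) (H.subgroupOf K)
    · rw [hcH, hn]
    · rw [hcP, hcard]
    · haveI := hsol
      exact solvable_of_surjective (f := (Subgroup.subgroupOfEquivOfLe hHK).symm.toMonoidHom)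
        (Subgroup.subgroupOfEquivOfLe hHK).symm.surjective
    · rw [hcH]
      exact hcop
    · intro a ha
      rw [Subgroup.mem_normalizer_iff]
      intro y
      have h1 : (a : Γ) ∈ P := Subgroup.mem_subgroupOf.1 ha
      have h2 := Subgroup.mem_normalizer_iff.1 (hnorm h1) (y : Γ)
      simp only [Subgroup.mem_subgroupOf, Subgroup.coe_mul, InvMemClass.coe_inv]
      exact h2
    · apply Subgroup.map_injective K.subtype_injective
      rw [Subgroup.map_sup, Subgroup.map_subgroupOf_eq_of_le hHK, Subgroup.map_subgroupOf_eq_of_le hPK,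
        ← MonoidHom.range_eq_map, Subgroup.range_subtype]

end Cfsg.Agent.Lib.Coprime.TG
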